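import Mathlib
import Cfsg.Agent.H1.FrobComp
import Cfsg.Agent.H3.Ind
import Cfsg.Agent.H27.Kernel

set_option autoImplicit false

namespace Cfsg.Agent.H25

open Cfsg Cfsg.Agent.H1 Cfsg.Agent.H3
open scoped Pointwise ComplexConjugate

universe u

variable {G : Type u} [Group G] {H : Subgroup G} (hH : IsFrobeniusComplement H)
include hH

/-- Restriction of the induced function. -/
theorem frob_ind_apply_mem [Fintype G] {θ : H → ℂ} (hcf : IsClassFunction H θ) (h1 : θ 1 = 0) (h : H) :
    indFun H θ (h : G) = θ h := by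
  classical
  have hHc : (Nat.card H : ℂ) ≠ 0 := by exact_mod_cast Nat.card_pos.ne'
  by_cases hh : h = 1
  · subst hh
    have := indFun_one_apply H θ
    rw [Subgroup.coe_one, this, h1, mul_zero]
  · have hh' : (h : G) ≠ 1 := fun h2 => hh (Subtype.ext h2)
    have h2 : ∀ x : G, extendByZero H θ (x⁻¹ * h * x) = if x ∈ H then θ h else 0 := by
      intro x
      split_ifs with hx
      · have h3 : x⁻¹ * (h : G) * x ∈ H := H.mul_mem (H.mul_mem (H.inv_mem hx) h.2) hx
        rw [extendByZero_mem H θ h3]
        have := hcf h (⟨x, hx⟩⁻¹ : H)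
        rw [← this]
        congr 1
        apply Subtype.ext
        simp
      · apply extendByZero_not_mem
        intro h3
        apply hx
        have h4 : x⁻¹ * (h : G) * (x⁻¹)⁻¹ ∈ H := by rwa [inv_inv]
        have h5 := frob_mem_of_conj hH h.2 hh' h4
        exact (Subgroup.inv_mem_iff H).1 h5
    have h3 : ∑ x : G, extendByZero H θ (x⁻¹ * h * x) = (Nat.card H : ℂ) * θ h := by
      rw [Finset.sum_congr rfl (fun x _ => h2 x), Finset.sum_ite, Finset.sum_const_zero, add_zero,
        Finset.sum_const, nsmul_eq_mul]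
      congr 2
      rw [Nat.card_eq_fintype_card, Fintype.card_subtype]
    show (Nat.card H : ℂ)⁻¹ * ∑ x : G, extendByZero H θ (x⁻¹ * h * x) = θ h
    rw [h3, ← mul_assoc, inv_mul_cancel₀ hHc, one_mul]

omit hH in
theorem frob_ind_apply_kernel [Fintype G] {θ : H → ℂ} (h1 : θ 1 = 0) {x : G}
    (hx : x ∈ frobeniusKernel H) : indFun H θ x = 0 := by
  rcases hx with rfl | hx
  · rw [indFun_one_apply, h1, mul_zero]
  · show (Nat.card H : ℂ)⁻¹ * ∑ y : G, extendByZero H θ (y⁻¹ * x * y) = 0
    rw [Finset.sum_eq_zero, mul_zero]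
    intro y _
    apply extendByZero_not_mem
    intro h2
    apply hx y
    rw [Subgroup.mem_pointwise_smul_iff_inv_smul_mem, ← map_inv, MulAut.smul_def, MulAut.conj_apply,
      inv_inv]
    exact h2

omit hH in
/-- the exceptional extension of `θ` -/
noncomputable def frobStar [Fintype G] (H : Subgroup G) (θ : H → ℂ) : G → ℂ :=
  indFun H (θ - θ 1 • (fun _ => 1)) + θ 1 • (fun _ => 1)

theorem frobStar_apply_mem [Fintype G] {θ : H → ℂ} (hcf : IsClassFunction H θ) (h : H) :
    frobStar H θ (h : G) = θ h := by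
  have h1 : (θ - θ 1 • (fun _ => 1) : H → ℂ) 1 = 0 := by simp
  have h2 : IsClassFunction H (θ - θ 1 • (fun _ => 1)) :=
    classFun_sub hcf (classFun_smul _ (classFun_const 1))
  have h3 := frob_ind_apply_mem hH h2 h1 h
  rw [frobStar, Pi.add_apply, h3]
  simp

omit hH in
theorem frobStar_apply_kernel [Fintype G] {θ : H → ℂ} {x : G}
    (hx : x ∈ frobeniusKernel H) : frobStar H θ x = θ 1 := by
  have h1 : (θ - θ 1 • (fun _ => 1) : H → ℂ) 1 = 0 := by simp
  rw [frobStar, Pi.add_apply, frob_ind_apply_kernel h1 hx]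
  simp

theorem frobStar_isIrr [Fintype G] {θ : H → ℂ} (hθ : IsIrrCharacter H θ) :
    IsIrrCharacter G (frobStar H θ) := by
  classical
  haveI : Fintype H := Fintype.ofFinite H
  obtain ⟨n, hn, hn1⟩ := irr_one_eq_nat hθ
  have hcf := irr_classFun hθ
  have h1 : (θ - θ 1 • (fun _ => 1) : H → ℂ) 1 = 0 := by simp
  have h2 : IsClassFunction H (θ - θ 1 • (fun _ => 1)) :=
    classFun_sub hcf (classFun_smul _ (classFun_const 1))
  have hg : IsGeneralizedCharacter H (θ - θ 1 • (fun _ => 1)) := by
    apply isGen_sub (isGen_of_irr hθ)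
    rw [hn1]
    exact_mod_cast isGen_intCast_smul (n : ℤ) isGen_one
  have hgs : IsGeneralizedCharacter G (frobStar H θ) := by
    apply isGen_add (isGen_ind H hg)
    rw [hn1]
    exact_mod_cast isGen_intCast_smul (n : ℤ) isGen_one
  apply isIrr_of_gen hgs
  · -- norm
    have hone : IsClassFunction G (fun _ => (1 : ℂ)) := classFun_const 1
    have e1 : classInner (indFun H (θ - θ 1 • (fun _ => 1))) (indFun H (θ - θ 1 • (fun _ => 1))) =
        classInner (θ - θ 1 • (fun _ => 1)) (θ - θ 1 • (fun _ => 1)) := by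
      rw [frobenius_reciprocity H _ (indFun_classFun H _)]
      congr 1
      ext h
      exact frob_ind_apply_mem hH h2 h1 h
    have e2 : classInner (indFun H (θ - θ 1 • (fun _ => 1))) (fun _ => (1 : ℂ)) =
        classInner (θ - θ 1 • (fun _ => 1)) (fun _ : H => (1 : ℂ)) :=
      frobenius_reciprocity H _ hone
    have e3 : classInner (fun _ => (1 : ℂ)) (indFun H (θ - θ 1 • (fun _ => 1))) =
        classInner (fun _ : H => (1 : ℂ)) (θ - θ 1 • (fun _ => 1)) :=
      frobenius_reciprocity' H _ hone
    have e4 : classInner (fun _ : G => (1 : ℂ)) (fun _ => (1 : ℂ)) = 1 := classInner_self_of_irr isIrr_one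
    have e5 : classInner (fun _ : H => (1 : ℂ)) (fun _ => (1 : ℂ)) = 1 := classInner_self_of_irr isIrr_one
    have e6 : classInner θ θ = 1 := classInner_self_of_irr hθ
    have e7 : conj (θ 1) = θ 1 := by rw [hn1]; simp
    unfold frobStar
    simp only [classInner_add_left, classInner_add_right, e1, e2, e3, classInner_smul_left,
      classInner_smul_right, classInner_sub_left, classInner_sub_right, e4, e5, e6, e7]
    ring
  · have : frobStar H θ 1 = θ 1 := by
      have := frobStar_apply_mem hH hcf 1
      simpa using this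
    rw [this, hn1]
    simpa using hn

/-- **Frobenius' theorem**: the Frobenius kernel is a normal subgroup, complementing `H`. -/
theorem frobenius_kernel [Finite G] :
    ∃ N : Subgroup G, (N : Set G) = frobeniusKernel H ∧ N.Normal ∧ Subgroup.IsComplement' N H := by
  classical
  haveI : Fintype G := Fintype.ofFinite G
  haveI : Fintype H := Fintype.ofFinite H
  have hstar : ∀ ψ : IrrCharacter H, IsCharacter G (frobStar H (ψ : H → ℂ)) := fun ψ =>
    irr_isChar (frobStar_isIrr hH ψ.2)
  let N : Subgroup G := ⨅ ψ : IrrCharacter H, Cfsg.Agent.H27.charKer (hstar ψ)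
  have hNn : N.Normal := Subgroup.normal_iInf_normal fun ψ => Cfsg.Agent.H27.charKer_normal (hstar ψ)
  have hone : ∀ ψ : IrrCharacter H, frobStar H (ψ : H → ℂ) 1 = (ψ : H → ℂ) 1 := by
    intro ψ
    have := frobStar_apply_mem hH (irr_classFun ψ.2) 1
    simpa using this
  have hNH : ∀ y : H, (y : G) ∈ N → y = 1 := by
    intro y hy
    have h1 : IsConj y 1 := by
      rw [isConj_iff_irr]
      intro ψ
      have h2 := (Subgroup.mem_iInf.1 hy) ψ
      rw [Cfsg.Agent.H27.mem_charKer, hone, frobStar_apply_mem hH (irr_classFun ψ.2)] at h2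
      exact h2
    exact isConj_one_left.1 h1
  have hset : (N : Set G) = frobeniusKernel H := by
    ext x
    constructor
    · intro hx
      by_contra hxk
      have hxk' : ¬ (x = 1 ∨ ∀ g : G, x ∉ MulAut.conj g • H) := hxk
      push Not at hxk'
      obtain ⟨hx1, g, hg⟩ := hxk'
      rw [Subgroup.mem_pointwise_smul_iff_inv_smul_mem, ← map_inv, MulAut.smul_def, MulAut.conj_apply,
        inv_inv] at hg
      have h1 : g⁻¹ * x * g ∈ N := by
        have := hNn.conj_mem x hx g⁻¹
        rwa [inv_inv] at this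
      have h2 := hNH ⟨_, hg⟩ h1
      apply hx1
      have h3 : g⁻¹ * x * g = 1 := congrArg Subtype.val h2
      have : x = g * (g⁻¹ * x * g) * g⁻¹ := by group
      rw [this, h3]
      group
    · intro hx
      rw [SetLike.mem_coe, Subgroup.mem_iInf]
      intro ψ
      rw [Cfsg.Agent.H27.mem_charKer, hone, frobStar_apply_kernel hx]
  refine ⟨N, hset, hNn, ?_⟩
  apply Subgroup.isComplement'_of_card_mul_and_disjoint
  · have h1 : Nat.card N = H.index := by
      rw [← frob_card_kernel hH, ← hset]
      rfl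
    rw [h1, mul_comm]
    exact H.card_mul_index
  · rw [Subgroup.disjoint_def]
    intro x hxN hxH
    exact congrArg Subtype.val (hNH ⟨x, hxH⟩ hxN)

end Cfsg.Agent.H25
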