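import Cfsg.Prelude
import Cfsg.Agent.H1.FrobComp

set_option autoImplicit false
open Cfsg

/-!
# Building Frobenius groups from fixed-point-free actions
-/

namespace Cfsg.Agent.H25

open scoped Pointwise

theorem frobExt_mem_conj {G : Type*} [Group G] (H : Subgroup G) (g x : G) :
    x ∈ MulAut.conj g • H ↔ g⁻¹ * x * g ∈ H := by
  rw [Subgroup.mem_pointwise_smul_iff_inv_smul_mem, ← map_inv, MulAut.smul_def, MulAut.conj_apply,
    inv_inv]

/-- A fixed-point-free action gives a Frobenius group. -/
theorem frobExt_semidirect {H V : Type*} [Group H] [Group V] (φ : H →* MulAut V)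
    (hH : Nontrivial H) (hV : Nontrivial V) (hfpf : ∀ h : H, h ≠ 1 → ∀ v : V, φ h v = v → v = 1) :
    IsFrobeniusComplement (SemidirectProduct.inr : H →* V ⋊[φ] H).range := by
  refine ⟨?_, ?_, ?_⟩
  · intro h
    obtain ⟨x, hx⟩ := exists_ne (1 : H)
    have h1 : (SemidirectProduct.inr x : V ⋊[φ] H) ∈ (SemidirectProduct.inr : H →* V ⋊[φ] H).range :=
      ⟨x, rfl⟩
    rw [h, Subgroup.mem_bot] at h1
    apply hx
    have := congrArg SemidirectProduct.right h1
    simpa using this
  · intro h
    obtain ⟨v, hv⟩ := exists_ne (1 : V)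
    have h1 : (SemidirectProduct.inl v : V ⋊[φ] H) ∈ (SemidirectProduct.inr : H →* V ⋊[φ] H).range := by
      rw [h]; trivial
    obtain ⟨y, hy⟩ := h1
    apply hv
    have := congrArg SemidirectProduct.left hy
    simpa using this.symm
  · intro g hg
    rw [eq_bot_iff]
    rintro x ⟨hx1, hx2⟩
    have hx2' : x ∈ MulAut.conj g • (SemidirectProduct.inr : H →* V ⋊[φ] H).range := hx2
    rw [frobExt_mem_conj] at hx2'
    obtain ⟨h, rfl⟩ := hx1
    obtain ⟨k, hk⟩ := hx2'
    rw [Subgroup.mem_bot]
    by_contra hne
    have hh : h ≠ 1 := by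
      rintro rfl
      exact hne (map_one _)
    apply hg
    have e1 := congrArg SemidirectProduct.left hk
    simp only [SemidirectProduct.left_inr, SemidirectProduct.mul_left, SemidirectProduct.inv_left,
      SemidirectProduct.right_inr, SemidirectProduct.mul_right, SemidirectProduct.inv_right,
      map_mul, MulAut.mul_apply, map_one, mul_one] at e1
    have e2 : (φ g.right⁻¹) ((g.left)⁻¹ * φ h g.left) = 1 := by
      rw [map_mul]; exact e1.symm
    have e3 : (g.left)⁻¹ * φ h g.left = 1 := by
      have := (φ g.right⁻¹).injective (e2.trans (map_one _).symm)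
      exact this
    have e4 : φ h g.left = g.left := by
      rw [inv_mul_eq_one] at e3; exact e3.symm
    have e5 := hfpf h hh _ e4
    refine ⟨g.right, ?_⟩
    ext
    · simp [e5]
    · simp

/-- Transport of a Frobenius complement along an isomorphism. -/
theorem frobExt_map {G L : Type*} [Group G] [Group L] (e : G ≃* L) (H : Subgroup G)
    (hH : IsFrobeniusComplement H) : IsFrobeniusComplement (H.map e.toMonoidHom) := by
  refine ⟨?_, ?_, ?_⟩
  · intro h
    apply hH.1
    rw [Subgroup.map_eq_bot_iff_of_injective _ e.injective] at h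
    exact h
  · intro h
    apply hH.2.1
    rw [eq_top_iff]
    intro x _
    have : e x ∈ H.map e.toMonoidHom := by rw [h]; trivial
    obtain ⟨y, hy, hyx⟩ := this
    have : y = x := e.injective hyx
    exact this ▸ hy
  · intro g hg
    rw [eq_bot_iff]
    rintro x ⟨hx1, hx2⟩
    have hx2' : x ∈ MulAut.conj g • H.map e.toMonoidHom := hx2
    rw [frobExt_mem_conj] at hx2'
    obtain ⟨a, ha, rfl⟩ := hx1
    obtain ⟨b, hb, hb2⟩ := hx2'
    have hg' : e.symm g ∉ H := by
      intro h
      exact hg ⟨_, h, by simp⟩
    have h1 := hH.2.2 _ hg'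
    have h2 : a ∈ H ⊓ MulAut.conj (e.symm g) • H := by
      refine ⟨ha, ?_⟩
      have : a ∈ MulAut.conj (e.symm g) • H := by
        rw [frobExt_mem_conj]
        have : (e.symm g)⁻¹ * a * e.symm g = b := by
          apply e.injective
          rw [map_mul, map_mul, map_inv, e.apply_symm_apply]
          exact hb2.symm
        rw [this]; exact hb
      exact this
    rw [h1, Subgroup.mem_bot] at h2
    rw [h2]
    simp

/-- A finite Frobenius group in any universe has a copy in `Type`. -/
theorem frobExt_small {G : Type*} [Group G] [Finite G] (H : Subgroup G)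
    (hH : IsFrobeniusComplement H) :
    ∃ (L : Type) (_ : Group L) (_ : Finite L) (K : Subgroup L), IsFrobeniusComplement K ∧
      Nonempty (H ≃* K) ∧ Nat.card L = Nat.card G := by
  haveI : Small.{0} G := Countable.toSmall G
  refine ⟨Shrink.{0} G, inferInstance, Finite.of_equiv _ (equivShrink G),
    H.map (Shrink.mulEquiv (α := G)).symm.toMonoidHom, frobExt_map _ _ hH, ?_, ?_⟩
  · exact ⟨(Shrink.mulEquiv (α := G)).symm.subgroupMap H⟩
  · exact Nat.card_congr (equivShrink G).symm

/-- A fixed-point-free action of a finite group on a finite group gives a Frobenius group in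
`Type` whose kernel has the cardinality of the group acted on. -/
theorem frobExt_exists {H V : Type*} [Group H] [Group V] [Finite H] [Finite V] (φ : H →* MulAut V)
    (hH : Nontrivial H) (hV : Nontrivial V) (hfpf : ∀ h : H, h ≠ 1 → ∀ v : V, φ h v = v → v = 1) :
    ∃ (L : Type) (_ : Group L) (_ : Finite L) (K : Subgroup L), IsFrobeniusComplement K ∧
      Nonempty (H ≃* K) ∧ Nat.card (frobeniusKernel K) = Nat.card V := by
  haveI : Finite (V ⋊[φ] H) := Finite.of_equiv _ (SemidirectProduct.equivProd (φ := φ)).symm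
  obtain ⟨L, _, _, K, hK, ⟨e⟩, hc⟩ := frobExt_small _ (frobExt_semidirect φ hH hV hfpf)
  have e2 : H ≃* (SemidirectProduct.inr : H →* V ⋊[φ] H).range :=
    MonoidHom.ofInjective SemidirectProduct.inr_injective
  refine ⟨L, inferInstance, inferInstance, K, hK, ⟨e2.trans e⟩, ?_⟩
  rw [H1.frob_card_kernel hK]
  have h1 : Nat.card K = Nat.card H := Nat.card_congr (e2.trans e).symm.toEquiv
  have h2 : Nat.card L = Nat.card V * Nat.card H := by
    rw [hc, Nat.card_congr (SemidirectProduct.equivProd (φ := φ)), Nat.card_prod]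
  have h3 := K.card_mul_index
  rw [h1, h2, mul_comm] at h3
  have h4 : 0 < Nat.card H := Nat.card_pos
  exact Nat.eq_of_mul_eq_mul_right h4 h3

end Cfsg.Agent.H25
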