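import Cfsg.Prelude
import Cfsg.Agent.H25.FrobExt

set_option autoImplicit false
open Cfsg

/-!
# Building Frobenius groups from linear fixed-point-free actions
-/

namespace Cfsg.Agent.H25

open scoped Pointwise

/-- A representation by additive endomorphisms gives an action by automorphisms. -/
def frobExtAut {H M : Type*} [Group H] [AddCommGroup M] (ρ : H →* AddMonoid.End M) :
    H →* MulAut (Multiplicative M) where
  toFun h :=
    { toFun := fun v => Multiplicative.ofAdd (ρ h v.toAdd)
      invFun := fun v => Multiplicative.ofAdd (ρ h⁻¹ v.toAdd)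
      left_inv := fun v => by
        show Multiplicative.ofAdd ((ρ h⁻¹ * ρ h) v.toAdd) = v
        rw [← map_mul, inv_mul_cancel, map_one]
        rfl
      right_inv := fun v => by
        show Multiplicative.ofAdd ((ρ h * ρ h⁻¹) v.toAdd) = v
        rw [← map_mul, mul_inv_cancel, map_one]
        rfl
      map_mul' := fun v w => by
        show Multiplicative.ofAdd (ρ h (v.toAdd + w.toAdd)) = _
        rw [map_add]
        rfl }
  map_one' := by
    ext1 v
    show Multiplicative.ofAdd (ρ 1 v.toAdd) = v
    rw [map_one]; rfl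
  map_mul' a b := by
    ext1 v
    show Multiplicative.ofAdd (ρ (a * b) v.toAdd) = Multiplicative.ofAdd (ρ a (ρ b v.toAdd))
    rw [map_mul]; rfl

theorem frobExt_distrib {H M : Type*} [Group H] [AddCommGroup M] [Finite H] [Finite M]
    (hH : Nontrivial H) (hM : Nontrivial M) (ρ : H →* AddMonoid.End M)
    (hfpf : ∀ h : H, h ≠ 1 → ∀ v : M, ρ h v = v → v = 0) :
    ∃ (L : Type) (_ : Group L) (_ : Finite L) (K : Subgroup L), IsFrobeniusComplement K ∧
      Nonempty (H ≃* K) ∧ Nat.card (frobeniusKernel K) = Nat.card M := by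
  obtain ⟨L, i1, i2, K, h1, h2, h3⟩ := frobExt_exists (H := H) (V := Multiplicative M)
    (frobExtAut ρ) hH (inferInstanceAs (Nontrivial (Multiplicative M)))
    (fun h hh v hv => hfpf h hh v hv)
  exact ⟨L, i1, i2, K, h1, h2, h3.trans (Nat.card_congr Multiplicative.toAdd)⟩

theorem sl2_fix_pow {q : ℕ} [Fact q.Prime] (M : Matrix.SpecialLinearGroup (Fin 2) (ZMod q))
    (v : Fin 2 → ZMod q) (hv : v ≠ 0) (h : M.1.mulVec v = v) : M ^ q = 1 := by
  have h1 : (M.1 - 1).det = 0 := by
    apply Matrix.exists_mulVec_eq_zero_iff.1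
    exact ⟨v, hv, by rw [Matrix.sub_mulVec, h, Matrix.one_mulVec, sub_self]⟩
  have h2 : M.1.det = 1 := M.2
  rw [Matrix.det_fin_two] at h1 h2
  simp only [Matrix.sub_apply, Matrix.one_apply, Fin.isValue, if_true, one_ne_zero, zero_ne_one,
    if_false, sub_zero] at h1
  have htr : M.1 0 0 + M.1 1 1 = 2 := by linear_combination h2 - h1
  have hsq : M.1 * M.1 = (2 : ZMod q) • M.1 - 1 := by
    ext i j
    rw [Matrix.mul_apply, Fin.sum_univ_two]
    have e : M.1 1 1 = 2 - M.1 0 0 := by linear_combination htr
    fin_cases i <;> fin_cases j <;> simp [e] at h2 ⊢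
    · linear_combination - h2
    · ring
    · ring
    · linear_combination - h2
  have hpow : ∀ k : ℕ, M.1 ^ (k + 1) = ((k : ZMod q) + 1) • M.1 - (k : ZMod q) • 1 := by
    intro k
    induction k with
    | zero => simp
    | succ k ih =>
      rw [pow_succ, ih, sub_mul, smul_mul_assoc, hsq, smul_mul_assoc, one_mul]
      ext i j
      simp only [Matrix.sub_apply, Matrix.smul_apply, smul_eq_mul, Nat.cast_add, Nat.cast_one]
      ring
  have hq : 0 < q := (Fact.out : q.Prime).pos
  have := hpow (q - 1)
  rw [Nat.sub_add_cancel hq, Nat.cast_sub hq, ZMod.natCast_self] at this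
  apply Subtype.ext
  rw [Matrix.SpecialLinearGroup.coe_pow, this]
  simp

theorem frobExt_sl2 {H : Type*} [Group H] [Finite H] (hH : Nontrivial H) {q : ℕ} [Fact q.Prime]
    (f : H →* Matrix.SpecialLinearGroup (Fin 2) (ZMod q)) (hf : Function.Injective f)
    (hq : (Nat.card H).Coprime q) :
    ∃ (L : Type) (_ : Group L) (_ : Finite L) (K : Subgroup L), IsFrobeniusComplement K ∧
      Nonempty (H ≃* K) ∧ Nat.card (frobeniusKernel K) = q ^ 2 := by
  let ρ : H →* AddMonoid.End (Fin 2 → ZMod q) :=
    { toFun := fun h =>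
        { toFun := fun v => (f h).1.mulVec v
          map_zero' := Matrix.mulVec_zero _
          map_add' := fun v w => Matrix.mulVec_add _ v w }
      map_one' := by
        ext1 v
        show (f 1).1.mulVec v = v
        rw [map_one, Matrix.SpecialLinearGroup.coe_one, Matrix.one_mulVec]
      map_mul' := fun a b => by
        ext1 v
        show (f (a * b)).1.mulVec v = (f a).1.mulVec ((f b).1.mulVec v)
        rw [map_mul, Matrix.SpecialLinearGroup.coe_mul, Matrix.mulVec_mulVec] }
  obtain ⟨L, i1, i2, K, h1, h2, h3⟩ := frobExt_distrib (H := H) (M := Fin 2 → ZMod q) hH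
    (by infer_instance) ρ (by
      intro h hh v hv
      by_contra hv0
      have h1 := sl2_fix_pow (f h) v hv0 hv
      rw [← map_pow, ← map_one f] at h1
      have h2 := hf h1
      apply hh
      rw [← orderOf_eq_one_iff]
      exact Nat.eq_one_of_dvd_coprimes hq (orderOf_dvd_natCard h) (orderOf_dvd_of_pow_eq_one h2))
  refine ⟨L, i1, i2, K, h1, h2, h3.trans ?_⟩
  rw [Nat.card_eq_fintype_card, Fintype.card_fun, ZMod.card, Fintype.card_fin]

end Cfsg.Agent.H25
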