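import Cfsg.Prelude
import Cfsg.Agent.H25.FrobKernel
import Cfsg.Agent.H23.RankOne
import Cfsg.Agent.H23.Coprime4
import Cfsg.Agent.H2.Cyc

set_option autoImplicit false
open Cfsg

/-!
# Sylow subgroups of Frobenius complements
-/

namespace Cfsg.Agent.H25

open Subgroup
open scoped Pointwise

variable {G : Type*} [Group G]

/-- Abelian subgroups of a Frobenius complement are cyclic. -/
theorem frob_isCyclic_of_comm [Finite G] {H : Subgroup G} (hH : IsFrobeniusComplement H)
    {A : Subgroup G} (hA : A ≤ H) (hAc : IsMulCommutative A) : IsCyclic A := by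
  obtain ⟨N, hN, hNn, hc⟩ := frobenius_kernel hH
  by_contra hnc
  have hcardN : Nat.card N = H.index := by
    rw [← H1.frob_card_kernel hH, ← hN]; rfl
  have hcop : (Nat.card A).Coprime (Nat.card N) := by
    rw [hcardN]
    exact Nat.Coprime.coprime_dvd_left (card_dvd_of_le hA) (H1.frob_coprime hH)
  have hn : A ≤ normalizer (N : Set G) := by
    rw [normalizer_eq_top]
    exact le_top
  have h1 := H23.iSup_centralizer_of_not_isCyclic hAc hnc hn hcop
  have h2 : ∀ a : {a : G // a ∈ A ∧ a ≠ 1}, N ⊓ centralizer ({(a : G)} : Set G) = ⊥ := by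
    rintro ⟨a, haA, ha1⟩
    rw [eq_bot_iff]
    rintro x ⟨hxN, hxa⟩
    have h3 : x ∈ H := H1.frob_centralizer_le hH (hA haA) ha1 hxa
    have h4 : x ∈ N ⊓ H := ⟨hxN, h3⟩
    rwa [hc.isCompl.inf_eq_bot] at h4
  rw [iSup_congr h2, iSup_bot] at h1
  have h5 : Nat.card N = 1 := by rw [← h1]; simp
  rw [hcardN] at h5
  exact hH.2.1 (Subgroup.index_eq_one.1 h5)

/-- In a `p`-subgroup of a Frobenius complement, there is only one subgroup of order `p`. -/
theorem frob_pgroup [Finite G] {H : Subgroup G} (hH : IsFrobeniusComplement H)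
    {p : ℕ} [Fact p.Prime] {P : Type*} [Group P] [Finite P] (hP : IsPGroup p P) (f : P →* G)
    (hf : Function.Injective f) (hfH : ∀ x, f x ∈ H) :
    IsCyclic P ∨ (p = 2 ∧ ∃ n, 1 ≤ n ∧ Nonempty (P ≃* QuaternionGroup (2 ^ n))) := by
  apply H23.cyclic_or_quaternion hP
  have key : ∀ x z : P, Commute x z → orderOf x = p → orderOf z = p →
      Subgroup.zpowers x = Subgroup.zpowers z := by
    intro x z hxz hx hz
    let A : Subgroup G := closure {f x, f z}
    have hAc : IsMulCommutative A := by
      apply isMulCommutative_closure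
      rintro a (rfl | ha) b (rfl | hb)
      · rfl
      · rw [Set.mem_singleton_iff.1 hb, ← map_mul, ← map_mul, hxz.eq]
      · rw [Set.mem_singleton_iff.1 ha, ← map_mul, ← map_mul, hxz.eq]
      · rw [Set.mem_singleton_iff.1 ha, Set.mem_singleton_iff.1 hb]
    have hA : A ≤ H := by
      rw [closure_le]
      rintro a (rfl | ha)
      · exact hfH x
      · rw [Set.mem_singleton_iff.1 ha]
        exact hfH z
    haveI hcyc := frob_isCyclic_of_comm hH hA hAc
    have hxA : f x ∈ A := subset_closure (by simp)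
    have hzA : f z ∈ A := subset_closure (by simp)
    have h1 : Subgroup.zpowers (⟨f x, hxA⟩ : A) = Subgroup.zpowers (⟨f z, hzA⟩ : A) := by
      apply H2.zpowers_eq_of_orderOf_eq
      rw [Subgroup.orderOf_mk, Subgroup.orderOf_mk, orderOf_injective f hf, orderOf_injective f hf,
        hx, hz]
    have h2 : Subgroup.zpowers (f x) = Subgroup.zpowers (f z) := by
      have := congrArg (Subgroup.map A.subtype) h1
      rwa [MonoidHom.map_zpowers, MonoidHom.map_zpowers] at this
    rw [← MonoidHom.map_zpowers, ← MonoidHom.map_zpowers] at h2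
    exact Subgroup.map_injective hf h2
  intro x y hx hy
  haveI : Nontrivial P := by
    refine ⟨x, 1, ?_⟩
    rintro rfl
    rw [orderOf_one] at hx
    exact (Fact.out : p.Prime).one_lt.ne hx
  haveI := hP.center_nontrivial
  obtain ⟨z, hz⟩ := exists_prime_orderOf_dvd_card' (G := Subgroup.center P) p (by
    have h1 := (hP.to_subgroup (Subgroup.center P)).card_eq_or_dvd
    rcases h1 with h1 | h1
    · exact absurd h1 (Finite.one_lt_card_iff_nontrivial.2 this).ne'
    · exact h1)
  have hz' : orderOf (z : P) = p := by rw [Subgroup.orderOf_coe, hz]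
  have e1 := key x z (Subgroup.mem_center_iff.1 z.2 x) hx hz'
  have e2 := key y z (Subgroup.mem_center_iff.1 z.2 y) hy hz'
  rw [e1, ← e2]
  exact Subgroup.mem_zpowers y

end Cfsg.Agent.H25
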