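import Mathlib
import Cfsg.Agent.H25.Fitting
import Cfsg.Agent.H25.Primary

set_option autoImplicit false

namespace Cfsg.Agent.H25

universe u

/-- Minimal counterexample principle for solvability: a class of finite groups closed under normal subgroups
and quotients all of whose simple members are solvable consists of solvable groups. -/
theorem solvable_induction (P : ∀ (G : Type u) [Group G], Prop)
    (hsub : ∀ (G : Type u) [Group G] [Finite G] (N : Subgroup G) [N.Normal], P G → P N)
    (hquot : ∀ (G : Type u) [Group G] [Finite G] (N : Subgroup G) [N.Normal], P G → P (G ⧸ N))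
    (hsimple : ∀ (G : Type u) [Group G] [Finite G] [IsSimpleGroup G], P G → Group.IsSolvable G) :
    ∀ (G : Type u) [Group G] [Finite G], P G → Group.IsSolvable G := by
  have key : ∀ n : ℕ, ∀ (G : Type u) [Group G] [Finite G], Nat.card G = n → P G →
      Group.IsSolvable G := by
    intro n
    induction n using Nat.strong_induction_on with
    | _ n ih =>
      intro G _ _ hn hP
      by_cases htriv : Nontrivial G
      · by_cases hs : IsSimpleGroup G
        · exact hsimple G hP
        · have hex : ∃ N : Subgroup G, N.Normal ∧ N ≠ ⊥ ∧ N ≠ ⊤ := by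
            by_contra hcon
            apply hs
            refine { exists_pair_ne := htriv.exists_pair_ne, eq_bot_or_eq_top_of_normal := ?_ }
            intro N hN
            by_contra h2
            push Not at h2
            exact hcon ⟨N, hN, h2.1, h2.2⟩
          obtain ⟨N, hN, hb, ht⟩ := hex
          have h1 : Nat.card N < n := by
            rw [← hn]
            exact lt_of_le_of_ne (Subgroup.card_le_card_group N)
              (fun h => ht (Subgroup.eq_top_of_card_eq N h))
          have h2 : Nat.card (G ⧸ N) < n := by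
            rw [← hn, ← Subgroup.index_eq_card]
            have h3 : 1 < Nat.card N := by
              rw [Subgroup.one_lt_card_iff_ne_bot]; exact hb
            have h4 := N.card_mul_index
            have h5 : 0 < N.index := Nat.pos_of_ne_zero Subgroup.FiniteIndex.index_ne_zero
            rw [← h4]
            nlinarith
          rw [Group.isSolvable_iff_subgroup_quotient N]
          exact ⟨ih _ h1 N rfl (hsub G N hP), ih _ h2 (G ⧸ N) rfl (hquot G N hP)⟩
      · rw [not_nontrivial_iff_subsingleton] at htriv
        exact Group.isSolvable_of_comm (fun a b => Subsingleton.elim _ _)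
  intro G _ _ hP
  exact key _ G rfl hP

/-- `A` has a normal cyclic subgroup with cyclic quotient of order a power of 2. -/
def CycBy2 (A : Type*) [Group A] : Prop :=
  ∃ (B : Subgroup A) (_ : B.Normal), IsCyclic B ∧ IsCyclic (A ⧸ B) ∧ ∃ r : ℕ, Nat.card (A ⧸ B) = 2 ^ r

theorem CycBy2.of_injective {A H : Type*} [Group A] [Group H] [Finite A] (f : H →* A)
    (hf : Function.Injective f) (h : CycBy2 A) : CycBy2 H := by
  obtain ⟨B, hB, hc, hq, r, hr⟩ := h
  have hmap : B.comap f ≤ B.comap f := le_rfl
  let g : H ⧸ B.comap f →* A ⧸ B := QuotientGroup.map _ _ f hmap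
  have hg : Function.Injective g := by
    rw [← MonoidHom.ker_eq_bot_iff, eq_bot_iff]
    intro x hx
    obtain ⟨y, rfl⟩ := QuotientGroup.mk_surjective x
    rw [MonoidHom.mem_ker] at hx
    have h1 : (QuotientGroup.mk (f y) : A ⧸ B) = 1 := hx
    rw [QuotientGroup.eq_one_iff] at h1
    rw [Subgroup.mem_bot, QuotientGroup.eq_one_iff]
    exact h1
  refine ⟨B.comap f, inferInstance, ?_, isCyclic_of_injective g hg, ?_⟩
  · let k : B.comap f →* B := (f.comp (B.comap f).subtype).codRestrict B (fun x => x.2)
    have hk : Function.Injective k := by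
      intro x y hxy
      apply Subtype.ext
      apply hf
      exact congrArg Subtype.val hxy
    exact isCyclic_of_injective k hk
  · have h2 : Nat.card (H ⧸ B.comap f) ∣ 2 ^ r := hr ▸ Subgroup.card_dvd_of_injective g hg
    obtain ⟨k, -, hk⟩ := (Nat.dvd_prime_pow Nat.prime_two).1 h2
    exact ⟨k, hk⟩

theorem CycBy2.of_surjective {A H : Type*} [Group A] [Group H] [Finite A] (f : A →* H)
    (hf : Function.Surjective f) (h : CycBy2 A) : CycBy2 H := by
  obtain ⟨B, hB, hc, hq, r, hr⟩ := h
  have hBn : (B.map f).Normal := hB.map f hf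
  let g : A ⧸ B →* H ⧸ B.map f := QuotientGroup.map _ _ f (Subgroup.le_comap_map f B)
  have hg : Function.Surjective g := by
    intro x
    obtain ⟨y, rfl⟩ := QuotientGroup.mk_surjective x
    obtain ⟨z, rfl⟩ := hf y
    exact ⟨QuotientGroup.mk z, rfl⟩
  haveI : Finite (A ⧸ B) := inferInstance
  refine ⟨B.map f, hBn, ?_, isCyclic_of_surjective g hg, ?_⟩
  · exact isCyclic_of_surjective (f.subgroupMap B) (MonoidHom.subgroupMap_surjective f B)
  · have h2 : Nat.card (H ⧸ B.map f) ∣ 2 ^ r := hr ▸ Subgroup.card_dvd_of_surjective g hg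
    obtain ⟨k, -, hk⟩ := (Nat.dvd_prime_pow Nat.prime_two).1 h2
    exact ⟨k, hk⟩

end Cfsg.Agent.H25
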