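import Cfsg.Agent.H25.ClassProd
import Cfsg.Agent.H25.Primary
import Cfsg.Agent.H24.ClassSize2
import Cfsg.Agent.H24.Decomp
import Cfsg.Agent.H24.DirectFactor
import Cfsg.Agent.H2.Basic

set_option autoImplicit false
set_option linter.unusedSectionVars false
set_option linter.unusedVariables false

namespace Cfsg.Agent.H25.CS3

open Subgroup

variable {G : Type*} [Group G] [Finite G]

/-- exponent of `r` in the order -/
noncomputable def v (r : ℕ) (H : Subgroup G) : ℕ := (Nat.card H).factorization r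

theorem card_ne (H : Subgroup G) : Nat.card H ≠ 0 := Nat.card_pos.ne'

theorem v_mono (r : ℕ) {H K : Subgroup G} (h : H ≤ K) : v r H ≤ v r K :=
  (Nat.factorization_le_iff_dvd (card_ne H) (card_ne K)).2 (Subgroup.card_dvd_of_le h) r

theorem card_rgroup {r : ℕ} [hr : Fact r.Prime] {W : Subgroup G} (hW : IsPGroup r W) :
    Nat.card W = r ^ v r W := by
  obtain ⟨k, hk⟩ := IsPGroup.iff_card.1 hW
  rw [v, hk, hr.out.factorization_pow, Finsupp.single_eq_same]

theorem exists_rsub (r : ℕ) [hr : Fact r.Prime] (H : Subgroup G) (A : Subgroup G) (hA : A ≤ H) (hAr : IsPGroup r A) :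
    ∃ W : Subgroup G, A ≤ W ∧ W ≤ H ∧ IsPGroup r W ∧ v r W = v r H := by
  have h1 : IsPGroup r (A.subgroupOf H) := hAr.comap_of_injective H.subtype H.subtype_injective
  obtain ⟨S, hS⟩ := h1.exists_le_sylow
  refine ⟨(S : Subgroup H).map H.subtype, ?_, ?_, S.isPGroup'.map _, ?_⟩
  · intro a ha
    exact ⟨⟨a, hA ha⟩, hS (Subgroup.mem_subgroupOf.2 ha), rfl⟩
  · rintro _ ⟨x, _, rfl⟩; exact x.2
  · rw [v, Nat.card_congr (equivMapOfInjective _ _ H.subtype_injective).symm.toEquiv,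
      S.card_eq_multiplicity, hr.out.factorization_pow, Finsupp.single_eq_same]
    rfl

theorem v_lt {r : ℕ} [hr : Fact r.Prime] {W W' : Subgroup G} (hW' : IsPGroup r W') (h : W < W') :
    v r W < v r W' := by
  have hW : IsPGroup r W := hW'.to_le h.le
  have h1 : Nat.card W < Nat.card W' := by
    rcases lt_or_eq_of_le (Nat.le_of_dvd Nat.card_pos (Subgroup.card_dvd_of_le h.le)) with h1 | h1
    · exact h1
    · exact absurd (Subgroup.eq_of_le_of_card_ge h.le h1.ge) h.ne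
  rw [card_rgroup hW, card_rgroup hW'] at h1
  exact (Nat.pow_lt_pow_iff_right hr.out.one_lt).1 h1

theorem eq_of_v_eq {r : ℕ} [hr : Fact r.Prime] {W W' : Subgroup G} (hW' : IsPGroup r W') (h : W ≤ W')
    (hv : v r W' ≤ v r W) : W = W' := by
  by_contra hne
  have := v_lt hW' (lt_of_le_of_ne h hne)
  omega

theorem eq_of_v {H K : Subgroup G} (h : H ≤ K) (hv : ∀ q : ℕ, q.Prime → v q K ≤ v q H) : H = K := by
  apply Subgroup.eq_of_le_of_card_ge h
  apply Nat.le_of_dvd Nat.card_pos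
  rw [← Nat.factorization_le_iff_dvd (card_ne K) (card_ne H)]
  intro q
  by_cases hq : q.Prime
  · exact hv q hq
  · rw [Nat.factorization_eq_zero_of_not_prime _ hq]; exact Nat.zero_le _

theorem v_index (r : ℕ) (H : Subgroup G) : v r H + H.index.factorization r = v r (⊤ : Subgroup G) := by
  rw [v, v, Subgroup.card_top, ← Subgroup.card_mul_index H,
    Nat.factorization_mul (card_ne H) index_ne_zero_of_finite]
  rfl

theorem not_dvd_index_iff {r : ℕ} (hr : r.Prime) (H : Subgroup G) :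
    ¬ r ∣ H.index ↔ v r H = v r (⊤ : Subgroup G) := by
  rw [← v_index r H]
  constructor
  · intro h
    rw [Nat.factorization_eq_zero_of_not_dvd h, add_zero]
  · intro h hd
    have := (hr.dvd_iff_one_le_factorization (index_ne_zero_of_finite (H := H))).1 hd
    omega

theorem conj_into_top {r : ℕ} [hr : Fact r.Prime] {H : Subgroup G} (h : v r H = v r (⊤ : Subgroup G))
    {W : Subgroup G} (hW : IsPGroup r W) : ∃ g : G, ∀ w ∈ W, g * w * g⁻¹ ∈ H := by
  obtain ⟨S, -, hSH, hS, hSv⟩ := exists_rsub r H ⊥ bot_le (IsPGroup.of_bot)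
  obtain ⟨Q, hQ⟩ := hW.exists_le_sylow
  obtain ⟨P, hP⟩ := hS.exists_le_sylow
  have h1 : S = (P : Subgroup G) := by
    apply eq_of_v_eq P.isPGroup' hP
    rw [hSv, h]
    exact v_mono r le_top
  obtain ⟨g, hg⟩ := MulAction.exists_smul_eq G Q P
  refine ⟨g, fun w hw => ?_⟩
  apply hSH
  rw [h1, ← hg]
  exact Subgroup.smul_mem_pointwise_smul _ _ _ (hQ hw)

theorem conj_into {r : ℕ} [hr : Fact r.Prime] {H K : Subgroup G} (hHK : H ≤ K) (h : v r K ≤ v r H)
    {W : Subgroup G} (hWK : W ≤ K) (hW : IsPGroup r W) : ∃ g ∈ K, ∀ w ∈ W, g * w * g⁻¹ ∈ H := by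
  have h1 : v r (H.subgroupOf K) = v r (⊤ : Subgroup K) := by
    rw [v, v, Nat.card_congr (subgroupOfEquivOfLe hHK).toEquiv, Subgroup.card_top]
    exact le_antisymm (v_mono r hHK) h
  have h2 : IsPGroup r (W.subgroupOf K) := hW.comap_of_injective K.subtype K.subtype_injective
  obtain ⟨g, hg⟩ := conj_into_top h1 h2
  refine ⟨g, g.2, fun w hw => ?_⟩
  exact hg ⟨w, hWK hw⟩ hw

/-- `r`-elements of `K` lie in a normal subgroup with full `r`-part -/
theorem mem_of_normal {r : ℕ} [hr : Fact r.Prime] {H K : Subgroup G} (hHK : H ≤ K) (h : v r K ≤ v r H)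
    (hn : ∀ k ∈ K, ∀ x ∈ H, k * x * k⁻¹ ∈ H) {w : G} (hw : w ∈ K) (hwr : ∃ k, orderOf w = r ^ k) : w ∈ H := by
  obtain ⟨g, hg, hg2⟩ := conj_into hHK h (W := zpowers w) (by rwa [zpowers_le]) (H24.isPGroup_zpowers_of_orderOf hwr)
  have h3 := hn _ (K.inv_mem hg) _ (hg2 w (mem_zpowers w))
  rw [inv_inv] at h3
  have e : g⁻¹ * (g * w * g⁻¹) * g = w := by group
  rwa [e] at h3

theorem v_lt_of_mem {r : ℕ} [hr : Fact r.Prime] {A H : Subgroup G} (hA : A ≤ H) {g : G} (hg : g ∈ H)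
    (hgr : ∃ k, orderOf g = r ^ k) (hgA : g ∉ A) (hn : ∀ k ∈ H, ∀ x ∈ A, k * x * k⁻¹ ∈ A) : v r A < v r H := by
  by_contra hcon
  push Not at hcon
  exact hgA (mem_of_normal hA hcon hn hg hgr)

theorem center_conj (H : Subgroup G) : ∀ k ∈ H, ∀ x ∈ center G, k * x * k⁻¹ ∈ center G := by
  intro k _ x hx
  exact (inferInstance : (center G).Normal).conj_mem x hx k

/-- there is an `r`-element of `H` outside `A` -/
theorem exists_relem {r : ℕ} [hr : Fact r.Prime] {A H : Subgroup G} (h : v r A < v r H) :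
    ∃ g ∈ H, (∃ k, orderOf g = r ^ k) ∧ g ∉ A := by
  obtain ⟨S, -, hSH, hS, hSv⟩ := exists_rsub r H ⊥ bot_le (IsPGroup.of_bot)
  by_contra hcon
  push Not at hcon
  have h1 : S ≤ A := by
    intro s hs
    exact hcon s (hSH hs) (H24.exists_orderOf_eq_pow_of_mem hS hs)
  have := v_mono r h1
  omega

theorem exists_relem_of {r : ℕ} [hr : Fact r.Prime] {A W : Subgroup G} (hW : IsPGroup r W) (h : v r A < v r W) :
    ∃ g ∈ W, g ∉ A := by
  by_contra hcon
  push Not at hcon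
  have := v_mono r (show W ≤ A from hcon)
  omega

theorem camina_top (p : ℕ) [hp : Fact p.Prime]
    (h : ∀ y : G, (orderOf y).Coprime p → ¬ p ∣ (centralizer ({y} : Set G)).index) (P : Sylow p G) :
    (P : Subgroup G) ⊔ centralizer ((P : Subgroup G) : Set G) = ⊤ := by
  apply eq_top_of_forall_conj_mem
  intro x
  obtain ⟨i, j, hx, hi, hj⟩ := H24.exists_pPart_decomp p x
  obtain ⟨Q, hQ1, hQ2⟩ := H24.exists_sylow_le_of_not_dvd_index (centralizer ({x ^ j} : Set G)) (h _ hj)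
    (zpowers (x ^ i)) (H24.isPGroup_zpowers_of_orderOf hi) (by
      rw [zpowers_le, mem_centralizer_singleton_iff]
      exact (Commute.refl x).pow_pow i j)
  obtain ⟨g, rfl⟩ := MulAction.exists_smul_eq G Q P
  refine ⟨g, ?_⟩
  have e : g * x * g⁻¹ = (g * x ^ i * g⁻¹) * (g * x ^ j * g⁻¹) := by
    conv_lhs => rw [hx]
    group
  rw [e]
  apply mul_mem_sup
  · exact Subgroup.smul_mem_pointwise_smul _ _ _ (hQ2 (mem_zpowers _))
  · rw [mem_centralizer_iff]
    rintro _ ⟨q, hq, rfl⟩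
    have h3 := mem_centralizer_singleton_iff.1 (hQ1 hq)
    show g * q * g⁻¹ * (g * x ^ j * g⁻¹) = g * x ^ j * g⁻¹ * (g * q * g⁻¹)
    calc _ = g * (q * x ^ j) * g⁻¹ := by group
      _ = g * (x ^ j * q) * g⁻¹ := by rw [h3]
      _ = _ := by group

theorem camina_normal (p : ℕ) [hp : Fact p.Prime]
    (h : ∀ y : G, (orderOf y).Coprime p → ¬ p ∣ (centralizer ({y} : Set G)).index) (P : Sylow p G) :
    (P : Subgroup G).Normal := (H24.direct_factor_of_sup_centralizer P (camina_top p h P)).1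

theorem camina_mem (p : ℕ) [hp : Fact p.Prime]
    (h : ∀ y : G, (orderOf y).Coprime p → ¬ p ∣ (centralizer ({y} : Set G)).index) {H : Subgroup G}
    (hH : v p H = v p (⊤ : Subgroup G)) {a : G} (ha : ∃ k, orderOf a = p ^ k) : a ∈ H := by
  obtain ⟨S, -, hSH, hS, hSv⟩ := exists_rsub p H ⊥ bot_le (IsPGroup.of_bot)
  obtain ⟨P, hP⟩ := hS.exists_le_sylow
  have h1 : S = (P : Subgroup G) := by
    apply eq_of_v_eq P.isPGroup' hP
    rw [hSv, hH]
    exact v_mono p le_top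
  apply hSH
  rw [h1]
  exact H24.mem_of_normal_sylow P (camina_normal p h P) ha

/-- Camina: a Sylow subgroup is a direct factor -/
theorem camina (p : ℕ) [hp : Fact p.Prime]
    (h : ∀ y : G, (orderOf y).Coprime p → ¬ p ∣ (centralizer ({y} : Set G)).index) (a y : G)
    (ha : ∃ k, orderOf a = p ^ k) (hy : (orderOf y).Coprime p) : a * y = y * a := by
  obtain ⟨P⟩ : Nonempty (Sylow p G) := inferInstance
  obtain ⟨hPn, H, hHn, hpH, hPH, hPH2, hHc⟩ := H24.direct_factor_of_sup_centralizer P (camina_top p h P)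
  have haP : a ∈ (P : Subgroup G) := H24.mem_of_normal_sylow P hPn ha
  have hyH : y ∈ H := by
    rw [← QuotientGroup.eq_one_iff, ← orderOf_eq_one_iff]
    have h1 : orderOf (y : G ⧸ H) ∣ orderOf y := orderOf_map_dvd (QuotientGroup.mk' H) y
    have h2 : orderOf (y : G ⧸ H) ∣ Nat.card (G ⧸ H) := orderOf_dvd_natCard _
    have h3 : Nat.card (G ⧸ H) ∣ Nat.card (P : Subgroup G) := by
      have h4 := Subgroup.index_eq_card H
      rw [← h4]
      have h5 : (P : Subgroup G).index * Nat.card (P : Subgroup G) = Nat.card G := Subgroup.index_mul_card _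
      have h6 : H.relIndex ((P : Subgroup G) ⊔ H) = H.relIndex (P : Subgroup G) := by
        rw [Subgroup.relIndex_sup_right]
      rw [hPH2, Subgroup.relIndex_top_right] at h6
      rw [h6]
      exact Subgroup.relIndex_dvd_card _ _
    obtain ⟨k, hk⟩ := IsPGroup.iff_card.1 P.isPGroup'
    rw [hk] at h3
    exact Nat.eq_one_of_dvd_coprimes (hy.pow_right k) h1 (h2.trans h3)
  exact mem_centralizer_iff.1 (hHc hyH) a haP

/-- existence of a next element -/
theorem exists_next {r : ℕ} [hr : Fact r.Prime] {R N Z : Subgroup G} (hR : IsPGroup r R) (hNR : N ≤ R)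
    (hn : ∀ k ∈ R, ∀ x ∈ N, k * x * k⁻¹ ∈ N) [hZ : Z.Normal] (hNZ : ¬ N ≤ Z) :
    ∃ g ∈ N, g ∉ Z ∧ g ^ r ∈ Z ∧ ∀ u ∈ R, u * g * u⁻¹ * g⁻¹ ∈ Z := by
  -- work in the image of `R` in `G ⧸ Z`
  set f := QuotientGroup.mk' Z with hf
  set Rb := R.map f with hRb
  have hRbp : IsPGroup r Rb := hR.map f
  set Nb := (N.map f).subgroupOf Rb with hNb
  have hNbn : Nb.Normal := ⟨by
    rintro ⟨x, hx⟩ hxN ⟨k, hk⟩
    obtain ⟨n, hn1, hn2⟩ := hxN
    obtain ⟨u, hu, rfl⟩ := hk
    have hn2' : f n = x := hn2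
    subst hn2'
    refine ⟨u * n * u⁻¹, hn u hu n hn1, ?_⟩
    show f (u * n * u⁻¹) = f u * f n * (f u)⁻¹
    rw [map_mul, map_mul, map_inv]⟩
  have hNb1 : Nb ≠ ⊥ := by
    intro hbot
    apply hNZ
    intro x hx
    have h1 : (⟨f x, ⟨x, hNR hx, rfl⟩⟩ : Rb) ∈ Nb := ⟨x, hx, rfl⟩
    rw [hbot, Subgroup.mem_bot] at h1
    have h2 : f x = 1 := congrArg Subtype.val h1
    exact (QuotientGroup.eq_one_iff x).1 h2
  have hinf : Nb ⊓ center Rb ≠ ⊥ := H2.inf_center_ne_bot_of_normal hRbp _ hNb1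
  obtain ⟨⟨c, hc⟩, hc1⟩ := Subgroup.ne_bot_iff_exists_ne_one.1 hinf
  -- power of order r
  obtain ⟨k, hk⟩ := IsPGroup.iff_orderOf.1 hRbp c
  have hk0 : k ≠ 0 := by
    rintro rfl
    rw [pow_zero, orderOf_eq_one_iff] at hk
    exact hc1 (Subtype.ext hk)
  obtain ⟨l, rfl⟩ := Nat.exists_eq_succ_of_ne_zero hk0
  set d : Rb := c ^ (r ^ l) with hd
  have hd1 : d ≠ 1 := by
    intro h
    have h1 : orderOf c ∣ r ^ l := orderOf_dvd_of_pow_eq_one h
    rw [hk, Nat.pow_dvd_pow_iff_le_right hr.out.one_lt] at h1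
    omega
  have hdr : d ^ r = 1 := by
    rw [hd, ← pow_mul, ← pow_succ, ← hk, pow_orderOf_eq_one]
  have hdN : d ∈ Nb := Nb.pow_mem hc.1 _
  have hdC : d ∈ center Rb := (center Rb).pow_mem hc.2 _
  obtain ⟨g, hgN, hgd⟩ := hdN
  have hgd' : f g = (d : G ⧸ Z) := hgd
  refine ⟨g, hgN, ?_, ?_, ?_⟩
  · intro hgZ
    apply hd1
    apply Subtype.ext
    rw [← hgd']
    exact (QuotientGroup.eq_one_iff g).2 hgZ
  · rw [← QuotientGroup.eq_one_iff]
    show f (g ^ r) = 1
    rw [map_pow, hgd']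
    exact congrArg Subtype.val hdr
  · intro u hu
    rw [← QuotientGroup.eq_one_iff]
    show f (u * g * u⁻¹ * g⁻¹) = 1
    rw [map_mul, map_mul, map_mul, map_inv, map_inv, hgd']
    have h1 := mem_center_iff.1 hdC ⟨f u, ⟨u, hu, rfl⟩⟩
    have h2 : f u * (d : G ⧸ Z) = d * f u := congrArg Subtype.val h1
    rw [h2]
    group

/-- a set of coset representatives `b ^ i` does not fill a subgroup of larger index -/
theorem exists_outside {r : ℕ} [hr : Fact r.Prime] {T R : Subgroup G} {b : G} (hT : T ≤ R) (hb : b ∈ R)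
    (hbr : b ^ r ∈ T) (hcard : Nat.card T * r < Nat.card R) : ∃ a ∈ R, ∀ i : ℕ, a * b ^ i ∉ T := by
  by_contra hcon
  push Not at hcon
  have hsurj : Function.Surjective (fun x : T × Fin r => (⟨x.1 * b ^ (x.2 : ℕ), R.mul_mem (hT x.1.2) (R.pow_mem hb _)⟩ : R)) := by
    rintro ⟨a, ha⟩
    obtain ⟨i, hi⟩ := hcon a ha
    -- a = t * b^{-i}, b^{-i} = (b^r)^{-i} * b^{(r-1) i}
    have hr1 : 0 < r := hr.out.pos
    set N := (r - 1) * i with hN
    have h1 : N = r * (N / r) + N % r := (Nat.div_add_mod N r).symm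
    refine ⟨(⟨a * b ^ i * ((b ^ r) ^ i)⁻¹ * (b ^ r) ^ (N / r), ?_⟩, ⟨N % r, Nat.mod_lt _ hr1⟩), ?_⟩
    · exact T.mul_mem (T.mul_mem hi (T.inv_mem (T.pow_mem hbr _))) (T.pow_mem hbr _)
    · apply Subtype.ext
      show a * b ^ i * ((b ^ r) ^ i)⁻¹ * (b ^ r) ^ (N / r) * b ^ (N % r) = a
      have h2 : (b ^ r) ^ (N / r) * b ^ (N % r) = b ^ N := by
        rw [← pow_mul, ← pow_add, ← h1]
      rw [mul_assoc _ ((b ^ r) ^ (N / r)), h2, ← pow_mul]
      have h3 : b ^ i * b ^ N = b ^ (r * i) := by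
        rw [← pow_add]
        congr 1
        rw [hN]
        obtain ⟨s, rfl⟩ := Nat.exists_eq_succ_of_ne_zero hr1.ne'
        simp only [Nat.succ_sub_one, Nat.succ_eq_add_one]
        ring
      have h4 : b ^ N = (b ^ i)⁻¹ * b ^ (r * i) := by rw [← h3]; group
      rw [h4]
      group
  have h1 := Nat.card_le_card_of_surjective _ hsurj
  rw [Nat.card_prod, Nat.card_fin] at h1
  omega

end Cfsg.Agent.H25.CS3
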