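import Cfsg.Agent.H25.Primary

set_option autoImplicit false
set_option linter.unusedSectionVars false
set_option linter.unusedVariables false

namespace Cfsg.Agent.H25.CS3

open Subgroup Finset

section core

variable {V : Type*} [CommGroup V]

/-- the norm -/
def nrm (r : ℕ) (γ : MulAut V) (x : V) : V := ∏ j ∈ range r, (γ ^ j) x

theorem nrm_fixed {r : ℕ} {γ : MulAut V} (h : γ ^ r = 1) (x : V) : γ (nrm r γ x) = nrm r γ x := by
  have h1 : ∏ j ∈ range (r + 1), (γ ^ j) x = (∏ j ∈ range r, (γ ^ (j + 1)) x) * (γ ^ 0) x :=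
    prod_range_succ' _ _
  have h2 : ∏ j ∈ range (r + 1), (γ ^ j) x = (∏ j ∈ range r, (γ ^ j) x) * (γ ^ r) x :=
    prod_range_succ _ _
  rw [h1, h, pow_zero] at h2
  have h3 := mul_right_cancel h2
  rw [nrm, map_prod, ← h3]
  apply prod_congr rfl
  intro j _
  rw [pow_succ']
  rfl

theorem prod_reindex {r j : ℕ} (hr : r.Prime) (hj : ¬ r ∣ j) (f : ℕ → V) (hf : ∀ a b, a ≡ b [MOD r] → f a = f b) :
    ∏ i ∈ range r, f (i * j) = ∏ i ∈ range r, f i := by
  have hcop : r.Coprime j := (Nat.Prime.coprime_iff_not_dvd hr).2 hj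
  have hinj : Set.InjOn (fun i => i * j % r) (range r : Set ℕ) := by
    intro a ha b hb hab
    have h1 : a * j ≡ b * j [MOD r] := hab
    have h2 : a ≡ b [MOD r] := Nat.ModEq.cancel_right_of_coprime hcop h1
    simp only [coe_range, Set.mem_Iio] at ha hb
    exact Nat.ModEq.eq_of_lt_of_lt h2 ha hb
  have hmaps : ∀ a ∈ range r, (fun i => i * j % r) a ∈ range r := by
    intro a _
    exact mem_range.2 (Nat.mod_lt _ hr.pos)
  have hsurj : Set.SurjOn (fun i => i * j % r) (range r : Set ℕ) (range r : Set ℕ) := by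
    apply Finset.surjOn_of_injOn_of_card_le _ hmaps hinj le_rfl
  apply prod_nbij (fun i => i * j % r) hmaps hinj hsurj
  intro a _
  exact hf _ _ (Nat.mod_modEq _ _).symm

theorem rank2_core {r : ℕ} (hr : r.Prime) (α β : MulAut V) (hc : Commute α β) (hα : α ^ r = 1) (hβ : β ^ r = 1)
    (S : Subgroup V) (hS : ∀ x ∈ S, α x ∈ S) (h1 : ∀ i : ℕ, ∀ x, (α * β ^ i) x = x → x ∈ S)
    (h2 : ∀ x, β x = x → x ∈ S) (x : V) : x ^ r ∈ S := by
  have hab : ∀ i : ℕ, (α * β ^ i) ^ r = 1 := by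
    intro i
    rw [(hc.pow_right i).mul_pow, hα, ← pow_mul, mul_comm i r, pow_mul, hβ, one_pow, one_mul]
  have e1 : ∏ i ∈ range r, nrm r (α * β ^ i) x = ∏ j ∈ range r, (α ^ j) (∏ i ∈ range r, (β ^ (i * j)) x) := by
    unfold nrm
    rw [prod_comm]
    apply prod_congr rfl
    intro j _
    rw [map_prod]
    apply prod_congr rfl
    intro i _
    rw [(hc.pow_right i).mul_pow, ← pow_mul]
    rfl
  have e2 : ∏ j ∈ range r, (α ^ j) (∏ i ∈ range r, (β ^ (i * j)) x) =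
      x ^ r * ∏ j ∈ (range r).erase 0, (α ^ j) (nrm r β x) := by
    rw [← mul_prod_erase (range r) _ (mem_range.2 hr.pos)]
    congr 1
    · simp
    · apply prod_congr rfl
      intro j hj
      congr 1
      have hj2 := mem_range.1 (mem_of_mem_erase hj)
      have hj0 : j ≠ 0 := ne_of_mem_erase hj
      apply prod_reindex hr (fun hd => ?_) (fun k => (β ^ k) x)
      · intro a b hab
        have : β ^ a = β ^ b := pow_eq_pow_iff_modEq.2 (hab.of_dvd (orderOf_dvd_of_pow_eq_one hβ))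
        show (β ^ a) x = (β ^ b) x
        rw [this]
      · have := Nat.le_of_dvd (Nat.pos_of_ne_zero hj0) hd
        omega
  have e3 : ∏ i ∈ range r, nrm r (α * β ^ i) x ∈ S :=
    S.prod_mem fun i _ => h1 i _ (nrm_fixed (hab i) x)
  have hpow : ∀ j : ℕ, ∀ y ∈ S, (α ^ j) y ∈ S := by
    intro j
    induction j with
    | zero => intro y hy; simpa using hy
    | succ j ih => intro y hy; rw [pow_succ]; exact ih _ (hS y hy)
  have e4 : ∏ j ∈ (range r).erase 0, (α ^ j) (nrm r β x) ∈ S :=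
    S.prod_mem fun j _ => hpow j _ (h2 _ (nrm_fixed hβ x))
  rw [e1, e2] at e3
  exact (S.mul_mem_cancel_right e4).1 e3

end core

variable {G : Type*} [Group G] [Finite G]

theorem mem_norm {V : Subgroup G} {g : G} (hg : ∀ x ∈ V, g * x * g⁻¹ ∈ V) : g ∈ normalizer (V : Set G) := by
  rw [mem_normalizer_iff]
  intro h
  refine ⟨hg h, fun hh => ?_⟩
  have hinj : Function.Injective (fun x : V => (⟨g * x * g⁻¹, hg x x.2⟩ : V)) := by
    intro x y hxy
    have h1 : g * (x : G) * g⁻¹ = g * y * g⁻¹ := congrArg Subtype.val hxy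
    exact Subtype.ext (mul_left_cancel (mul_right_cancel h1))
  obtain ⟨x, hx⟩ := (Finite.injective_iff_surjective.1 hinj) ⟨g * h * g⁻¹, hh⟩
  have h1 : g * (x : G) * g⁻¹ = g * h * g⁻¹ := congrArg Subtype.val hx
  have h2 : (x : G) = h := mul_left_cancel (mul_right_cancel h1)
  rw [← h2]
  exact x.2

theorem noRank2 {r s : ℕ} (hr : r.Prime) (hs : s.Prime) (hrs : r ≠ s) (V Z : Subgroup G) [Z.Normal]
    (hVc : ∀ a ∈ V, ∀ b ∈ V, a * b = b * a) (hVs : IsPGroup s V) (hVZ : ¬ V ≤ Z) (a b : G)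
    (ha : ∀ x ∈ V, a * x * a⁻¹ ∈ V) (hb : ∀ x ∈ V, b * x * b⁻¹ ∈ V)
    (har : ∀ x ∈ V, a ^ r * x = x * a ^ r) (hbr : ∀ x ∈ V, b ^ r * x = x * b ^ r)
    (hab : ∀ x ∈ V, (a * b) * x * (a * b)⁻¹ = (b * a) * x * (b * a)⁻¹)
    (h1 : ∀ i : ℕ, ∀ x ∈ V, (a * b ^ i) * x = x * (a * b ^ i) → x ∈ Z)
    (h2 : ∀ x ∈ V, b * x = x * b → x ∈ Z) : False := by
  letI : CommGroup V := { (inferInstance : Group V) with mul_comm := fun x y => Subtype.ext (hVc x x.2 y y.2) }
  have hN : ∀ g : G, (∀ x ∈ V, g * x * g⁻¹ ∈ V) → g ∈ normalizer (V : Set G) := by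
    intro g hg
    exact mem_norm hg
  set ρ := V.normalizerMonoidHom with hρ
  have hρa : ∀ (g : G) (hg : g ∈ normalizer (V : Set G)) (x : V), ((ρ ⟨g, hg⟩ x : V) : G) = g * x * g⁻¹ := fun g hg x => rfl
  set α : MulAut V := ρ ⟨a, hN a ha⟩ with hα
  set β : MulAut V := ρ ⟨b, hN b hb⟩ with hβ
  have hpow : ∀ (i : ℕ) (x : V), (((β ^ i) x : V) : G) = b ^ i * x * (b ^ i)⁻¹ := by
    intro i x
    rw [hβ, ← map_pow]
    rfl
  have hapow : ∀ (i : ℕ) (x : V), (((α ^ i) x : V) : G) = a ^ i * x * (a ^ i)⁻¹ := by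
    intro i x
    rw [hα, ← map_pow]
    rfl
  apply hVZ
  intro x hx
  have key := rank2_core hr α β ?_ ?_ ?_ (Z.subgroupOf V) ?_ ?_ ?_ ⟨x, hx⟩
  · haveI : Fact s.Prime := ⟨hs⟩
    have h3 : x ^ r ∈ Z := key
    apply mem_of_pow_mem _ h3
    obtain ⟨k, hk⟩ := IsPGroup.iff_orderOf.1 hVs ⟨x, hx⟩
    rw [orderOf_mk] at hk
    rw [hk]
    exact ((Nat.coprime_primes hr hs).2 hrs).pow_right k
  · apply MulEquiv.ext
    intro y
    apply Subtype.ext
    show a * (b * y * b⁻¹) * a⁻¹ = b * (a * y * a⁻¹) * b⁻¹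
    have := hab y y.2
    calc _ = a * b * y * (a * b)⁻¹ := by group
      _ = b * a * y * (b * a)⁻¹ := this
      _ = _ := by group
  · apply MulEquiv.ext
    intro y
    apply Subtype.ext
    rw [hapow, har y y.2]
    show y * a ^ r * (a ^ r)⁻¹ = (y : G)
    group
  · apply MulEquiv.ext
    intro y
    apply Subtype.ext
    rw [hpow, hbr y y.2]
    show y * b ^ r * (b ^ r)⁻¹ = (y : G)
    group
  · intro y hy
    have hy' : (y : G) ∈ Z := hy
    show a * y * a⁻¹ ∈ Z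
    exact (inferInstance : Z.Normal).conj_mem _ hy' a
  · intro i y hy
    show (y : G) ∈ Z
    apply h1 i y y.2
    have h3 : a * (((β ^ i) y : V) : G) * a⁻¹ = y := congrArg Subtype.val hy
    rw [hpow] at h3
    calc a * b ^ i * (y : G) = (a * (b ^ i * y * (b ^ i)⁻¹) * a⁻¹) * (a * b ^ i) := by group
      _ = y * (a * b ^ i) := by rw [h3]
  · intro y hy
    show (y : G) ∈ Z
    apply h2 y y.2
    have h3 : b * y * b⁻¹ = (y : G) := congrArg Subtype.val hy
    calc b * (y : G) = (b * y * b⁻¹) * b := by group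
      _ = y * b := by rw [h3]

end Cfsg.Agent.H25.CS3
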