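import Cfsg.Agent.H25.CSA
import Cfsg.Agent.H25.CSR

set_option autoImplicit false
set_option linter.unusedSectionVars false
set_option linter.unusedVariables false

namespace Cfsg.Agent.H25.CS3

open Subgroup

variable {G : Type*} [Group G]

abbrev cz (g : G) : Subgroup G := centralizer ({g} : Set G)

theorem mem_cz {g x : G} : x ∈ cz g ↔ x * g = g * x := mem_centralizer_singleton_iff

theorem mem_cz_symm {g x : G} : x ∈ cz g ↔ g ∈ cz x := by
  rw [mem_cz, mem_cz]; exact eq_comm

theorem self_mem_cz (g : G) : g ∈ cz g := mem_cz.2 rfl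

theorem cz_le_cz_pow (x : G) (k : ℕ) : cz x ≤ cz (x ^ k) := centralizer_le_pow x k

/-- conjugating centralizers -/
theorem conj_mem_cz {g x y : G} : g * y * g⁻¹ ∈ cz (g * x * g⁻¹) ↔ y ∈ cz x := by
  rw [mem_cz, mem_cz]
  constructor
  · intro h
    have h1 : g * (y * x) * g⁻¹ = g * (x * y) * g⁻¹ := by
      calc _ = g * y * g⁻¹ * (g * x * g⁻¹) := by group
        _ = _ := h
        _ = _ := by group
    exact mul_left_cancel (mul_right_cancel h1)
  · intro h
    calc _ = g * (y * x) * g⁻¹ := by group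
      _ = g * (x * y) * g⁻¹ := by rw [h]
      _ = _ := by group

theorem center_le_cz (x : G) : center G ≤ cz x := by
  intro z hz
  exact mem_cz.2 (mem_center_iff.1 hz x).symm

variable [Finite G]

theorem conj_center {g x : G} : g * x * g⁻¹ ∈ center G ↔ x ∈ center G := by
  constructor
  · intro h
    have := (inferInstance : (center G).Normal).conj_mem _ h g⁻¹
    have e : g⁻¹ * (g * x * g⁻¹) * g⁻¹⁻¹ = x := by group
    rwa [e] at this
  · intro h
    exact (inferInstance : (center G).Normal).conj_mem _ h g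

theorem conj_relem {p : ℕ} {g x : G} (h : ∃ k, orderOf x = p ^ k) : ∃ k, orderOf (g * x * g⁻¹) = p ^ k := by
  obtain ⟨k, hk⟩ := h
  exact ⟨k, by rw [← hk]; exact (MulAut.conj g).orderOf_eq x⟩

theorem idx_conj (g x : G) : (cz (g * x * g⁻¹)).index = (cz x).index := index_centralizer_conj' x g

theorem idx_one {x : G} : (cz x).index = 1 ↔ x ∈ center G := index_centralizer_eq_one_iff x

theorem eq_of_idx {H K : Subgroup G} (h : H ≤ K) (hi : H.index = K.index) : H = K := by
  apply Subgroup.eq_of_le_of_card_ge h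
  have h1 := Subgroup.card_mul_index H
  have h2 := Subgroup.card_mul_index K
  rw [hi, ← h2] at h1
  exact (Nat.eq_of_mul_eq_mul_right (Nat.pos_of_ne_zero index_ne_zero_of_finite) h1).ge

structure Hyp (G : Type*) [Group G] (m n : ℕ) : Prop where
  hm : 1 < m
  hn : 1 < n
  cop : m.Coprime n
  or3 : ∀ x : G, (cz x).index = 1 ∨ (cz x).index = m ∨ (cz x).index = m * n
  exm : ∃ x : G, (cz x).index = m
  exmn : ∃ x : G, (cz x).index = m * n

namespace Hyp

variable {m n : ℕ} (H : Hyp G m n)

include H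

theorem or2 {x : G} (hx : x ∉ center G) : (cz x).index = m ∨ (cz x).index = m * n :=
  (H.or3 x).resolve_left (fun h => hx (idx_one.1 h))

theorem nc_m {x : G} (hx : (cz x).index = m) : x ∉ center G := by
  intro h
  have := idx_one.2 h
  have := H.hm
  omega

theorem nc_mn {x : G} (hx : (cz x).index = m * n) : x ∉ center G := by
  intro h
  have h1 := idx_one.2 h
  have h2 := H.hm
  have h3 := H.hn
  nlinarith

theorem m_lt : m < m * n := by
  have h2 := H.hm
  have h3 := H.hn
  nlinarith

theorem idx_m_of_le {x y : G} (hx : (cz x).index = m) (h : cz x ≤ cz y) (hy : y ∉ center G) : (cz y).index = m := by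
  rcases H.or2 hy with h1 | h1
  · exact h1
  · have h2 := Subgroup.index_dvd_of_le h
    rw [hx, h1] at h2
    have := Nat.le_of_dvd (by have := H.hm; omega) h2
    have := H.m_lt
    omega

theorem eq_of_m {x y : G} (hx : (cz x).index = m) (h : cz x ≤ cz y) (hy : y ∉ center G) : cz x = cz y :=
  eq_of_idx h (by rw [hx, H.idx_m_of_le hx h hy])

theorem idx_mn_of_le {x y : G} (hy : (cz y).index = m * n) (h : cz x ≤ cz y) : (cz x).index = m * n := by
  have h2 := Subgroup.index_dvd_of_le h
  rw [hy] at h2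
  have h3 := H.m_lt
  have hm := H.hm
  rcases H.or3 x with h1 | h1 | h1
  · rw [h1] at h2
    have := Nat.le_of_dvd one_pos h2
    omega
  · rw [h1] at h2
    have := Nat.le_of_dvd (by omega) h2
    omega
  · exact h1

theorem eq_of_mn {x y : G} (hy : (cz y).index = m * n) (h : cz x ≤ cz y) : cz x = cz y :=
  eq_of_idx h (by rw [hy, H.idx_mn_of_le hy h])

theorem mpos : m ≠ 0 := by have := H.hm; omega
theorem npos : n ≠ 0 := by have := H.hn; omega

theorem v_m {x : G} (hx : (cz x).index = m) (r : ℕ) : v r (cz x) + m.factorization r = v r (⊤ : Subgroup G) := by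
  rw [← v_index r (cz x), hx]

theorem v_mn {x : G} (hx : (cz x).index = m * n) (r : ℕ) :
    v r (cz x) + (m.factorization r + n.factorization r) = v r (⊤ : Subgroup G) := by
  rw [← v_index r (cz x), hx, Nat.factorization_mul H.mpos H.npos]
  rfl

theorem mfac_pos {r : ℕ} (hr : r.Prime) (h : r ∣ m) : 0 < m.factorization r :=
  hr.factorization_pos_of_dvd H.mpos h

theorem nfac_pos {r : ℕ} (hr : r.Prime) (h : r ∣ n) : 0 < n.factorization r :=
  hr.factorization_pos_of_dvd H.npos h

theorem not_dvd_n {r : ℕ} (hr : r.Prime) (h : r ∣ m) : ¬ r ∣ n := fun h' =>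
  hr.one_lt.ne' (Nat.eq_one_of_dvd_coprimes H.cop h h')

theorem nfac_zero {r : ℕ} (hr : r.Prime) (h : r ∣ m) : n.factorization r = 0 :=
  Nat.factorization_eq_zero_of_not_dvd (H.not_dvd_n hr h)

theorem mfac_zero {r : ℕ} (hr : r.Prime) (h : r ∣ n) : m.factorization r = 0 :=
  Nat.factorization_eq_zero_of_not_dvd (fun h' => H.not_dvd_n hr h' h)

theorem v_r {r : ℕ} (hr : r.Prime) (h : r ∣ m) {x : G} (hx : x ∉ center G) :
    v r (cz x) + m.factorization r = v r (⊤ : Subgroup G) := by
  rcases H.or2 hx with h1 | h1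
  · exact H.v_m h1 r
  · have := H.v_mn h1 r
    rw [H.nfac_zero hr h] at this
    omega

theorem v_le_of_mn {w g : G} (hw : (cz w).index = m * n) (r : ℕ) : v r (cz w) ≤ v r (cz g) := by
  have h1 := H.v_mn hw r
  have h2 := v_index r (cz g)
  rcases H.or3 g with h | h | h
  · rw [h, Nat.factorization_one] at h2
    simp only [Finsupp.coe_zero, Pi.zero_apply] at h2
    omega
  · rw [h] at h2; omega
  · rw [h, Nat.factorization_mul H.mpos H.npos] at h2
    simp only [Finsupp.coe_add, Pi.add_apply] at h2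
    omega

/-- noncentral `r`-elements exist for `r` dividing `mn` -/
theorem exists_nc {r : ℕ} [hr : Fact r.Prime] (h : r ∣ m * n) : ∃ g : G, (∃ k, orderOf g = r ^ k) ∧ g ∉ center G := by
  obtain ⟨y, hy⟩ := H.exmn
  have h1 := H.v_mn hy r
  have h2 : 0 < m.factorization r + n.factorization r := by
    rcases (hr.out.dvd_mul).1 h with h | h
    · have := H.mfac_pos hr.out h; omega
    · have := H.nfac_pos hr.out h; omega
  have h3 := v_mono r (center_le_cz y)
  obtain ⟨g, -, hg, hgZ⟩ := exists_relem (r := r) (A := center G) (H := ⊤) (by omega)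
  exact ⟨g, hg, hgZ⟩

theorem vZ_lt {r : ℕ} [hr : Fact r.Prime] (h : r ∣ m) {x : G} (hx : x ∉ center G) :
    v r (center G) < v r (cz x) := by
  obtain ⟨g, hg, hgZ⟩ := H.exists_nc (r := r) (h.mul_right n)
  have h1 := v_lt_of_mem (center_le_cz g) (self_mem_cz g) hg hgZ (center_conj _)
  have h2 := H.v_r hr.out h hx
  have h3 := H.v_r hr.out h hgZ
  omega

omit H in
theorem cz_mul {x y : G} (h : y ∈ cz x) (hcop : (orderOf x).Coprime (orderOf y)) : cz (x * y) = cz x ⊓ cz y :=
  H24.centralizer_mul_of_coprime (mem_cz.1 h).symm hcop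

theorem cent_of_mn {u a : G} (hu : (cz u).index = m * n) (ha : a ∈ cz u)
    (hcop : (orderOf u).Coprime (orderOf a)) : cz u ≤ cz a := by
  have h1 := cz_mul ha hcop
  have h2 : cz (u * a) ≤ cz u := by rw [h1]; exact inf_le_left
  have h3 := H.eq_of_mn hu h2
  rw [← h3, h1]
  exact inf_le_right

theorem mul_or {x w : G} (hx : (cz x).index = m) (hw : w ∈ cz x) (hcop : (orderOf x).Coprime (orderOf w)) :
    cz x ≤ cz w ∨ (cz (x * w)).index = m * n := by
  have h1 := cz_mul hw hcop
  have h2 : cz (x * w) ≤ cz x := by rw [h1]; exact inf_le_left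
  rcases H.or3 (x * w) with h | h | h
  · exfalso
    have h3 := Subgroup.index_dvd_of_le h2
    rw [h, hx] at h3
    have := Nat.le_of_dvd one_pos h3
    have := H.hm
    omega
  · left
    have h3 := eq_of_idx h2 (by rw [h, hx])
    rw [← h3, h1]
    exact inf_le_right
  · right; exact h

theorem exists_primary_m {x : G} (hx : (cz x).index = m) : ∃ p : ℕ, p.Prime ∧ ∃ k : ℕ,
    (∃ j, orderOf (x ^ k) = p ^ j) ∧ (cz (x ^ k)).index = m ∧ cz x = cz (x ^ k) := by
  obtain ⟨p, hp, k, hk, hj⟩ := exists_primary_notMem (center G) (H.nc_m hx)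
  have h1 := cz_le_cz_pow x k
  exact ⟨p, hp, k, hj, H.idx_m_of_le hx h1 hk, H.eq_of_m hx h1 hk⟩

/-- relative index -/
theorem rel_or {x w : G} (hx : (cz x).index = m) (hw : w ∈ cz x) (hcop : (orderOf x).Coprime (orderOf w)) :
    (cz w).relIndex (cz x) = 1 ∨ (cz w).relIndex (cz x) = n := by
  rcases H.mul_or hx hw hcop with h | h
  · left; exact relIndex_eq_one.2 h
  · right
    rw [cz_mul hw hcop] at h
    have h1 := relIndex_mul_index (inf_le_left : cz x ⊓ cz w ≤ cz x)
    rw [h, hx, inf_comm, inf_relIndex_right, mul_comm] at h1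
    exact Nat.eq_of_mul_eq_mul_left (Nat.pos_of_ne_zero H.mpos) h1

end Hyp

theorem coprime_of_relem {p : ℕ} [hp : Fact p.Prime] {x w : G} (hx : ∃ k, orderOf x = p ^ k) (hw : (orderOf w).Coprime p) :
    (orderOf x).Coprime (orderOf w) := by
  obtain ⟨k, hk⟩ := hx
  rw [hk]
  exact (hw.symm).pow_left k

theorem coprime_of_relem2 {p q : ℕ} (hp : p.Prime) (hq : q.Prime) (hpq : p ≠ q) {x w : G}
    (hx : ∃ k, orderOf x = p ^ k) (hw : ∃ k, orderOf w = q ^ k) : (orderOf x).Coprime (orderOf w) := by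
  obtain ⟨k, hk⟩ := hx
  obtain ⟨l, hl⟩ := hw
  rw [hk, hl]
  exact Nat.Coprime.pow _ _ ((Nat.coprime_primes hp hq).2 hpq)

theorem coprime_of_relem3 {p q : ℕ} (hp : p.Prime) (hq : q.Prime) (hpq : p ≠ q) {w : G}
    (hw : ∃ k, orderOf w = q ^ k) : (orderOf w).Coprime p := by
  obtain ⟨l, hl⟩ := hw
  rw [hl]
  exact ((Nat.coprime_primes hq hp).2 hpq.symm).pow_left l

/-- central `r`-elements when `r` does not divide any index -/
theorem central_of_not_dvd {r : ℕ} [hr : Fact r.Prime] (h : ∀ g : G, ¬ r ∣ (cz g).index) {z : G}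
    (hz : ∃ k, orderOf z = r ^ k) : z ∈ center G := by
  obtain ⟨Q, hQ⟩ := (H24.isPGroup_zpowers_of_orderOf hz).exists_le_sylow
  have htop : centralizer ((Q : Subgroup G) : Set G) = ⊤ := by
    apply eq_top_of_forall_conj_mem
    intro x
    obtain ⟨P, hP⟩ := H24.exists_sylow_centralizes_of_not_dvd (p := r) x (h x)
    obtain ⟨g, rfl⟩ := MulAction.exists_smul_eq G P Q
    refine ⟨g, ?_⟩
    rw [mem_centralizer_iff]
    rintro _ ⟨q, hq, rfl⟩
    have h3 := mem_centralizer_iff.1 hP q hq
    show g * q * g⁻¹ * (g * x * g⁻¹) = g * x * g⁻¹ * (g * q * g⁻¹)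
    calc _ = g * (q * x) * g⁻¹ := by group
      _ = g * (x * q) * g⁻¹ := by rw [h3]
      _ = _ := by group
  rw [mem_center_iff]
  intro g
  have h1 : g ∈ centralizer ((Q : Subgroup G) : Set G) := by rw [htop]; exact mem_top _
  exact (mem_centralizer_iff.1 h1 z (hQ (mem_zpowers z))).symm

theorem idx_in {C : Subgroup G} (y : C) : (centralizer ({y} : Set C)).index = (cz (y : G)).relIndex C := by
  rw [← subgroupOf_centralizer_singleton]
  rfl

end Cfsg.Agent.H25.CS3
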