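import Cfsg.Agent.H25.CSB

set_option autoImplicit false
set_option linter.unusedSectionVars false
set_option linter.unusedVariables false

namespace Cfsg.Agent.H25.CS3

open Subgroup

variable {G : Type*} [Group G] [Finite G]

theorem v_map_conj (q : ℕ) (W : Subgroup G) (g : G) : v q (W.map (MulAut.conj g).toMonoidHom) = v q W := by
  have hinj : Function.Injective (MulAut.conj g).toMonoidHom := (MulAut.conj g).injective
  rw [v, v, Nat.card_congr (equivMapOfInjective W _ hinj).toEquiv]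

namespace Hyp

variable {m n : ℕ} (H : Hyp G m n)

include H

section F1

variable {p : ℕ} [hp : Fact p.Prime]

theorem cam_hyp (hpm : p ∣ m) {x : G} (hxp : ∃ k, orderOf x = p ^ k) (hx : (cz x).index = m)
    (y : cz x) (hy : (orderOf y).Coprime p) : ¬ p ∣ (centralizer ({y} : Set (cz x))).index := by
  have hy' : (orderOf (y : G)).Coprime p := by rwa [Subgroup.orderOf_coe]
  rw [idx_in]
  rcases H.rel_or hx y.2 (coprime_of_relem hxp hy') with h | h
  · rw [h]; exact hp.out.one_lt.ne' ∘ Nat.dvd_one.1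
  · rw [h]; exact H.not_dvd_n hp.out hpm

theorem cam1 (hpm : p ∣ m) {x : G} (hxp : ∃ k, orderOf x = p ^ k) (hx : (cz x).index = m)
    {a y : G} (ha : a ∈ cz x) (hy : y ∈ cz x) (hap : ∃ k, orderOf a = p ^ k) (hyp : (orderOf y).Coprime p) :
    a * y = y * a := by
  have := camina p (H.cam_hyp hpm hxp hx) ⟨a, ha⟩ ⟨y, hy⟩ (by rwa [Subgroup.orderOf_mk]) (by rwa [Subgroup.orderOf_mk])
  exact congrArg Subtype.val this

theorem cam2 (hpm : p ∣ m) {x : G} (hxp : ∃ k, orderOf x = p ^ k) (hx : (cz x).index = m)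
    {K : Subgroup G} (hK : v p (K ⊓ cz x) = v p (cz x)) {a : G} (ha : a ∈ cz x) (hap : ∃ k, orderOf a = p ^ k) :
    a ∈ K := by
  have h1 := camina_mem p (H.cam_hyp hpm hxp hx) (H := K.subgroupOf (cz x)) (by
    rw [v, v, Subgroup.card_top, ← inf_subgroupOf_right, Nat.card_congr (subgroupOfEquivOfLe inf_le_right).toEquiv]
    exact hK) (a := ⟨a, ha⟩) (by rwa [Subgroup.orderOf_mk])
  exact h1

/-- case (a) -/
theorem F1a (hpm : p ∣ m) {x : G} (hxp : ∃ k, orderOf x = p ^ k) (hx : (cz x).index = m)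
    {q : ℕ} [hq : Fact q.Prime] (hqm : q ∣ m) (hqp : q ≠ p) {w : G} (hw : w ∈ cz x)
    (hwq : ∃ k, orderOf w = q ^ k) : cz x ≤ cz w := by
  obtain ⟨Q, hQ⟩ := (H24.isPGroup_zpowers_of_orderOf (u := (⟨w, hw⟩ : cz x)) (by rwa [Subgroup.orderOf_mk])).exists_le_sylow
  have htop : centralizer ((Q : Subgroup (cz x)) : Set (cz x)) = ⊤ := by
    apply eq_top_of_forall_conj_mem
    intro g
    obtain ⟨i, j, hg, hi, hj⟩ := H24.exists_pPart_decomp p g
    have hj' : (orderOf ((g ^ j : cz x) : G)).Coprime p := by rwa [Subgroup.orderOf_coe]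
    have hnd : ¬ q ∣ (centralizer ({g ^ j} : Set (cz x))).index := by
      rw [idx_in]
      rcases H.rel_or hx (g ^ j).2 (coprime_of_relem hxp hj') with h | h
      · rw [h]; exact hq.out.one_lt.ne' ∘ Nat.dvd_one.1
      · rw [h]; exact H.not_dvd_n hq.out hqm
    obtain ⟨P, hP⟩ := H24.exists_sylow_centralizes_of_not_dvd (p := q) _ hnd
    obtain ⟨t, rfl⟩ := MulAction.exists_smul_eq (cz x) P Q
    refine ⟨t, ?_⟩
    rw [mem_centralizer_iff]
    rintro _ ⟨s, hs, rfl⟩
    have h3 := mem_centralizer_iff.1 hP s hs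
    have hsq : ∃ k, orderOf s = q ^ k := H24.exists_orderOf_eq_pow_of_mem P.isPGroup' hs
    have h4 : (g ^ i) * s = s * (g ^ i) :=
      camina p (H.cam_hyp hpm hxp hx) _ _ hi (coprime_of_relem3 hp.out hq.out hqp.symm hsq)
    have h5 : s * g = g * s := by
      rw [hg, ← mul_assoc, ← h4, mul_assoc, h3, mul_assoc]
    show t * s * t⁻¹ * (t * g * t⁻¹) = t * g * t⁻¹ * (t * s * t⁻¹)
    calc _ = t * (s * g) * t⁻¹ := by group
      _ = t * (g * s) * t⁻¹ := by rw [h5]
      _ = _ := by group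
  intro c hc
  have h1 : (⟨c, hc⟩ : cz x) ∈ centralizer ((Q : Subgroup (cz x)) : Set (cz x)) := by rw [htop]; exact mem_top _
  have h2 := mem_centralizer_iff.1 h1 ⟨w, hw⟩ (hQ (mem_zpowers _))
  exact mem_cz.2 (congrArg Subtype.val h2).symm

/-- case (b1) -/
theorem F1b1 {x : G} (hx : (cz x).index = m) {q : ℕ} [hq : Fact q.Prime] (hqm : ¬ q ∣ m)
    {z : G} (hz : z ∈ cz x) (hzq : ∃ k, orderOf z = q ^ k) (hcop : (orderOf x).Coprime (orderOf z))
    (hnd : ¬ q ∣ (cz (x * z)).index) : cz x ≤ cz z := by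
  rcases H.mul_or hx hz hcop with h | h
  · exact h
  · have hqn : ¬ q ∣ n := fun h' => hnd (by rw [h]; exact h'.mul_left m)
    have h1 : z ∈ center G := central_of_not_dvd (r := q) (fun g => by
      rcases H.or3 g with h2 | h2 | h2
      · rw [h2]; exact hq.out.one_lt.ne' ∘ Nat.dvd_one.1
      · rw [h2]; exact hqm
      · rw [h2, hq.out.dvd_mul]; tauto) hzq
    intro c hc
    exact mem_cz.2 (mem_center_iff.1 h1 c)

/-- case (b2) -/
theorem F1b2 (hpm : p ∣ m) {x : G} (hxp : ∃ k, orderOf x = p ^ k) (hx : (cz x).index = m)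
    {q : ℕ} [hq : Fact q.Prime] (hqm : ¬ q ∣ m) (hqp : q ≠ p) {w : G} (hw : w ∈ cz x)
    (hwq : ∃ k, orderOf w = q ^ k) (hwm : (cz w).index = m) : cz x ≤ cz w := by
  have hmf : m.factorization q = 0 := Nat.factorization_eq_zero_of_not_dvd hqm
  -- a full q-subgroup of `cz w` containing `w`
  obtain ⟨W, hzW, hWw, hW, hWv⟩ := exists_rsub q (cz w) (zpowers w) (by rw [zpowers_le]; exact self_mem_cz w)
    (H24.isPGroup_zpowers_of_orderOf hwq)
  have hvw : v q (cz w) = v q (⊤ : Subgroup G) := by have := H.v_m hwm q; omega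
  have hvx : v q (cz x) = v q (⊤ : Subgroup G) := by have := H.v_m hx q; omega
  obtain ⟨g, hg⟩ := conj_into_top hvx hW
  set z := g * w * g⁻¹ with hz
  have hzx : z ∈ cz x := hg w (hzW (mem_zpowers w))
  have hzq : ∃ k, orderOf z = q ^ k := conj_relem hwq
  have hcop : (orderOf x).Coprime (orderOf z) := coprime_of_relem2 hp.out hq.out hqp.symm hxp hzq
  have hle : W.map (MulAut.conj g).toMonoidHom ≤ cz (x * z) := by
    rw [cz_mul hzx hcop]
    rintro _ ⟨s, hs, rfl⟩
    refine ⟨hg s hs, ?_⟩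
    exact conj_mem_cz.2 (hWw hs)
  have hnd : ¬ q ∣ (cz (x * z)).index := by
    rw [not_dvd_index_iff hq.out]
    apply le_antisymm (v_mono q le_top)
    rw [← hvw, ← hWv]
    rw [← v_map_conj q W g]
    exact v_mono q hle
  have h1 : cz x ≤ cz z := H.F1b1 hx hqm hzx hzq hcop hnd
  have hzZ : z ∉ center G := by
    rw [hz, conj_center]; exact H.nc_m hwm
  have h2 : cz x = cz z := H.eq_of_m hx h1 hzZ
  -- `cz w = cz x'`
  set x' := g⁻¹ * x * g with hx'
  have hwx' : ∀ c, c ∈ cz w ↔ c ∈ cz x' := by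
    intro c
    have h3 : c ∈ cz w ↔ g * c * g⁻¹ ∈ cz z := conj_mem_cz.symm
    have e : x = g * x' * g⁻¹ := by rw [hx']; group
    rw [h3, ← h2]
    conv_lhs => rw [e]
    exact conj_mem_cz
  have hxe : cz w = cz x' := by ext c; exact hwx' c
  have hx'p : ∃ k, orderOf x' = p ^ k := by
    have := conj_relem (g := g⁻¹) hxp
    rwa [inv_inv] at this
  have hx'm : (cz x').index = m := by rw [← hxe]; exact hwm
  have hxw : x ∈ cz x' := by rw [← hxe]; exact mem_cz_symm.1 hw
  -- `cz x' ≤ cz x`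
  have hle2 : cz x' ≤ cz x := by
    intro c hc
    obtain ⟨i, j, hcij, hi, hj⟩ := H24.exists_pPart_decomp p c
    have hci : c ^ i ∈ cz x' := (cz x').pow_mem hc i
    have hcj : c ^ j ∈ cz x' := (cz x').pow_mem hc j
    rw [hcij]
    apply mul_mem
    · apply H.cam2 hpm hx'p hx'm (K := cz x) _ hci hi
      -- v p (cz x ⊓ cz x') = v p (cz x')
      rw [← hxe, ← cz_mul hw (coprime_of_relem2 hp.out hq.out hqp.symm hxp hwq)]
      have hn0 := H.nfac_zero hp.out hpm
      rcases H.mul_or hx hw (coprime_of_relem2 hp.out hq.out hqp.symm hxp hwq) with h | h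
      · rw [cz_mul hw (coprime_of_relem2 hp.out hq.out hqp.symm hxp hwq), inf_eq_left.2 h]
        have h3 := H.v_m hx p
        have h4 := H.v_m hwm p
        omega
      · have h3 := H.v_mn h p
        have h4 := H.v_m hwm p
        omega
    · exact mem_cz.2 (H.cam1 hpm hx'p hx'm hxw hcj hxp hj).symm
  have h5 : cz x' = cz x := eq_of_idx hle2 (by rw [hx'm, hx])
  rw [hxe, h5]

/-- case (b) -/
theorem F1b (hpm : p ∣ m) {x : G} (hxp : ∃ k, orderOf x = p ^ k) (hx : (cz x).index = m)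
    {q : ℕ} [hq : Fact q.Prime] (hqm : ¬ q ∣ m) (hqp : q ≠ p) {w : G} (hw : w ∈ cz x)
    (hwq : ∃ k, orderOf w = q ^ k) : cz x ≤ cz w := by
  by_contra hcon
  have key : ∀ u ∈ cz x, (∃ k, orderOf u = q ^ k) → ¬ cz x ≤ cz u → (cz u).index = m * n ∧ cz u ≤ cz x := by
    intro u hu huq hnle
    have hcop := coprime_of_relem2 hp.out hq.out hqp.symm hxp huq
    have hZ : u ∉ center G := fun h => hnle (fun c hc => mem_cz.2 (mem_center_iff.1 h c))
    have h1 : (cz u).index = m * n := by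
      rcases H.or2 hZ with h | h
      · exact absurd (H.F1b2 hpm hxp hx hqm hqp hu huq h) hnle
      · exact h
    refine ⟨h1, ?_⟩
    have h2 : cz (x * u) ≤ cz u := by rw [cz_mul hu hcop]; exact inf_le_right
    rw [← H.eq_of_mn h1 h2, cz_mul hu hcop]
    exact inf_le_left
  obtain ⟨hwm, hwle⟩ := key w hw hwq hcon
  set ZC : Subgroup G := cz x ⊓ centralizer ((cz x : Subgroup G) : Set G) with hZC
  have hmem : ∀ u ∈ cz x, u ∉ ZC → ¬ cz x ≤ cz u := by
    intro u hu huZ hle
    apply huZ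
    refine Subgroup.mem_inf.2 ⟨hu, ?_⟩
    rw [mem_centralizer_iff]
    intro c hc
    exact mem_cz.1 (hle hc)
  have hwZC : w ∉ ZC := by
    intro h
    apply hcon
    intro c hc
    exact mem_cz.2 (mem_centralizer_iff.1 h.2 c hc)
  have hZCw : ZC ≤ cz w := by
    intro z hz
    exact mem_cz.2 (mem_centralizer_iff.1 hz.2 w hw).symm
  have hvlt : v q ZC < v q (cz w) := by
    apply v_lt_of_mem hZCw (self_mem_cz w) hwq hwZC
    intro k hk z hz
    have h1 : k * z = z * k := mem_centralizer_iff.1 hz.2 k (hwle hk)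
    rw [h1, mul_inv_cancel_right]
    exact hz
  have hvx : v q (cz x) = v q (⊤ : Subgroup G) := by
    have := H.v_m hx q
    rw [Nat.factorization_eq_zero_of_not_dvd hqm] at this
    omega
  have htop : cz x = ⊤ := by
    apply eq_top_of_forall_conj_mem
    intro g
    by_cases hgZ : g ∈ center G
    · refine ⟨1, ?_⟩
      have e : 1 * g * 1⁻¹ = g := by group
      rw [e]
      exact center_le_cz x hgZ
    · obtain ⟨W, -, hWg, hW, hWv⟩ := exists_rsub q (cz g) ⊥ bot_le (IsPGroup.of_bot)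
      obtain ⟨t, ht⟩ := conj_into_top hvx hW
      have h1 := H.v_le_of_mn (g := g) hwm q
      have : ∃ s ∈ W, t * s * t⁻¹ ∉ ZC := by
        by_contra hc2
        push Not at hc2
        have h2 : W.map (MulAut.conj t).toMonoidHom ≤ ZC := by
          rintro _ ⟨s, hs, rfl⟩
          exact hc2 s hs
        have h3 := v_mono q h2
        have h4 := v_map_conj q W t
        omega
      obtain ⟨s, hs, hsZ⟩ := this
      have hsq : ∃ k, orderOf (t * s * t⁻¹) = q ^ k := conj_relem (H24.exists_orderOf_eq_pow_of_mem hW hs)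
      obtain ⟨-, h5⟩ := key _ (ht s hs) hsq (hmem _ (ht s hs) hsZ)
      refine ⟨t, h5 ?_⟩
      exact conj_mem_cz.2 (mem_cz_symm.1 (hWg hs))
  have := H.hm
  rw [htop, index_top] at hx
  omega

/-- for `p ∣ m` the `p'`-elements of the centralizer are central in it -/
theorem F1 (hpm : p ∣ m) {x : G} (hxp : ∃ k, orderOf x = p ^ k) (hx : (cz x).index = m)
    {w : G} (hw : w ∈ cz x) (hwp : (orderOf w).Coprime p) : cz x ≤ cz w := by
  set ZC : Subgroup G := cz x ⊓ centralizer ((cz x : Subgroup G) : Set G) with hZC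
  have hiff : ∀ u ∈ cz x, (u ∈ ZC ↔ cz x ≤ cz u) := by
    intro u hu
    constructor
    · intro h c hc
      exact mem_cz.2 (mem_centralizer_iff.1 h.2 c hc)
    · intro hle
      refine Subgroup.mem_inf.2 ⟨hu, ?_⟩
      rw [mem_centralizer_iff]
      intro c hc
      exact mem_cz.1 (hle hc)
  rw [← hiff w hw]
  by_contra hcon
  obtain ⟨q, hq, k, hk, hj⟩ := exists_primary_notMem ZC hcon
  haveI : Fact q.Prime := ⟨hq⟩
  have hwk : w ^ k ∈ cz x := (cz x).pow_mem hw k
  have hqp : q ≠ p := by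
    rintro rfl
    obtain ⟨j, hj⟩ := hj
    have h1 : orderOf (w ^ k) ∣ orderOf w := orderOf_pow_dvd k
    have h2 : (orderOf (w ^ k)).Coprime q := Nat.Coprime.coprime_dvd_left h1 hwp
    rcases Nat.eq_zero_or_pos j with h0 | h0
    · rw [h0, pow_zero, orderOf_eq_one_iff] at hj
      rw [hj] at hk
      exact hk (one_mem _)
    · rw [hj] at h2
      exact hq.one_lt.ne' (Nat.eq_one_of_dvd_coprimes h2 (dvd_pow_self q h0.ne') dvd_rfl)
  apply hk
  rw [hiff _ hwk]
  by_cases hqm : q ∣ m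
  · exact H.F1a hpm hxp hx hqm hqp hwk hj
  · exact H.F1b hpm hxp hx hqm hqp hwk hj

end F1

end Hyp

end Cfsg.Agent.H25.CS3
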