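import Cfsg.Agent.H25.CSC
import Cfsg.Agent.H1.Hall

set_option autoImplicit false
set_option linter.unusedSectionVars false
set_option linter.unusedVariables false

namespace Cfsg.Agent.H25.CS3

open Subgroup

variable {G : Type*} [Group G] [Finite G]

theorem cz_center_mul {z y : G} (hz : z ∈ center G) : cz (z * y) = cz y := by
  ext c
  rw [mem_cz, mem_cz]
  have h1 := mem_center_iff.1 hz
  constructor
  · intro h
    have h2 : z * (c * y) = z * (y * c) := by
      calc _ = c * (z * y) := by rw [← mul_assoc, ← h1 c, mul_assoc]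
        _ = _ := by rw [h, mul_assoc]
    exact mul_left_cancel h2
  · intro h
    rw [← mul_assoc, h1 c, mul_assoc, h, mul_assoc]

/-- `g` moves `x` by a central element and orders are coprime -/
theorem central_trick {g x z : G} (hz : z ∈ center G) (h : g * x * g⁻¹ = x * z)
    (hcop : (orderOf g).Coprime (orderOf x)) : z = 1 := by
  have hzc := mem_center_iff.1 hz
  have h1 : ∀ k : ℕ, g ^ k * x * (g ^ k)⁻¹ = x * z ^ k := by
    intro k
    induction k with
    | zero => simp
    | succ k ih =>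
      calc g ^ (k + 1) * x * (g ^ (k + 1))⁻¹ = g * (g ^ k * x * (g ^ k)⁻¹) * g⁻¹ := by rw [pow_succ']; group
        _ = g * (x * z ^ k) * g⁻¹ := by rw [ih]
        _ = (g * x * g⁻¹) * (g * z ^ k * g⁻¹) := by group
        _ = x * z * z ^ k := by
          rw [h]
          congr 1
          have : z ^ k ∈ center G := (center G).pow_mem hz k
          rw [mem_center_iff.1 this g, mul_inv_cancel_right]
        _ = x * z ^ (k + 1) := by rw [mul_assoc, ← pow_succ']
  have h2 : z ^ orderOf g = 1 := by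
    have := h1 (orderOf g)
    rw [pow_orderOf_eq_one, one_mul, inv_one, mul_one] at this
    exact (mul_eq_left.1 this.symm)
  have h3 : z ^ orderOf x = 1 := by
    have h4 : (g * x * g⁻¹) ^ orderOf x = 1 := by
      rw [conj_pow, pow_orderOf_eq_one, mul_one, mul_inv_cancel]
    rw [h] at h4
    have hc : Commute x z := hzc x
    rw [hc.mul_pow, pow_orderOf_eq_one, one_mul] at h4
    exact h4
  have h4 : orderOf z ∣ 1 := by
    rw [← hcop]
    exact Nat.dvd_gcd (orderOf_dvd_of_pow_eq_one h2) (orderOf_dvd_of_pow_eq_one h3)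
  exact orderOf_eq_one_iff.1 (Nat.dvd_one.1 h4)

theorem center_trick_mem {g x z : G} (hz : z ∈ center G) (h : g * x * g⁻¹ = x * z)
    (hcop : (orderOf g).Coprime (orderOf x)) : g ∈ cz x := by
  have h1 := central_trick hz h hcop
  rw [h1, mul_one] at h
  rw [mem_cz]
  calc g * x = (g * x * g⁻¹) * g := by group
    _ = x * g := by rw [h]

/-- powers -/
theorem pow_comm_central {b y z : G} (hz : z ∈ center G) (h : b * y = z * (y * b)) (i j : ℕ) :
    b ^ i * y ^ j = z ^ (i * j) * (y ^ j * b ^ i) := by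
  have hzc : ∀ (c : G) (k : ℕ), c * z ^ k = z ^ k * c := fun c k => mem_center_iff.1 ((center G).pow_mem hz k) c
  have h1 : ∀ i : ℕ, b ^ i * y = z ^ i * (y * b ^ i) := by
    intro i
    induction i with
    | zero => simp
    | succ i ih =>
      calc b ^ (i + 1) * y = b * (b ^ i * y) := by rw [pow_succ', mul_assoc]
        _ = (b * z ^ i) * (y * b ^ i) := by rw [ih, mul_assoc]
        _ = z ^ i * (b * y) * b ^ i := by rw [hzc]; group
        _ = z ^ i * (z * (y * b)) * b ^ i := by rw [h]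
        _ = z ^ (i + 1) * (y * b ^ (i + 1)) := by rw [pow_succ z, pow_succ' b]; group
  induction j with
  | zero => simp
  | succ j ih =>
    calc b ^ i * y ^ (j + 1) = (b ^ i * y ^ j) * y := by rw [pow_succ, mul_assoc]
      _ = z ^ (i * j) * y ^ j * (b ^ i * y) := by rw [ih]; group
      _ = z ^ (i * j) * y ^ j * (z ^ i * (y * b ^ i)) := by rw [h1]
      _ = z ^ (i * j) * (y ^ j * z ^ i) * (y * b ^ i) := by group
      _ = z ^ (i * j) * (z ^ i * y ^ j) * (y * b ^ i) := by rw [hzc]
      _ = z ^ (i * (j + 1)) * (y ^ (j + 1) * b ^ i) := by rw [mul_add, mul_one, pow_add, pow_succ y]; group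

theorem comm_of_conj {b y : G} (h : b * y * b⁻¹ * y⁻¹ ∈ center G) : ∃ z ∈ center G, b * y = z * (y * b) :=
  ⟨_, h, by group⟩

/-- `z^r = 1` -/
theorem z_pow_one {b y z : G} {r : ℕ} (hz : z ∈ center G) (h : b * y = z * (y * b)) (hyr : y ^ r ∈ center G) :
    z ^ r = 1 := by
  have h1 := pow_comm_central hz h 1 r
  rw [one_mul, pow_one, mem_center_iff.1 hyr b] at h1
  exact (mul_eq_right.1 h1.symm)

theorem pow_mem_cz {b y : G} {r : ℕ} (h : b * y * b⁻¹ * y⁻¹ ∈ center G) (hyr : y ^ r ∈ center G) : b ^ r ∈ cz y := by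
  obtain ⟨z, hz, h1⟩ := comm_of_conj h
  have h2 := z_pow_one hz h1 hyr
  have h3 := pow_comm_central hz h1 r 1
  rw [mul_one, h2, pow_one, one_mul] at h3
  exact mem_cz.2 h3

/-- commutators act trivially -/
theorem comm_mem_cz {a b y : G} (ha : a * y * a⁻¹ * y⁻¹ ∈ center G) (hb : b * y * b⁻¹ * y⁻¹ ∈ center G) :
    (b * a)⁻¹ * (a * b) ∈ cz y := by
  obtain ⟨z, hz, h1⟩ := comm_of_conj ha
  obtain ⟨w, hw, h2⟩ := comm_of_conj hb
  have hzc := mem_center_iff.1 hz
  have hwc := mem_center_iff.1 hw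
  have e1 : a * b * y = z * w * (y * (a * b)) := by
    calc a * b * y = a * (b * y) := by group
      _ = (a * w) * (y * b) := by rw [h2]; group
      _ = w * (a * y) * b := by rw [hwc]; group
      _ = w * (z * (y * a)) * b := by rw [h1]
      _ = (w * z) * (y * (a * b)) := by group
      _ = _ := by rw [hzc w]
  have e2 : b * a * y = z * w * (y * (b * a)) := by
    calc b * a * y = b * (a * y) := by group
      _ = (b * z) * (y * a) := by rw [h1]; group
      _ = z * (b * y) * a := by rw [hzc]; group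
      _ = z * (w * (y * b)) * a := by rw [h2]
      _ = _ := by group
  rw [mem_cz]
  have hc : z * w ∈ center G := mul_mem hz hw
  have e3 : (b * a)⁻¹ * (z * w * (y * (a * b))) = z * w * ((b * a)⁻¹ * (y * (a * b))) := by
    rw [← mul_assoc, mem_center_iff.1 hc, mul_assoc]
  have e4 : (b * a)⁻¹ * y = (z * w)⁻¹ * (y * (b * a)⁻¹) := by
    have e5 : y * (b * a)⁻¹ = (b * a)⁻¹ * (b * a * y) * (b * a)⁻¹ := by group
    rw [e5, e2]
    have e6 := mem_center_iff.1 hc (b * a)⁻¹
    calc (b * a)⁻¹ * y = (z * w)⁻¹ * (z * w * (b * a)⁻¹) * y := by group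
      _ = (z * w)⁻¹ * ((b * a)⁻¹ * (z * w)) * y := by rw [e6]
      _ = _ := by group
  calc (b * a)⁻¹ * (a * b) * y = (b * a)⁻¹ * (a * b * y) := by group
    _ = z * w * ((b * a)⁻¹ * (y * (a * b))) := by rw [e1, e3]
    _ = z * w * (((b * a)⁻¹ * y) * (a * b)) := by group
    _ = z * w * ((z * w)⁻¹ * (y * (b * a)⁻¹) * (a * b)) := by rw [e4]
    _ = y * ((b * a)⁻¹ * (a * b)) := by group

theorem v_inf_of_normalizes {r : ℕ} [hr : Fact r.Prime] {R D : Subgroup G} (hRv : v r R = v r (⊤ : Subgroup G))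
    (hn : ∀ u ∈ R, ∀ c ∈ D, u * c * u⁻¹ ∈ D) : v r D ≤ v r (R ⊓ D) := by
  have h1 := H1.card_sup_mul_card_inf_of_le_normalizer (H := D) (K := R) (fun u hu => mem_norm (hn u hu))
  rw [sup_comm, inf_comm, mul_comm (Nat.card D)] at h1
  have h2 : v r (R ⊔ D) + v r (R ⊓ D) = v r R + v r D := by
    unfold v
    rw [← Finsupp.add_apply, ← Finsupp.add_apply, ← Nat.factorization_mul (card_ne _) (card_ne _),
      ← Nat.factorization_mul (card_ne _) (card_ne _), h1]
  have h3 := v_mono r (le_top : R ⊔ D ≤ ⊤)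
  omega

/-- subgroups of index `p` in a `p`-group are normal -/
theorem conj_mem_of_index {r : ℕ} [hr : Fact r.Prime] {W R : Subgroup G} (hR : IsPGroup r R) (hWR : W ≤ R)
    (hv : v r R = v r W + 1) : ∀ g ∈ R, ∀ w ∈ W, g * w * g⁻¹ ∈ W := by
  have h1 : (W.subgroupOf R).index = r := by
    have h2 := Subgroup.card_mul_index (W.subgroupOf R)
    rw [Nat.card_congr (subgroupOfEquivOfLe hWR).toEquiv, card_rgroup hR, card_rgroup (hR.to_le hWR), hv, pow_succ] at h2
    exact Nat.eq_of_mul_eq_mul_left (pow_pos hr.out.pos _) h2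
  have h3 : (W.subgroupOf R).Normal := by
    apply normal_of_index_eq_minFac_card
    rw [h1, card_rgroup hR, hv]
    exact (hr.out.pow_minFac (Nat.succ_ne_zero _)).symm
  intro g hg w hw
  exact h3.conj_mem ⟨w, hWR hw⟩ hw ⟨g, hg⟩

end Cfsg.Agent.H25.CS3
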