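import Cfsg.Agent.H25.CSD

set_option autoImplicit false
set_option linter.unusedSectionVars false
set_option linter.unusedVariables false

namespace Cfsg.Agent.H25.CS3

open Subgroup

variable {G : Type*} [Group G] [Finite G]

namespace Hyp

variable {m n : ℕ} (H : Hyp G m n)

/-- the situation to be excluded -/
def Star (m n : ℕ) (G : Type*) [Group G] : Prop :=
  ∀ r : ℕ, r.Prime → r ∣ m → ∀ y : G, (∃ k, orderOf y = r ^ k) → y ∉ center G → (cz y).index = m * n

include H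

variable (hst : Star m n G) {p : ℕ} [hp : Fact p.Prime] (hpm : ¬ p ∣ m) {x : G} (hxp : ∃ k, orderOf x = p ^ k)
  (hx : (cz x).index = m)

include hst hpm hxp hx

theorem star_exists {r : ℕ} [hr : Fact r.Prime] (hrm : r ∣ m) {u : G} (hu : ∃ k, orderOf u = r ^ k)
    (huZ : u ∉ center G) : ∃ a ∈ cz u, (∃ k, orderOf a = p ^ k) ∧ (cz a).index = m := by
  have hrp : r ≠ p := by rintro rfl; exact hpm hrm
  have hum := hst r hr.out hrm u hu huZ
  obtain ⟨y, hyx, hyr, hyZ⟩ := exists_relem (H.vZ_lt hrm (H.nc_m hx))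
  have hym := hst r hr.out hrm y hyr hyZ
  have h1 := v_lt_of_mem (center_le_cz y) (mem_cz_symm.1 hyx) hxp (H.nc_m hx) (center_conj _)
  have h2 : v p (cz u) = v p (cz y) := by
    have := H.v_mn hum p
    have := H.v_mn hym p
    omega
  obtain ⟨W, -, hWu, hW, hWv⟩ := exists_rsub p (cz u) ⊥ bot_le (IsPGroup.of_bot)
  obtain ⟨v0, hv0, hv0Z⟩ := exists_relem_of hW (A := center G) (by omega)
  obtain ⟨P, hP⟩ := hW.exists_le_sylow
  have hvx : v p (cz x) = v p (⊤ : Subgroup G) := by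
    have := H.v_m hx p
    rw [Nat.factorization_eq_zero_of_not_dvd hpm] at this
    omega
  obtain ⟨t, ht⟩ := conj_into_top hvx P.isPGroup'
  have hv0p : ∃ k, orderOf v0 = p ^ k := H24.exists_orderOf_eq_pow_of_mem hW hv0
  rcases H.or2 hv0Z with h | h
  · exact ⟨v0, hWu hv0, hv0p, h⟩
  · have h3 : cz u ≤ cz v0 := H.cent_of_mn hum (hWu hv0) (coprime_of_relem2 hr.out hp.out hrp hu hv0p)
    have h4 := H.eq_of_mn h h3
    refine ⟨t⁻¹ * x * t, ?_, ?_, ?_⟩
    · rw [h4, mem_cz_symm]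
      have h5 := ht v0 (hP hv0)
      have e : x = t * (t⁻¹ * x * t) * t⁻¹ := by group
      rw [e] at h5
      exact conj_mem_cz.1 h5
    · have := conj_relem (g := t⁻¹) hxp
      rwa [inv_inv] at this
    · have := idx_conj t⁻¹ x
      rw [inv_inv] at this
      rw [this, hx]

theorem star_fac {r : ℕ} [hr : Fact r.Prime] (hrm : r ∣ m) : m.factorization r = 1 := by
  have hrp : r ≠ p := by rintro rfl; exact hpm hrm
  obtain ⟨R⟩ : Nonempty (Sylow r G) := inferInstance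
  have hRv : v r (R : Subgroup G) = v r (⊤ : Subgroup G) := by
    rw [← not_dvd_index_iff hr.out]; exact R.not_dvd_index
  have hRZ : ¬ (R : Subgroup G) ≤ center G := by
    intro h
    have h1 := v_mono r h
    have h2 := H.vZ_lt hrm (H.nc_m hx)
    have h3 := v_mono r (le_top : cz x ≤ ⊤)
    omega
  obtain ⟨y, hyR, hyZ, hyr, hyc⟩ := exists_next R.isPGroup' le_rfl (fun k hk x hx => mul_mem (mul_mem hk hx) (inv_mem hk)) hRZ
  have hyre : ∃ k, orderOf y = r ^ k := H24.exists_orderOf_eq_pow_of_mem R.isPGroup' hyR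
  have hym := hst r hr.out hrm y hyre hyZ
  have hRD : ∀ u ∈ (R : Subgroup G), ∀ c ∈ cz y, u * c * u⁻¹ ∈ cz y := by
    intro u hu c hc
    have h1 : u * c * u⁻¹ ∈ cz (u * y * u⁻¹) := conj_mem_cz.2 hc
    have e : u * y * u⁻¹ = (u * y * u⁻¹ * y⁻¹) * y := by group
    rw [e, cz_center_mul (hyc u hu)] at h1
    exact h1
  have hvT : v r (cz y) ≤ v r ((R : Subgroup G) ⊓ cz y) := v_inf_of_normalizes hRv hRD
  set T := (R : Subgroup G) ⊓ cz y with hT
  obtain ⟨a, hay, hap, ham⟩ := H.star_exists hst hpm hxp hx hrm hyre hyZ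
  obtain ⟨W, haW, hWy, hW, hWv⟩ := exists_rsub p (cz y) (zpowers a) (by rwa [zpowers_le])
    (H24.isPGroup_zpowers_of_orderOf hap)
  have hcent : ∀ c ∈ cz y, (∃ k, orderOf c = p ^ k) → cz y ≤ cz c := fun c hc hcp =>
    H.cent_of_mn hym hc (coprime_of_relem2 hr.out hp.out hrp hyre hcp)
  have hWn : ∀ k ∈ cz y, ∀ w ∈ W, k * w * k⁻¹ ∈ W := by
    intro k hk w hw
    have h1 := mem_cz.1 (hcent w (hWy hw) (H24.exists_orderOf_eq_pow_of_mem hW hw) hk)
    rw [h1, mul_inv_cancel_right]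
    exact hw
  have hWall : ∀ c ∈ cz y, (∃ k, orderOf c = p ^ k) → c ∈ W := fun c hc hcp =>
    mem_of_normal hWy hWv.ge hWn hc hcp
  have hfix : ∀ u ∈ (R : Subgroup G), u ∉ T → ∀ w ∈ W, u * w = w * u → w ∈ center G := by
    intro u hu huT w hw huw
    by_contra hwZ
    have h1 := hcent w (hWy hw) (H24.exists_orderOf_eq_pow_of_mem hW hw)
    have h2 : T < (R : Subgroup G) ⊓ cz w := by
      refine lt_of_le_of_ne (inf_le_inf_left _ h1) (fun h => huT ?_)
      rw [h]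
      exact Subgroup.mem_inf.2 ⟨hu, mem_cz.2 huw⟩
    have h3 := v_lt (R.isPGroup'.to_le inf_le_left) h2
    have h4 := v_mono r (inf_le_right : (R : Subgroup G) ⊓ cz w ≤ cz w)
    have h5 := H.v_r hr.out hrm hyZ
    have h6 := H.v_r hr.out hrm hwZ
    omega
  by_contra hne
  have hmf := H.mfac_pos hr.out hrm
  have hyv := H.v_r hr.out hrm hyZ
  have hTR : T ≤ (R : Subgroup G) := inf_le_left
  have hcard : Nat.card T * r < Nat.card (R : Subgroup G) := by
    rw [card_rgroup R.isPGroup', card_rgroup (R.isPGroup'.to_le hTR), ← pow_succ]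
    apply Nat.pow_lt_pow_right hr.out.one_lt
    have h9 : v r T ≤ v r (cz y) := v_mono r inf_le_right
    show v r T + 1 < v r (R : Subgroup G)
    omega
  have : ∃ b ∈ (R : Subgroup G), b ∉ T := by
    by_contra hcon
    push Not at hcon
    have h1 := Subgroup.card_dvd_of_le (show (R : Subgroup G) ≤ T from hcon)
    have h2 := Nat.le_of_dvd Nat.card_pos h1
    have h3 : 0 < Nat.card T := Nat.card_pos
    have h4 := hr.out.two_le
    nlinarith
  obtain ⟨b, hb, hbT⟩ := this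
  have hpowT : ∀ c ∈ (R : Subgroup G), c ^ r ∈ T := fun c hc =>
    Subgroup.mem_inf.2 ⟨pow_mem hc r, pow_mem_cz (hyc c hc) hyr⟩
  obtain ⟨a0, ha0, ha0T⟩ := exists_outside hTR hb (hpowT b hb) hcard
  have hRW : ∀ u ∈ (R : Subgroup G), ∀ w ∈ W, u * w * u⁻¹ ∈ W := by
    intro u hu w hw
    exact hWall _ (hRD u hu w (hWy hw)) (conj_relem (H24.exists_orderOf_eq_pow_of_mem hW hw))
  have hTW : ∀ t ∈ T, ∀ w ∈ W, t * w = w * t := by
    intro t ht w hw
    exact mem_cz.1 (hcent w (hWy hw) (H24.exists_orderOf_eq_pow_of_mem hW hw) ht.2)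
  refine noRank2 hr.out hp.out hrp W (center G) ?_ hW (fun h => H.nc_m ham (h (haW (mem_zpowers a)))) a0 b
    (hRW a0 ha0) (hRW b hb) (hTW _ (hpowT a0 ha0)) (hTW _ (hpowT b hb)) ?_ ?_ (hfix b hb hbT)
  · intro c hc d hd
    exact mem_cz.1 (hcent d (hWy hd) (H24.exists_orderOf_eq_pow_of_mem hW hd) (hWy hc))
  · intro w hw
    have h1 : (b * a0)⁻¹ * (a0 * b) ∈ cz y := comm_mem_cz (hyc a0 ha0) (hyc b hb)
    have h2 := mem_cz.1 (hcent w (hWy hw) (H24.exists_orderOf_eq_pow_of_mem hW hw) h1)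
    calc a0 * b * w * (a0 * b)⁻¹ = (b * a0) * ((b * a0)⁻¹ * (a0 * b) * w) * (a0 * b)⁻¹ := by group
      _ = (b * a0) * (w * ((b * a0)⁻¹ * (a0 * b))) * (a0 * b)⁻¹ := by rw [h2]
      _ = _ := by group
  · intro i w hw h
    exact hfix _ (mul_mem ha0 (pow_mem hb i)) (ha0T i) w hw h

theorem star_norm {r : ℕ} [hr : Fact r.Prime] (hrm : r ∣ m) {u : G} (hu : ∃ k, orderOf u = r ^ k)
    (huZ : u ∉ center G) {s : ℕ} [hs : Fact s.Prime] (hsm : s ∣ m) : ¬ s ∣ (normalizer ((cz u : Subgroup G) : Set G)).index := by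
  have hum := hst r hr.out hrm u hu huZ
  have hsf := H.star_fac hst hpm hxp hx hsm
  have hvD := H.v_r hs.out hsm huZ
  -- the full `s`-subgroup
  obtain ⟨W, hAW, hWu, hW, hWv, hWr⟩ : ∃ W : Subgroup G, (s = r → u ∈ W) ∧ W ≤ cz u ∧ IsPGroup s W ∧
      v s W = v s (cz u) ∧ True := by
    by_cases hsr : s = r
    · subst hsr
      obtain ⟨W, h1, h2, h3, h4⟩ := exists_rsub s (cz u) (zpowers u) (by rw [zpowers_le]; exact self_mem_cz u)
        (H24.isPGroup_zpowers_of_orderOf hu)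
      exact ⟨W, fun _ => h1 (mem_zpowers u), h2, h3, h4, trivial⟩
    · obtain ⟨W, -, h2, h3, h4⟩ := exists_rsub s (cz u) ⊥ bot_le (IsPGroup.of_bot)
      exact ⟨W, fun h => absurd h hsr, h2, h3, h4, trivial⟩
  obtain ⟨R, hR⟩ := hW.exists_le_sylow
  have hRv : v s (R : Subgroup G) = v s (⊤ : Subgroup G) := by
    rw [← not_dvd_index_iff hs.out]; exact R.not_dvd_index
  have hWn := conj_mem_of_index R.isPGroup' hR (by omega)
  -- `q`-elements, `q ≠ r`, are central
  have hcent : ∀ (q : ℕ), q.Prime → q ≠ r → ∀ c ∈ cz u, (∃ k, orderOf c = q ^ k) → cz u ≤ cz c :=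
    fun q hq hqr c hc hcq => H.cent_of_mn hum hc (coprime_of_relem2 hr.out hq hqr.symm hu hcq)
  have ht : ∃ t ∈ W, t ∉ center G ∧ ∀ g ∈ (R : Subgroup G), cz u ≤ cz (g * t * g⁻¹) := by
    by_cases hsr : s = r
    · subst hsr
      refine ⟨u, hAW rfl, huZ, ?_⟩
      intro g hg
      have hW2 : ∀ w ∈ W, w ∈ cz (g * u * g⁻¹) := by
        intro w hw
        have h1 := hWn g⁻¹ (inv_mem hg) w hw
        rw [inv_inv] at h1
        have h2 := conj_mem_cz (g := g) (x := u) (y := g⁻¹ * w * g) |>.2 (hWu h1)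
        have e : g * (g⁻¹ * w * g) * g⁻¹ = w := by group
        rwa [e] at h2
      have h3 : cz u ⊓ cz (g * u * g⁻¹) = cz u := by
        apply eq_of_v inf_le_left
        intro q hq
        haveI : Fact q.Prime := ⟨hq⟩
        by_cases hqs : q = s
        · subst hqs
          rw [← hWv]
          exact v_mono q (le_inf hWu hW2)
        · obtain ⟨S, -, hSu, hS, hSv⟩ := exists_rsub q (cz u) ⊥ bot_le (IsPGroup.of_bot)
          rw [← hSv]
          apply v_mono q
          refine le_inf hSu ?_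
          intro c hc
          have h4 := hcent q hq hqs c (hSu hc) (H24.exists_orderOf_eq_pow_of_mem hS hc)
          exact mem_cz_symm.1 (h4 (hWu (hWn g hg u (hAW rfl))))
      rw [← h3]
      exact inf_le_right
    · obtain ⟨t, htW, htZ⟩ := exists_relem_of hW (A := center G) (by
        have := H.vZ_lt hsm huZ
        omega)
      refine ⟨t, htW, htZ, fun g hg => ?_⟩
      have h1 := hWn g hg t htW
      exact hcent s hs.out hsr _ (hWu h1) (H24.exists_orderOf_eq_pow_of_mem hW h1)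
  obtain ⟨t, htW, htZ, htc⟩ := ht
  have htm := hst s hs.out hsm t (H24.exists_orderOf_eq_pow_of_mem hW htW) htZ
  have heq : ∀ g ∈ (R : Subgroup G), cz u = cz (g * t * g⁻¹) := by
    intro g hg
    apply H.eq_of_mn _ (htc g hg)
    rw [idx_conj, htm]
  have h1 : cz u = cz t := by
    have := heq 1 (one_mem _)
    rwa [one_mul, inv_one, mul_one] at this
  rw [not_dvd_index_iff hs.out]
  apply le_antisymm (v_mono s le_top)
  rw [← hRv]
  apply v_mono s
  intro g hg
  apply mem_norm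
  intro c hc
  rw [heq g hg]
  apply conj_mem_cz.2
  rwa [← h1]

theorem star_closed {r : ℕ} [hr : Fact r.Prime] (hrm : r ∣ m) {u : G} (hu : ∃ k, orderOf u = r ^ k)
    (huZ : u ∉ center G) : ∃ a ∈ cz u, (∃ k, orderOf a = p ^ k) ∧ (cz a).index = m ∧
      ∀ g, g * a * g⁻¹ ∈ cz u := by
  obtain ⟨a, hau, hap, ham⟩ := H.star_exists hst hpm hxp hx hrm hu huZ
  refine ⟨a, hau, hap, ham, ?_⟩
  have hcop : (normalizer ((cz u : Subgroup G) : Set G)).index.Coprime (cz a).index := by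
    rw [ham]
    apply Nat.coprime_of_dvd
    intro k hk h1 h2
    haveI : Fact k.Prime := ⟨hk⟩
    exact H.star_norm hst hpm hxp hx hrm hu huZ h2 h1
  intro g
  obtain ⟨c, hc, d, hd, rfl⟩ := H1.factor_of_coprime_index hcop g
  have e : c * d * a * (c * d)⁻¹ = c * (d * a) * d⁻¹ * c⁻¹ := by group
  rw [e, mem_cz.1 hd]
  have e2 : c * (a * d) * d⁻¹ * c⁻¹ = c * a * c⁻¹ := by group
  rw [e2]
  exact (mem_normalizer_iff.1 hc a).1 hau

theorem star_false : False := by
  obtain ⟨r, hr, hrm⟩ := Nat.exists_prime_and_dvd (n := m) (by have := H.hm; omega)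
  haveI : Fact r.Prime := ⟨hr⟩
  have hrp : r ≠ p := by rintro rfl; exact hpm hrm
  have hrf := H.star_fac hst hpm hxp hx hrm
  -- package
  have pack : ∀ u : G, (∃ k, orderOf u = r ^ k) → u ∉ center G → ∃ a : G, (∃ k, orderOf a = p ^ k) ∧
      (cz a).index = m ∧ cz u ≤ (cz a).normalCore ∧ v r (cz a).normalCore + 1 = v r (⊤ : Subgroup G) ∧
      (∀ (c : G), c ∈ (cz a).normalCore → ∀ g, c ∈ cz (g * a * g⁻¹)) := by
    intro u hu huZ
    obtain ⟨a, hau, hap, ham, hac⟩ := H.star_closed hst hpm hxp hx hrm hu huZ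
    have hum := hst r hr hrm u hu huZ
    have h1 : cz u ≤ (cz a).normalCore := by
      intro c hc b
      have h2 : c ∈ cz (b⁻¹ * a * b) := by
        have h3 := hac b⁻¹
        rw [inv_inv] at h3
        have h4 := conj_relem (g := b⁻¹) hap
        rw [inv_inv] at h4
        exact H.cent_of_mn hum h3 (coprime_of_relem2 hr hp.out hrp hu h4) hc
      have h3 := conj_mem_cz (g := b) |>.2 h2
      have e : b * (b⁻¹ * a * b) * b⁻¹ = a := by group
      rwa [e] at h3
    refine ⟨a, hap, ham, h1, ?_, ?_⟩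
    · have h2 := H.v_r hr hrm huZ
      have h3 := H.v_r hr hrm (H.nc_m ham)
      have h4 := v_mono r h1
      have h5 := v_mono r ((cz a).normalCore_le)
      omega
    · intro c hc g
      have h2 : g⁻¹ * c * g⁻¹⁻¹ ∈ cz a := hc g⁻¹
      have h3 := conj_mem_cz (g := g) |>.2 h2
      have e : g * (g⁻¹ * c * g⁻¹⁻¹) * g⁻¹ = c := by group
      rwa [e] at h3
  obtain ⟨h, hh, hhZ⟩ := H.exists_nc (r := r) (hrm.mul_right n)
  obtain ⟨x1, hx1p, hx1m, hY1, hY2, hY3⟩ := pack h hh hhZ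
  set Y := (cz x1).normalCore with hY
  obtain ⟨u, -, hu, huY⟩ := exists_relem (r := r) (A := Y) (H := ⊤) (by omega)
  have hZY : center G ≤ Y := (center_le_cz h).trans hY1
  have huZ : u ∉ center G := fun h => huY (hZY h)
  obtain ⟨x2, hx2p, hx2m, hX1, hX2, hX3⟩ := pack u hu huZ
  set Y2 := (cz x2).normalCore with hY2def
  have huY2 : u ∈ Y2 := hX1 (self_mem_cz u)
  have hYle : Y ≤ cz x1 := (cz x1).normalCore_le
  have hY2le : Y2 ≤ cz x2 := (cz x2).normalCore_le
  have hYn : ∀ K : Subgroup G, ∀ k ∈ K, ∀ c ∈ Y, k * c * k⁻¹ ∈ Y := fun K k _ c hc =>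
    (normalCore_normal (cz x1)).conj_mem c hc k
  have hY2n : ∀ K : Subgroup G, ∀ k ∈ K, ∀ c ∈ Y2, k * c * k⁻¹ ∈ Y2 := fun K k _ c hc =>
    (normalCore_normal (cz x2)).conj_mem c hc k
  have claimB : ∀ c : G, Y ≤ cz c → Y2 ≤ cz c → c ∈ center G := by
    intro c h1 h2
    by_contra hcZ
    have h3 := v_lt_of_mem (le_sup_left : Y ≤ Y ⊔ Y2) (mem_sup_right huY2) hu huY (hYn _)
    have h4 := v_mono r (sup_le h1 h2)
    have h5 := H.v_r hr hrm hcZ
    omega
  have claimC : x1 * x2 ∉ center G := by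
    intro hz
    have h1 : cz x2 = cz x1 := by
      have e : x2 = x1⁻¹ * (x1 * x2) := by group
      have e2 : x2 = (x1 * x2) * x1⁻¹ := by rw [← mem_center_iff.1 hz]; group
      rw [e2, cz_center_mul hz]
      ext c
      rw [mem_cz, mem_cz]
      exact Commute.inv_right_iff (a := c) (b := x1)
    have h2 : u ∈ cz x1 := by rw [← h1]; exact hY2le huY2
    have h3 := v_lt_of_mem hYle h2 hu huY (hYn _)
    have h4 := H.v_r hr hrm (H.nc_m hx1m)
    omega
  obtain ⟨W, -, hWc, hW, hWv⟩ := exists_rsub r (cz (x1 * x2)) ⊥ bot_le (IsPGroup.of_bot)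
  have hmain : ∀ g ∈ W, g ∈ cz x1 ∧ g ∈ cz x2 := by
    intro g hg
    have hgr : ∃ k, orderOf g = r ^ k := H24.exists_orderOf_eq_pow_of_mem hW hg
    have h1 := mem_cz.1 (hWc hg)
    have h2 : (g * x1 * g⁻¹) * (g * x2 * g⁻¹) = x1 * x2 := by
      calc _ = g * (x1 * x2) * g⁻¹ := by group
        _ = x1 * x2 := by rw [h1]; group
    have h3 : x1⁻¹ * (g * x1 * g⁻¹) = x2 * (g * x2 * g⁻¹)⁻¹ := by
      calc x1⁻¹ * (g * x1 * g⁻¹) = x1⁻¹ * ((g * x1 * g⁻¹) * (g * x2 * g⁻¹)) * (g * x2 * g⁻¹)⁻¹ := by group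
        _ = x1⁻¹ * (x1 * x2) * (g * x2 * g⁻¹)⁻¹ := by rw [h2]
        _ = _ := by group
    have hz : x1⁻¹ * (g * x1 * g⁻¹) ∈ center G := by
      apply claimB
      · intro c hc
        have a1 : Commute c x1 := mem_cz.1 (hYle hc)
        have a2 : Commute c (g * x1 * g⁻¹) := mem_cz.1 (hY3 c hc g)
        exact mem_cz.2 (a1.inv_right.mul_right a2)
      · rw [h3]
        intro c hc
        have a1 : Commute c x2 := mem_cz.1 (hY2le hc)
        have a2 : Commute c (g * x2 * g⁻¹) := mem_cz.1 (hX3 c hc g)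
        exact mem_cz.2 (a1.mul_right a2.inv_right)
    have h4 : g * x1 * g⁻¹ = x1 * (x1⁻¹ * (g * x1 * g⁻¹)) := by group
    have hcop := coprime_of_relem2 hr hp.out hrp hgr hx1p
    have h5 := central_trick hz h4 hcop
    refine ⟨center_trick_mem hz h4 hcop, ?_⟩
    rw [h5] at h3
    have h6 : g * x2 * g⁻¹ = x2 := (mul_inv_eq_one.1 h3.symm).symm
    rw [mem_cz]
    calc g * x2 = (g * x2 * g⁻¹) * g := by group
      _ = x2 * g := by rw [h6]
  have hv1 := H.v_r hr hrm (H.nc_m hx1m)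
  have hv2 := H.v_r hr hrm (H.nc_m hx2m)
  have hv3 := H.v_r hr hrm claimC
  have hWY : W ≤ Y ⊓ Y2 := by
    intro g hg
    have hgr : ∃ k, orderOf g = r ^ k := H24.exists_orderOf_eq_pow_of_mem hW hg
    exact Subgroup.mem_inf.2 ⟨mem_of_normal hYle (by omega) (hYn _) (hmain g hg).1 hgr,
      mem_of_normal hY2le (by omega) (hY2n _) (hmain g hg).2 hgr⟩
  have h7 := v_mono r hWY
  have h8 := mem_of_normal (inf_le_right : Y ⊓ Y2 ≤ Y2) (by omega) (fun k hk c hc =>
    Subgroup.mem_inf.2 ⟨hYn Y2 k hk c hc.1, hY2n Y2 k hk c hc.2⟩) huY2 hu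
  exact huY h8.1

end Hyp

end Cfsg.Agent.H25.CS3
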