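import Cfsg.Agent.H25.CSE

set_option autoImplicit false
set_option linter.unusedSectionVars false
set_option linter.unusedVariables false

namespace Cfsg.Agent.H25.CS3

open Subgroup

variable {G : Type*} [Group G] [Finite G]

theorem v_rel (r : ℕ) {A B : Subgroup G} (h : A ≤ B) : v r A + (A.relIndex B).factorization r = v r B := by
  have h1 : Nat.card A * A.relIndex B = Nat.card B := by
    have := relIndex_mul_relIndex ⊥ A B bot_le h
    rwa [relIndex_bot_left, relIndex_bot_left] at this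
  have h2 : A.relIndex B ≠ 0 := by
    intro h0
    rw [h0, mul_zero] at h1
    exact card_ne B h1.symm
  rw [v, v, ← h1, Nat.factorization_mul (card_ne A) h2]
  rfl

theorem mem_of_pow_coprime {T : Subgroup G} {b : G} {d r : ℕ} (h : d.Coprime r) (h1 : b ^ d ∈ T) (h2 : b ^ r ∈ T) :
    b ∈ T := by
  have h3 := Nat.gcd_eq_gcd_ab d r
  rw [h, Nat.cast_one] at h3
  have h4 : b = (b ^ d) ^ (Nat.gcdA d r) * (b ^ r) ^ (Nat.gcdB d r) := by
    rw [← zpow_natCast, ← zpow_natCast, ← zpow_mul, ← zpow_mul, ← zpow_add, ← h3, zpow_one]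
  rw [h4]
  exact mul_mem (zpow_mem h1 _) (zpow_mem h2 _)

theorem inside {r : ℕ} [hr : Fact r.Prime] {T R : Subgroup G} {b : G} (hT : T ≤ R) (hb : b ∈ R) (hbT : b ∉ T)
    (hbr : b ^ r ∈ T) (hcard : Nat.card R ≤ Nat.card T * r) {a : G} (ha : a ∈ R) :
    ∃ t ∈ T, ∃ i < r, a = t * b ^ i := by
  set f : T × Fin r → R := fun x => ⟨x.1 * b ^ (x.2 : ℕ), R.mul_mem (hT x.1.2) (R.pow_mem hb _)⟩ with hf
  have hinj : Function.Injective f := by
    have key : ∀ (t t' : T) (i j : ℕ), i < r → j < r → i ≤ j → (t : G) * b ^ i = t' * b ^ j → i = j := by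
      intro t t' i j hi hj hij h
      by_contra hne
      obtain ⟨d, rfl⟩ := Nat.exists_eq_add_of_le hij
      have hd : b ^ d ∈ T := by
        have e : b ^ d = (t' : G)⁻¹ * t := by
          have h2 : (t' : G) * b ^ d * b ^ i = t * b ^ i := by rw [h, mul_assoc, ← pow_add, add_comm d i]
          have h3 := mul_right_cancel h2
          rw [← h3]; group
        rw [e]
        exact mul_mem (inv_mem t'.2) t.2
      have hcop : d.Coprime r := by
        apply Nat.Coprime.symm
        rw [Nat.Prime.coprime_iff_not_dvd hr.out]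
        intro hd2
        have := Nat.le_of_dvd (by omega) hd2
        omega
      exact hbT (mem_of_pow_coprime hcop hd hbr)
    rintro ⟨t, i⟩ ⟨t', j⟩ h
    have h1 : (t : G) * b ^ (i : ℕ) = t' * b ^ (j : ℕ) := congrArg Subtype.val h
    have h2 : (i : ℕ) = j := by
      rcases le_total (i : ℕ) j with hij | hij
      · exact key t t' i j i.2 j.2 hij h1
      · exact (key t' t j i j.2 i.2 hij h1.symm).symm
    rw [h2] at h1
    exact Prod.ext (Subtype.ext (mul_right_cancel h1)) (Fin.ext h2)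
  have hsurj : Function.Surjective f := by
    have h1 : Nat.card (T × Fin r) = Nat.card R := by
      apply le_antisymm (Nat.card_le_card_of_injective f hinj)
      rw [Nat.card_prod, Nat.card_fin]
      exact hcard
    exact ((Nat.bijective_iff_injective_and_card f).2 ⟨hinj, h1⟩).2
  obtain ⟨⟨t, i⟩, h⟩ := hsurj ⟨a, ha⟩
  exact ⟨t, t.2, i, i.2, (congrArg Subtype.val h).symm⟩

/-- proper subgroups of `r`-groups grow in normalizers -/
theorem exists_norm_out {r : ℕ} [hr : Fact r.Prime] {T R : Subgroup G} (hR : IsPGroup r R) (hTR : T < R) :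
    ∃ g ∈ R, g ∉ T ∧ ∀ t ∈ T, g * t * g⁻¹ ∈ T := by
  haveI : Group.IsNilpotent R := hR.isNilpotent
  have h1 : T.subgroupOf R < ⊤ := by
    rw [lt_top_iff_ne_top]
    intro h
    rw [subgroupOf_eq_top] at h
    exact absurd (le_antisymm hTR.le h) hTR.ne
  have h2 := Group.normalizerCondition_of_isNilpotent (G := R) _ h1
  obtain ⟨g, hg1, hg2⟩ := SetLike.exists_of_lt h2
  refine ⟨g, g.2, hg2, ?_⟩
  intro t ht
  exact (mem_normalizer_iff.1 hg1 ⟨t, hTR.le ht⟩).1 ht

theorem dvd_card_of_orbit {A X : Type*} [Group A] [MulAction A X] [Finite X] (ν : ℕ)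
    (h : ∀ x : X, ν ∣ Nat.card (MulAction.orbit A x)) : ν ∣ Nat.card X := by
  haveI := Fintype.ofFinite (MulAction.orbitRel.Quotient A X)
  rw [Nat.card_congr (MulAction.selfEquivSigmaOrbits A X), Nat.card_sigma]
  exact Finset.dvd_sum fun ω _ => h _

theorem dvd_card_sub_one {A X : Type*} [Group A] [MulAction A X] [Finite X] (ν : ℕ) (x0 : X)
    (hx0 : ∀ a : A, a • x0 = x0) (h : ∀ x : X, x ≠ x0 → ν ∣ Nat.card (MulAction.orbit A x)) :
    ν ∣ Nat.card X - 1 := by
  classical
  haveI := Fintype.ofFinite (MulAction.orbitRel.Quotient A X)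
  rw [Nat.card_congr (MulAction.selfEquivSigmaOrbits A X), Nat.card_sigma]
  set ω0 : MulAction.orbitRel.Quotient A X := Quotient.mk'' x0 with hω
  have hout : ω0.out = x0 := by
    have h1 : (MulAction.orbitRel A X).r ω0.out x0 := Quotient.exact' (Quotient.out_eq' ω0)
    rw [MulAction.orbitRel_apply] at h1
    obtain ⟨a, ha⟩ := h1
    rw [← ha]
    exact hx0 a
  rw [← Finset.add_sum_erase _ _ (Finset.mem_univ ω0)]
  have h1 : Nat.card (MulAction.orbit A ω0.out) = 1 := by
    rw [hout]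
    have : MulAction.orbit A x0 = {x0} := by
      ext y
      constructor
      · rintro ⟨a, rfl⟩; exact hx0 a
      · rintro rfl; exact MulAction.mem_orbit_self _
    rw [this, Nat.card_coe_set_eq, Set.ncard_singleton]
  rw [h1, Nat.add_sub_cancel_left]
  apply Finset.dvd_sum
  intro ω hω2
  apply h
  intro hcon
  apply Finset.ne_of_mem_erase hω2
  rw [← Quotient.out_eq' ω]
  rw [hcon]

/-- the abelian subgroup -/
structure MHyp (m : ℕ) (M : Subgroup G) : Prop where
  idx : M.index = m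
  comm : ∀ a ∈ M, ∀ b ∈ M, a * b = b * a
  cz_eq : ∀ t ∈ M, t ∉ center G → cz t = M
  Zle : center G ≤ M

namespace Hyp

variable {m n : ℕ} (H : Hyp G m n)

include H

theorem vZ_lt_n {s : ℕ} [hs : Fact s.Prime] (hsn : s ∣ n) : v s (center G) < v s (⊤ : Subgroup G) := by
  obtain ⟨y, hy⟩ := H.exmn
  have h1 := H.v_mn hy s
  have h2 := v_mono s (center_le_cz y)
  have h3 := H.nfac_pos hs.out hsn
  omega

theorem exists_M : ∃ M : Subgroup G, MHyp m M := by
  have hnst : ¬ Star m n G := by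
    intro hst
    obtain ⟨x, hx⟩ := H.exm
    obtain ⟨p, hp, k, hk, hkm, -⟩ := H.exists_primary_m hx
    haveI : Fact p.Prime := ⟨hp⟩
    have hpm : ¬ p ∣ m := by
      intro hpm
      have := hst p hp hpm _ hk (H.nc_m hkm)
      have := H.m_lt
      omega
    exact H.star_false hst hpm hk hkm
  unfold Star at hnst
  push Not at hnst
  obtain ⟨r, hr, hrm, y, hyr, hyZ, hyne⟩ := hnst
  haveI : Fact r.Prime := ⟨hr⟩
  have hym : (cz y).index = m := (H.or2 hyZ).resolve_right hyne
  obtain ⟨s, hs, hsn⟩ := Nat.exists_prime_and_dvd (n := n) (by have := H.hn; omega)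
  haveI : Fact s.Prime := ⟨hs⟩
  have hrs : r ≠ s := by rintro rfl; exact H.not_dvd_n hr hrm hsn
  have hvs : v s (cz y) = v s (⊤ : Subgroup G) := by
    have := H.v_m hym s
    rw [H.mfac_zero hs hsn] at this
    omega
  have hF1 : ∀ w ∈ cz y, (orderOf w).Coprime r → cz y ≤ cz w := fun w hw hwr => H.F1 hrm hyr hym hw hwr
  obtain ⟨k, hky, hks, hkZ⟩ := exists_relem (r := s) (A := center G) (H := cz y) (by
    rw [hvs]; exact H.vZ_lt_n hsn)
  have hkeq : cz y = cz k := H.eq_of_m hym (hF1 k hky (coprime_of_relem3 hr hs hrs hks)) hkZ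
  have hkm : (cz k).index = m := by rw [← hkeq]; exact hym
  have hrel : ∀ c ∈ cz y, (∃ l, orderOf c = r ^ l) → cz y ≤ cz c := by
    intro c hc hcr
    rw [hkeq] at hc ⊢
    have hcop := coprime_of_relem2 hs hr hrs.symm hks hcr
    rcases H.mul_or hkm hc hcop with h | h
    · exact h
    · exfalso
      obtain ⟨W, -, hWy, hW, hWv⟩ := exists_rsub s (cz y) ⊥ bot_le (IsPGroup.of_bot)
      have h1 : W ≤ cz (k * c) := by
        rw [cz_mul hc hcop]
        intro w hw
        refine Subgroup.mem_inf.2 ⟨by rw [← hkeq]; exact hWy hw, ?_⟩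
        have h2 := hF1 w (hWy hw) (coprime_of_relem3 hr hs hrs (H24.exists_orderOf_eq_pow_of_mem hW hw))
        rw [hkeq] at h2
        exact mem_cz_symm.1 (h2 hc)
      have h3 := v_mono s h1
      have h4 := H.v_mn h s
      have h5 := H.nfac_pos hs hsn
      omega
  have hall : ∀ c ∈ cz y, cz y ≤ cz c := by
    intro c hc
    obtain ⟨i, j, hcij, hi, hj⟩ := H24.exists_pPart_decomp r c
    have h1 := hrel _ ((cz y).pow_mem hc i) hi
    have h2 := hF1 _ ((cz y).pow_mem hc j) hj
    intro d hd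
    have h3 : Commute d (c ^ i) := mem_cz.1 (h1 hd)
    have h4 : Commute d (c ^ j) := mem_cz.1 (h2 hd)
    rw [hcij]
    exact mem_cz.2 (h3.mul_right h4)
  exact ⟨cz y, hym, fun a ha b hb => mem_cz.1 (hall b hb ha), fun t ht htZ => (H.eq_of_m hym (hall t ht) htZ).symm,
    center_le_cz y⟩

variable {M : Subgroup G} (hM : MHyp m M)

include hM

theorem vM (r : ℕ) : v r M + m.factorization r = v r (⊤ : Subgroup G) := by
  rw [← v_index r M, hM.idx]

theorem vM_eq {r : ℕ} [hr : Fact r.Prime] (hrm : r ∣ m) {g : G} (hg : g ∉ center G) : v r M = v r (cz g) := by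
  have h1 := H.vM hM r
  have h2 := H.v_r hr.out hrm hg
  omega

theorem vM_n {s : ℕ} [hs : Fact s.Prime] (hsn : s ∣ n) : v s M = v s (⊤ : Subgroup G) := by
  have h1 := H.vM hM s
  rw [H.mfac_zero hs.out hsn] at h1
  omega

omit H in
theorem comm_out {u t : G} (hu : u ∉ M) (ht : t ∈ M) (h : u * t = t * u) : t ∈ center G := by
  by_contra htZ
  apply hu
  rw [← hM.cz_eq t ht htZ]
  exact mem_cz.2 h

omit H in
theorem norm_of {g t : G} (ht : t ∈ M) (htZ : t ∉ center G) (h : g * t * g⁻¹ ∈ M) : g ∈ normalizer (M : Set G) := by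
  apply mem_norm
  intro c hc
  rw [← hM.cz_eq _ h (by rwa [conj_center])]
  apply conj_mem_cz.2
  rwa [hM.cz_eq t ht htZ]

theorem conj_into_M {x : G} (hx : (cz x).index = m) : ∃ g, g * x * g⁻¹ ∈ M := by
  obtain ⟨s, hs, hsn⟩ := Nat.exists_prime_and_dvd (n := n) (by have := H.hn; omega)
  haveI : Fact s.Prime := ⟨hs⟩
  have hvs : v s (cz x) = v s (⊤ : Subgroup G) := by
    have := H.v_m hx s
    rw [H.mfac_zero hs hsn] at this
    omega
  obtain ⟨t, htx, hts, htZ⟩ := exists_relem (r := s) (A := center G) (H := cz x) (by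
    rw [hvs]; exact H.vZ_lt_n hsn)
  obtain ⟨g, hg⟩ := conj_into_top (H.vM_n hM hsn) (H24.isPGroup_zpowers_of_orderOf hts)
  refine ⟨g, ?_⟩
  rw [← hM.cz_eq _ (hg t (mem_zpowers t)) (by rwa [conj_center])]
  exact conj_mem_cz.2 (mem_cz_symm.1 htx)

/-- the subgroup `S` -/
theorem exists_S {s : ℕ} [hs : Fact s.Prime] (hsn : s ∣ n) : ∃ S : Subgroup G, S ≤ M ∧ IsPGroup s S ∧
    v s S = v s (⊤ : Subgroup G) ∧ ¬ S ≤ center G ∧ (∀ c ∈ M, (∃ k, orderOf c = s ^ k) → c ∈ S) := by
  obtain ⟨S, -, hSM, hS, hSv⟩ := exists_rsub s M ⊥ bot_le (IsPGroup.of_bot)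
  have h1 := H.vM_n hM hsn
  refine ⟨S, hSM, hS, by omega, ?_, ?_⟩
  · intro h
    have := v_mono s h
    have := H.vZ_lt_n hsn
    omega
  · intro c hc hcs
    apply mem_of_normal hSM hSv.ge _ hc hcs
    intro k hk x hx
    rw [hM.comm k hk x (hSM hx), mul_inv_cancel_right]
    exact hx

end Hyp

end Cfsg.Agent.H25.CS3
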