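import Cfsg.Agent.H25.ClassProd
import Cfsg.Agent.H24.ClassSize
import Cfsg.Agent.H1.SysNorm
import Cfsg.Agent.H23.Coprime2

set_option autoImplicit false
open Cfsg

/-!
# The prime graph of the class sizes
-/

namespace Cfsg.Agent.H25

open Subgroup
open scoped commutatorElement Pointwise

variable {G : Type*} [Group G] [Finite G]

/-- class size -/
noncomputable def csz (x : G) : ℕ := (centralizer ({x} : Set G)).index

theorem csz_pos (x : G) : 0 < csz x := Nat.pos_of_ne_zero index_ne_zero_of_finite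

omit [Finite G] in
theorem csz_conj (x g : G) : csz (g * x * g⁻¹) = csz x := index_centralizer_conj' x g

theorem relIndex_pos (H K : Subgroup G) : 0 < H.relIndex K := by
  rw [relIndex]; exact Nat.pos_of_ne_zero index_ne_zero_of_finite

/-- The structure forced by a pair of primes at distance at least four: the set of primes splits. -/
theorem classGraph_split {p q : ℕ} [Fact p.Prime] [Fact q.Prime]
    (hH : ∀ g h k : G, p ∣ csz g → q ∣ csz k → ¬ (¬ (csz g).Coprime (csz h) ∧ ¬ (csz h).Coprime (csz k)))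
    (hA : ∃ x : G, p ∣ csz x) (hB : ∃ y : G, q ∣ csz y)
    (hmax : ∃ y : G, q ∣ csz y ∧ ∀ x : G, p ∣ csz x → csz x < csz y) :
    ∃ N : ℕ, p ∣ N ∧ ¬ q ∣ N ∧ ∀ g : G, csz g ∣ N ∨ (csz g).Coprime N := by
  have hp : p.Prime := Fact.out
  have hq : q.Prime := Fact.out
  have hcop : ∀ x y : G, p ∣ csz x → q ∣ csz y → (csz x).Coprime (csz y) := by
    intro x y hx hy
    by_contra h
    refine hH x x y hx hy ⟨?_, h⟩
    intro h1
    rw [Nat.coprime_self] at h1
    rw [h1] at hx
    exact hp.one_lt.ne' (Nat.dvd_one.1 hx)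
  obtain ⟨y₀, hy₀, hlt⟩ := hmax
  -- products
  have hprod : ∀ x : G, p ∣ csz x → csz (x * y₀) = csz y₀ := by
    intro x hx
    have h1 : (centralizer ({x} : Set G)).index.Coprime (centralizer ({y₀} : Set G)).index := hcop x y₀ hx hy₀
    have h2 : csz y₀ ≤ csz (x * y₀) := index_le_index_mul h1
    have h3 : csz (x * y₀) ∣ csz x * csz y₀ := index_mul_dvd h1
    have h4 := hH x (x * y₀) y₀ hx hy₀
    by_cases h5 : (csz x).Coprime (csz (x * y₀))
    · exact le_antisymm (Nat.le_of_dvd (csz_pos _) (h5.symm.dvd_of_dvd_mul_left h3)) h2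
    · have h6 : (csz (x * y₀)).Coprime (csz y₀) := by
        by_contra h6; exact h4 ⟨h5, h6⟩
      have h7 := Nat.le_of_dvd (csz_pos x) (h6.dvd_of_dvd_mul_right h3)
      exact absurd (hlt x hx) (not_lt.2 (h2.trans h7))
  set M₀ := classStab y₀ with hM₀
  have hM₀card : Nat.card M₀ ∣ csz y₀ := card_classStab_dvd y₀
  have hdisp : ∀ x : G, p ∣ csz x → ∀ g : G, x⁻¹ * (g * x * g⁻¹) ∈ M₀ := by
    intro x hx g
    exact inv_mul_mem_classStab (hcop x y₀ hx hy₀) (hprod x hx) (IsConj.refl x) (isConj_iff.2 ⟨g, rfl⟩)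
  set A : Set G := {x | p ∣ csz x} with hAdef
  set L := closure A with hL
  haveI hLn : L.Normal := by
    constructor
    intro n hn g
    have h1 : n ∈ L.comap (MulAut.conj g).toMonoidHom := by
      have h2 : L ≤ L.comap (MulAut.conj g).toMonoidHom := by
        rw [hL, closure_le]
        intro x hx
        apply Subgroup.subset_closure
        show p ∣ csz (g * x * g⁻¹)
        rw [csz_conj]; exact hx
      exact h2 hn
    exact h1
  have hM₀x : ∀ x ∈ A, M₀ ≤ centralizer ({x} : Set G) := by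
    intro x hx
    rw [← relIndex_eq_one]
    have h1 : (centralizer ({x} : Set G)).relIndex M₀ ∣ csz x := H1.relIndex_dvd_index_of_normal_right _ _
    have h2 : (centralizer ({x} : Set G)).relIndex M₀ ∣ csz y₀ := (relIndex_dvd_card _ _).trans hM₀card
    exact Nat.eq_one_of_dvd_coprimes (hcop x y₀ hx hy₀) h1 h2
  have hM₀L : ∀ m ∈ M₀, ∀ l ∈ L, m * l = l * m := by
    intro m hm l hl
    have h1 : L ≤ centralizer ({m} : Set G) := by
      rw [hL, closure_le]
      intro x hx
      exact mem_centralizer_singleton_iff.2 (mem_centralizer_singleton_iff.1 (hM₀x x hx hm)).symm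
    exact (mem_centralizer_singleton_iff.1 (h1 hl)).symm
  set M := ⁅L, (⊤ : Subgroup G)⁆ with hM
  haveI hMn : M.Normal := inferInstance
  have hML : M ≤ L := commutator_le_left _ _
  have hMM₀ : M ≤ M₀ := by
    -- `L` is central modulo `M₀`
    have h1 : L ≤ (center (G ⧸ M₀)).comap (QuotientGroup.mk' M₀) := by
      rw [hL, closure_le]
      intro x hx
      show QuotientGroup.mk' M₀ x ∈ center _
      rw [mem_center_iff]
      intro g
      obtain ⟨g, rfl⟩ := QuotientGroup.mk'_surjective M₀ g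
      rw [← map_mul, ← map_mul]
      show ((g * x : G) : G ⧸ M₀) = ((x * g : G) : G ⧸ M₀)
      rw [eq_comm, QuotientGroup.eq]
      have h2 := hdisp x hx g
      have h3 := (inferInstance : M₀.Normal).conj_mem _ h2 g⁻¹
      have e : g⁻¹ * (x⁻¹ * (g * x * g⁻¹)) * g⁻¹⁻¹ = (x * g)⁻¹ * (g * x) := by group
      rwa [e] at h3
    rw [hM, commutator_le]
    intro l hl g _
    have h2 : QuotientGroup.mk' M₀ l ∈ center _ := h1 hl
    rw [← QuotientGroup.eq_one_iff]
    show QuotientGroup.mk' M₀ ⁅l, g⁆ = 1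
    rw [map_commutatorElement, commutatorElement_eq_one_iff_mul_comm]
    exact (mem_center_iff.1 h2 _).symm
  set K := centralizer (M : Set G) with hK
  haveI hKn : K.Normal := inferInstance
  have hLK : L ≤ K := by
    intro l hl
    rw [hK, mem_centralizer_iff]
    intro m hm
    exact hM₀L m (hMM₀ hm) l hl
  have hKA : ∀ x ∈ A, K ≤ centralizer ({x} : Set G) := by
    intro x hx
    have hxL : x ∈ L := Subgroup.subset_closure hx
    -- the homomorphism `k ↦ x⁻¹ x^k`
    let φ : K →* M :=
      { toFun := fun k => ⟨x⁻¹ * ((k : G) * x * (k : G)⁻¹), by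
          have h1 : ⁅x⁻¹, (k : G)⁆ ∈ M := commutator_mem_commutator (L.inv_mem hxL) (mem_top _)
          have e : x⁻¹ * ((k : G) * x * (k : G)⁻¹) = ⁅x⁻¹, (k : G)⁆ := by
            rw [commutatorElement_def]; group
          rw [e]; exact h1⟩
        map_one' := by
          apply Subtype.ext
          show x⁻¹ * ((1 : G) * x * (1 : G)⁻¹) = 1
          group
        map_mul' := by
          intro k h
          apply Subtype.ext
          show x⁻¹ * (((k : G) * h) * x * ((k : G) * h)⁻¹) =
            (x⁻¹ * ((k : G) * x * (k : G)⁻¹)) * (x⁻¹ * ((h : G) * x * (h : G)⁻¹))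
          have h1 : ⁅x⁻¹, (h : G)⁆ ∈ M := commutator_mem_commutator (L.inv_mem hxL) (mem_top _)
          have h2 := (mem_centralizer_iff.1 k.2) _ h1
          have e : x⁻¹ * ((h : G) * x * (h : G)⁻¹) = ⁅x⁻¹, (h : G)⁆ := by
            rw [commutatorElement_def]; group
          calc x⁻¹ * (((k : G) * h) * x * ((k : G) * h)⁻¹)
              = x⁻¹ * ((k : G) * x * ⁅x⁻¹, (h : G)⁆ * (k : G)⁻¹) := by rw [commutatorElement_def]; group
            _ = x⁻¹ * ((k : G) * x * (k : G)⁻¹) * ((k : G) * ⁅x⁻¹, (h : G)⁆ * (k : G)⁻¹) := by group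
            _ = x⁻¹ * ((k : G) * x * (k : G)⁻¹) * ⁅x⁻¹, (h : G)⁆ := by rw [← h2]; group
            _ = _ := by rw [e] }
    have hker : φ.ker = (centralizer ({x} : Set G)).subgroupOf K := by
      ext k
      rw [MonoidHom.mem_ker, mem_subgroupOf, mem_centralizer_singleton_iff]
      constructor
      · intro h
        have h1 : x⁻¹ * ((k : G) * x * (k : G)⁻¹) = 1 := congrArg Subtype.val h
        rw [inv_mul_eq_one] at h1
        exact mul_inv_eq_iff_eq_mul.1 h1.symm
      · intro h
        apply Subtype.ext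
        show x⁻¹ * ((k : G) * x * (k : G)⁻¹) = 1
        rw [h]; group
    rw [← relIndex_eq_one]
    have h1 : (centralizer ({x} : Set G)).relIndex K ∣ csz x := H1.relIndex_dvd_index_of_normal_right _ _
    have h2 : (centralizer ({x} : Set G)).relIndex K ∣ csz y₀ := by
      rw [relIndex, ← hker, index_ker]
      exact (card_subgroup_dvd_card φ.range).trans ((card_dvd_of_le hMM₀).trans hM₀card)
    exact Nat.eq_one_of_dvd_coprimes (hcop x y₀ hx hy₀) h1 h2
  have hKL : ∀ k ∈ K, ∀ l ∈ L, k * l = l * k := by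
    intro k hk l hl
    have h1 : L ≤ centralizer ({k} : Set G) := by
      rw [hL, closure_le]
      intro x hx
      exact mem_centralizer_singleton_iff.2 (mem_centralizer_singleton_iff.1 (hKA x hx hk)).symm
    exact (mem_centralizer_singleton_iff.1 (h1 hl)).symm
  have hLab : ∀ a ∈ L, ∀ b ∈ L, a * b = b * a := fun a ha b hb => hKL a (hLK ha) b hb
  -- Sylow subgroup
  obtain ⟨P⟩ : Nonempty (Sylow p G) := inferInstance
  set Y := centralizer ((P : Subgroup G) : Set G) with hY
  have hout : ∀ g : G, g ∉ L → ∃ h : G, h * g * h⁻¹ ∈ Y := by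
    intro g hg
    have h1 : ¬ p ∣ (centralizer ({g} : Set G)).index := fun h => hg (Subgroup.subset_closure h)
    obtain ⟨Q, hQ⟩ := H24.exists_sylow_centralizes_of_not_dvd (p := p) g h1
    obtain ⟨h, hh⟩ := MulAction.exists_smul_eq G Q P
    refine ⟨h, ?_⟩
    rw [hY, mem_centralizer_iff]
    intro u hu
    have hu' : h⁻¹ * u * h ∈ (Q : Subgroup G) := by
      rw [← hh] at hu
      have h3 : u ∈ MulAut.conj h • (Q : Subgroup G) := hu
      rw [mem_pointwise_smul_iff_inv_smul_mem] at h3
      simpa [MulAut.smul_def, MulAut.conj_apply, mul_assoc] using h3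
    have h4 := (mem_centralizer_iff.1 hQ) _ hu'
    calc u * (h * g * h⁻¹) = h * ((h⁻¹ * u * h) * g) * h⁻¹ := by group
      _ = h * g * h⁻¹ * u := by rw [h4]; group
  have hLY : L ⊔ Y = ⊤ := by
    apply eq_top_of_forall_conj_mem
    intro g
    by_cases hg : g ∈ L
    · exact ⟨1, by simpa using (le_sup_left : L ≤ L ⊔ Y) hg⟩
    · obtain ⟨h, hh⟩ := hout g hg
      exact ⟨h, (le_sup_right : Y ≤ L ⊔ Y) hh⟩
  -- coprime action on `M`
  obtain ⟨x₀, hx₀⟩ := hA
  have hpy₀ : ¬ p ∣ csz y₀ := by
    intro h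
    have := Nat.dvd_gcd hx₀ h
    rw [hcop x₀ y₀ hx₀ hy₀] at this
    exact hp.one_lt.ne' (Nat.dvd_one.1 this)
  have hpM : ¬ p ∣ Nat.card M := fun h => hpy₀ (h.trans ((card_dvd_of_le hMM₀).trans hM₀card))
  have hPM : (Nat.card (P : Subgroup G)).Coprime (Nat.card M) := by
    obtain ⟨n, hn⟩ := IsPGroup.iff_card.1 P.isPGroup'
    rw [hn]
    exact Nat.Coprime.pow_left _ ((Nat.Prime.coprime_iff_not_dvd hp).2 hpM)
  have hPn : (P : Subgroup G) ≤ normalizer (M : Set G) := by rw [normalizer_eq_top]; exact le_top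
  have hs : Group.IsSolvable (P : Subgroup G) ∨ Group.IsSolvable M := by
    left
    haveI := P.isPGroup'.isNilpotent
    infer_instance
  have hMab : IsMulCommutative M := ⟨⟨fun a b => Subtype.ext (hLab a (hML a.2) b (hML b.2))⟩⟩
  set V := ⁅M, (P : Subgroup G)⁆ with hV
  have hVM : V ≤ M := commutator_le_left _ _
  have hVL : V ≤ L := hVM.trans hML
  have hVY : V ⊓ Y = ⊥ := H23.commutator_inf_centralizer_of_abelian hPn hPM hMab
  have hMdec : V ⊔ (M ⊓ Y) = M := H23.commutator_sup_centralizer hPn hPM hs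
  have hLVY : L ≤ V ⊔ Y := by
    intro l hl
    obtain ⟨m, hm, hc⟩ := H23.exists_mem_coset_centralizer hPn hPM hs (g := l) (by
      intro a _
      have h1 : ⁅l⁻¹, a⁆ ∈ M := commutator_mem_commutator (L.inv_mem hl) (mem_top _)
      rw [commutatorElement_def, inv_inv] at h1
      exact h1)
    have h1 : m ∈ V ⊔ Y := by
      have h2 : m ∈ V ⊔ (M ⊓ Y) := by rw [hMdec]; exact hm
      exact (sup_le_sup_left inf_le_right V) h2
    have h2 : l = l * m * m⁻¹ := by group
    rw [h2]
    exact mul_mem ((le_sup_right : Y ≤ _) hc) (inv_mem h1)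
  have hVYtop : V ⊔ Y = ⊤ := by
    rw [eq_top_iff, ← hLY]
    exact sup_le hLVY le_sup_right
  haveI hVn : V.Normal := by
    rw [← normalizer_eq_top_iff, eq_top_iff, ← hLY]
    refine sup_le ?_ ?_
    · intro l hl
      apply centralizer_le_normalizer
      rw [mem_centralizer_iff]
      intro v hv
      exact hLab v (hVL hv) l hl
    · intro y hy
      rw [mem_normalizer_iff_map_conj_eq, hV, map_commutator]
      congr 1
      · have : y ∈ normalizer (M : Set G) := by rw [normalizer_eq_top]; trivial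
        rwa [mem_normalizer_iff_map_conj_eq] at this
      · have : y ∈ normalizer ((P : Subgroup G) : Set G) := centralizer_le_normalizer _ hy
        rwa [mem_normalizer_iff_map_conj_eq] at this
  have hV1 : V ≠ ⊥ := by
    intro h
    rw [h, bot_sup_eq] at hVYtop
    apply H24.not_dvd_index_of_sylow_centralizes x₀ P _ hx₀
    rw [← hY, hVYtop]; trivial
  -- elements of `Y` outside `L` act fixed point freely on `V`
  have hfpf : ∀ y ∈ Y, y ∉ L → ∀ v ∈ V, v * y = y * v → v = 1 := by
    intro y hy hyL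
    let f : V → V := fun u => ⟨(u : G)⁻¹ * (y * (u : G) * y⁻¹),
      V.mul_mem (V.inv_mem u.2) (hVn.conj_mem _ u.2 y)⟩
    have hsurj : Function.Surjective f := by
      rintro ⟨v, hv⟩
      have h1 : v * y ∉ L := by
        intro h1
        apply hyL
        have := L.mul_mem (L.inv_mem (hVL hv)) h1
        rwa [inv_mul_cancel_left] at this
      obtain ⟨h, hh⟩ := hout _ h1
      have h2 : h ∈ V ⊔ Y := by rw [hVYtop]; trivial
      rw [mem_sup_of_normal_left] at h2
      obtain ⟨u₀, hu₀, c, hc, rfl⟩ := h2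
      -- write `u₀ c = c u`
      set u := c⁻¹ * u₀ * c with hu
      have huV : u ∈ V := by
        have := hVn.conj_mem u₀ hu₀ c⁻¹
        rwa [inv_inv] at this
      have e1 : u₀ * c = c * u := by rw [hu]; group
      rw [e1] at hh
      have h3 : u * (v * y) * u⁻¹ ∈ Y := by
        have := mul_mem (mul_mem (inv_mem hc) hh) hc
        have e2 : c⁻¹ * (c * u * (v * y) * (c * u)⁻¹) * c = u * (v * y) * u⁻¹ := by group
        rwa [e2] at this
      have h4 : u * v * (y * u⁻¹ * y⁻¹) ∈ V ⊓ Y := by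
        refine ⟨V.mul_mem (V.mul_mem huV hv) (hVn.conj_mem _ (V.inv_mem huV) y), ?_⟩
        have := Y.mul_mem h3 (Y.inv_mem hy)
        have e2 : u * (v * y) * u⁻¹ * y⁻¹ = u * v * (y * u⁻¹ * y⁻¹) := by group
        rwa [e2] at this
      rw [hVY, mem_bot] at h4
      refine ⟨⟨u, huV⟩, Subtype.ext ?_⟩
      show u⁻¹ * (y * u * y⁻¹) = v
      have h5 : u * v = y * u * y⁻¹ := by
        have h6 := eq_inv_of_mul_eq_one_left h4
        rw [h6]; group
      rw [← h5, inv_mul_cancel_left]
    have hinj := Finite.injective_iff_surjective.2 hsurj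
    intro v hv hvy
    have h1 : f ⟨v, hv⟩ = f 1 := by
      apply Subtype.ext
      show v⁻¹ * (y * v * y⁻¹) = (1 : G)⁻¹ * (y * (1 : G) * y⁻¹)
      rw [← hvy]; group
    exact congrArg Subtype.val (hinj h1)
  -- centralizers of nontrivial elements of `V`
  have hCv : ∀ v ∈ V, v ≠ 1 → centralizer ({v} : Set G) = L := by
    intro v hv hv1
    apply le_antisymm
    · intro g hg
      rw [mem_centralizer_singleton_iff] at hg
      have h1 : g ∈ L ⊔ Y := by rw [hLY]; trivial
      rw [mem_sup_of_normal_left] at h1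
      obtain ⟨l, hl, c, hc, rfl⟩ := h1
      have h2 : v * c = c * v := by
        have h3 := hLab l hl v (hVL hv)
        have h4 : l * (c * v) = l * (v * c) := by
          calc l * (c * v) = l * c * v := by group
            _ = v * (l * c) := hg
            _ = (v * l) * c := by group
            _ = (l * v) * c := by rw [h3]
            _ = l * (v * c) := by group
        exact (mul_left_cancel h4).symm
      by_cases hcL : c ∈ L
      · exact mul_mem hl hcL
      · exact absurd (hfpf c hc hcL v hv h2) hv1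
    · intro l hl
      rw [mem_centralizer_singleton_iff]
      exact hLab l hl v (hVL hv)
  obtain ⟨v, hv, hv1⟩ : ∃ v ∈ V, v ≠ 1 := by
    by_contra hno
    push Not at hno
    exact hV1 (by rw [eq_bot_iff]; exact fun n hn => mem_bot.2 (hno n hn))
  have hcv : csz v = L.index := by
    show (centralizer ({v} : Set G)).index = _
    rw [hCv v hv hv1]
  have hLcsz : ∀ g ∈ L, csz g ∣ L.index := by
    intro g hg
    apply index_dvd_of_le
    intro l hl
    rw [mem_centralizer_singleton_iff]
    exact hLab l hl g hg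
  have hpL : p ∣ L.index := hx₀.trans (hLcsz x₀ (Subgroup.subset_closure hx₀))
  have hVcsz : ∀ g : G, g ∉ L → Nat.card V ∣ csz g := by
    intro g hg
    obtain ⟨h, hh⟩ := hout g hg
    rw [← csz_conj g h]
    have h1 : h * g * h⁻¹ ∉ L := by
      intro h1
      apply hg
      have := hLn.conj_mem _ h1 h⁻¹
      have e : h⁻¹ * (h * g * h⁻¹) * h⁻¹⁻¹ = g := by group
      rwa [e] at this
    have h2 : (centralizer ({h * g * h⁻¹} : Set G)).relIndex V ∣ csz (h * g * h⁻¹) :=
      H1.relIndex_dvd_index_of_normal_right _ _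
    have h3 : centralizer ({h * g * h⁻¹} : Set G) ⊓ V = ⊥ := by
      rw [eq_bot_iff]
      rintro u ⟨hu1, hu2⟩
      rw [mem_bot]
      exact hfpf _ hh h1 u hu2 (mem_centralizer_singleton_iff.1 hu1)
    rwa [← inf_relIndex_right, h3, relIndex_bot_left] at h2
  have hVcard : 1 < Nat.card V := by
    rw [Finite.one_lt_card_iff_nontrivial]
    exact (nontrivial_iff_ne_bot V).2 hV1
  have hqL : ¬ q ∣ L.index := by
    rw [← hcv]
    intro h
    have h1 := hcop v v (by rw [hcv]; exact hpL) h
    rw [Nat.coprime_self] at h1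
    rw [h1] at h
    exact hq.one_lt.ne' (Nat.dvd_one.1 h)
  obtain ⟨z, hz⟩ := hB
  have hzL : z ∉ L := fun h => hqL (hz.trans (hLcsz z h))
  refine ⟨L.index, hpL, hqL, fun g => ?_⟩
  by_cases hg : g ∈ L
  · exact Or.inl (hLcsz g hg)
  · right
    by_contra hnc
    rw [← hcv] at hnc
    refine hH v g z (by rw [hcv]; exact hpL) hz ⟨fun h => hnc h.symm, ?_⟩
    intro h
    have h1 := Nat.dvd_gcd (hVcsz g hg) (hVcsz z hzL)
    rw [h] at h1
    exact hVcard.ne' (Nat.dvd_one.1 h1)

end Cfsg.Agent.H25
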