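import Mathlib

set_option autoImplicit false

namespace Cfsg.Agent.H25

/-- number of elements of `S` commuting with `x` -/
noncomputable def nc {G : Type*} [Group G] (S : Subgroup G) (x : G) : ℕ :=
  Nat.card (Subgroup.centralizer ({x} : Set G) ⊓ S : Subgroup G)

variable {G : Type*} [Group G] [Finite G]

theorem nc_eq_sum [Fintype G] [∀ x y : G, Decidable (Commute x y)]
    (S : Subgroup G) [DecidablePred (· ∈ S)] (x : G) :
    nc S x = ∑ y ∈ Finset.univ.filter (· ∈ S), if Commute x y then 1 else 0 := by
  classical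
  rw [nc, ← Finset.card_filter, Nat.card_eq_fintype_card]
  apply Fintype.card_of_subtype
  intro y
  simp only [Subgroup.mem_inf, Finset.mem_filter,
    Finset.mem_univ, true_and, Subgroup.mem_centralizer_singleton_iff]
  rw [Iff.comm]
  constructor
  · rintro ⟨h1, h2⟩
    exact ⟨h2, h1.symm⟩
  · rintro ⟨h1, h2⟩
    exact ⟨h2.symm, h1⟩

theorem sum_nc_comm [Fintype G] (S T : Subgroup G) [DecidablePred (· ∈ S)] [DecidablePred (· ∈ T)] :
    ∑ x ∈ Finset.univ.filter (· ∈ S), nc T x = ∑ y ∈ Finset.univ.filter (· ∈ T), nc S y := by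
  classical
  simp_rw [nc_eq_sum]
  rw [Finset.sum_comm]
  apply Finset.sum_congr rfl
  intro y _
  apply Finset.sum_congr rfl
  intro x _
  by_cases h : Commute x y
  · rw [if_pos h, if_pos h.symm]
  · rw [if_neg h, if_neg (fun h' => h h'.symm)]

theorem sum_nc_self [Fintype G] (S : Subgroup G) [DecidablePred (· ∈ S)] :
    ∑ x ∈ Finset.univ.filter (· ∈ S), nc S x = Nat.card (ConjClasses S) * Nat.card S := by
  classical
  haveI : Fintype S := Fintype.ofFinite S
  rw [← card_comm_eq_card_conjClasses_mul_card, Nat.card_eq_fintype_card, Fintype.card_subtype]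
  rw [Finset.card_filter, Fintype.sum_prod_type]
  have h1 : ∀ f : G → ℕ, ∑ x ∈ Finset.univ.filter (· ∈ S), f x = ∑ x : S, f x := by
    intro f
    apply Finset.sum_subtype
    simp
  rw [h1]
  apply Finset.sum_congr rfl
  intro x _
  rw [nc_eq_sum, h1]
  apply Finset.sum_congr rfl
  intro y _
  have : Commute (x : G) (y : G) ↔ Commute x y := by
    constructor
    · intro h; exact Subtype.ext h
    · intro h; exact congrArg Subtype.val h
  by_cases h : Commute x y
  · rw [if_pos h, if_pos (this.2 h)]
  · rw [if_neg h, if_neg (fun h' => h (this.1 h'))]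

theorem nc_top_eq (x : G) : nc (⊤ : Subgroup G) x = Nat.card (Subgroup.centralizer ({x} : Set G)) := by
  rw [nc, inf_top_eq]

theorem sum_nc_top [Fintype G] : ∑ x : G, nc (⊤ : Subgroup G) x = Nat.card (ConjClasses G) * Nat.card G := by
  classical
  rw [← card_comm_eq_card_conjClasses_mul_card, Nat.card_eq_fintype_card, Fintype.card_subtype]
  rw [Finset.card_filter, Fintype.sum_prod_type]
  apply Finset.sum_congr rfl
  intro x _
  rw [nc_eq_sum]
  simp

theorem nc_top_eq_mul (S : Subgroup G) (x : G) :
    nc (⊤ : Subgroup G) x = nc S x * S.relIndex (Subgroup.centralizer ({x} : Set G)) := by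
  rw [nc_top_eq, nc]
  have h1 := Subgroup.relIndex_mul_relIndex ⊥ (Subgroup.centralizer ({x} : Set G) ⊓ S)
    (Subgroup.centralizer ({x} : Set G)) bot_le inf_le_left
  rw [Subgroup.relIndex_bot_left, Subgroup.relIndex_bot_left, inf_comm, Subgroup.inf_relIndex_right] at h1
  rw [← h1, inf_comm]

theorem relIndex_le_index (S T : Subgroup G) : S.relIndex T ≤ S.index := by
  rw [← Subgroup.relIndex_top_right]
  exact Subgroup.relIndex_le_of_le_right le_top
      (by rw [Subgroup.relIndex_top_right]; exact Subgroup.FiniteIndex.index_ne_zero)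

end Cfsg.Agent.H25
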