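import Cfsg.Agent.H24.SubgroupCount
import Cfsg.Agent.H23.Coprime3

set_option autoImplicit false
set_option linter.unusedSectionVars false
set_option linter.unusedVariables false

/-! counting subgroups of `p`-groups modulo `p ^ 2` -/

namespace Cfsg.Agent.H25.Kul

open Subgroup Finset

universe u

section basic

variable {G : Type*} [Group G] [Finite G]

/-- number of subgroups of order `k` inside `H` -/
noncomputable def cnt (k : ℕ) (H : Subgroup G) : ℕ := Nat.card {A : Subgroup G // A ≤ H ∧ Nat.card A = k}

theorem cnt_eq (k : ℕ) (H : Subgroup G) : cnt k H = Nat.card {A : Subgroup H // Nat.card A = k} := by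
  refine Nat.card_congr
    { toFun := fun A => ⟨A.1.subgroupOf H, by
        rw [Nat.card_congr (subgroupOfEquivOfLe A.2.1).toEquiv]; exact A.2.2⟩
      invFun := fun B => ⟨B.1.map H.subtype, map_subtype_le _, by
        rw [Nat.card_congr (B.1.equivMapOfInjective _ H.subtype_injective).toEquiv.symm]; exact B.2⟩
      left_inv := fun A => Subtype.ext (map_subgroupOf_eq_of_le A.2.1)
      right_inv := fun B => Subtype.ext (comap_map_eq_self_of_injective H.subtype_injective _) }

theorem cnt_top (k : ℕ) : cnt k (⊤ : Subgroup G) = Nat.card {A : Subgroup G // Nat.card A = k} :=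
  Nat.card_congr (Equiv.subtypeEquivRight (fun A => by simp))

theorem cnt_modEq {p a : ℕ} (hp : p.Prime) (H : Subgroup G) (h : p ^ a ∣ Nat.card H) : cnt (p ^ a) H ≡ 1 [MOD p] := by
  rw [cnt_eq]
  exact Cfsg.Agent.H24.card_subgroups_modEq_one p a hp h

/-- subgroups above a normal subgroup -/
theorem card_above (N : Subgroup G) [N.Normal] (k : ℕ) :
    Nat.card {M : Subgroup G // N ≤ M ∧ M.index = k} = Nat.card {M : Subgroup (G ⧸ N) // M.index = k} := by
  refine Nat.card_congr
    { toFun := fun M => ⟨M.1.map (QuotientGroup.mk' N), by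
        rw [index_map_eq _ (QuotientGroup.mk'_surjective N) (by rw [QuotientGroup.ker_mk']; exact M.2.1)]; exact M.2.2⟩
      invFun := fun M => ⟨M.1.comap (QuotientGroup.mk' N), by
        conv_lhs => rw [← QuotientGroup.ker_mk' N]
        exact MonoidHom.ker_le_comap _ _, by
        rw [index_comap_of_surjective _ (QuotientGroup.mk'_surjective N)]; exact M.2⟩
      left_inv := fun M => Subtype.ext (by
        show ((M.1.map (QuotientGroup.mk' N)).comap (QuotientGroup.mk' N)) = M.1
        rw [comap_map_eq_self]
        rw [QuotientGroup.ker_mk']; exact M.2.1)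
      right_inv := fun M => Subtype.ext (map_comap_eq_self_of_surjective (QuotientGroup.mk'_surjective N) _) }

theorem natCard_subtype {α : Type*} [Fintype α] (P : α → Prop) [DecidablePred P] :
    Nat.card {x // P x} = (univ.filter P).card := by
  rw [Nat.card_eq_fintype_card, Fintype.card_subtype]

end basic

/-- index `p` subgroups of an elementary abelian group -/
theorem N1_formula {p : ℕ} [hp : Fact p.Prime] (e : ℕ) : ∀ (E : Type u) [Group E] [Finite E],
    (∀ a b : E, a * b = b * a) → (∀ x : E, x ^ p = 1) → Nat.card E = p ^ (e + 1) →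
    Nat.card {M : Subgroup E // M.index = p} * (p - 1) + 1 = p ^ (e + 1) := by
  induction e with
  | zero =>
    intro E _ _ hc hpow hE
    have h1 : Nat.card {M : Subgroup E // M.index = p} = 1 := by
      rw [Nat.card_eq_one_iff_unique]
      refine ⟨⟨fun A B => Subtype.ext ?_⟩, ⟨⟨⊥, by rw [index_bot, hE, zero_add, pow_one]⟩⟩⟩
      have h : ∀ A : Subgroup E, A.index = p → A = ⊥ := by
        intro A hA
        have h1 := card_mul_index A
        rw [hA, hE, zero_add, pow_one] at h1
        exact Subgroup.eq_bot_of_card_eq _ ((Nat.mul_eq_right hp.out.pos.ne').1 h1)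
      rw [h A.1 A.2, h B.1 B.2]
    rw [h1, one_mul, zero_add, pow_one]
    have := hp.out.one_lt
    omega
  | succ e ih =>
    intro E _ _ hc hpow hE
    classical
    haveI : Fintype E := Fintype.ofFinite E
    haveI : Fintype (Subgroup E) := Fintype.ofFinite _
    have hnorm : ∀ N : Subgroup E, N.Normal := fun N => ⟨fun n hn g => by rw [hc g n, mul_inv_cancel_right]; exact hn⟩
    set S : Finset (Subgroup E) := univ.filter (fun M => M.index = p) with hS
    have hSc : Nat.card {M : Subgroup E // M.index = p} = S.card := natCard_subtype _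
    -- the count through a nontrivial element
    have hx : ∀ x : E, x ≠ 1 → (S.filter (fun M => x ∈ M)).card * (p - 1) + 1 = p ^ (e + 1) := by
      intro x hx
      haveI := hnorm (zpowers x)
      have hord : orderOf x = p := orderOf_eq_prime (hpow x) hx
      have h1 := ih (E ⧸ zpowers x) (fun a b => by
          obtain ⟨a, rfl⟩ := QuotientGroup.mk_surjective a
          obtain ⟨b, rfl⟩ := QuotientGroup.mk_surjective b
          rw [← QuotientGroup.mk_mul, ← QuotientGroup.mk_mul, hc]) (fun a => by
          obtain ⟨a, rfl⟩ := QuotientGroup.mk_surjective a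
          rw [← QuotientGroup.mk_pow, hpow]; rfl) (by
          have h2 := card_mul_index (zpowers x)
          rw [Nat.card_zpowers, hord, hE, index_eq_card] at h2
          rw [pow_succ, mul_comm] at h2
          exact mul_right_cancel₀ hp.out.pos.ne' h2)
      rw [← card_above, natCard_subtype] at h1
      rw [← h1]
      congr 2
      congr 1
      ext M
      simp only [hS, mem_filter, mem_univ, true_and, zpowers_le]
      tauto
    -- double counting
    have hdc : ∑ M ∈ S, (univ.filter (fun x : E => x ∈ M)).card = ∑ x : E, (S.filter (fun M => x ∈ M)).card := by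
      simp only [card_filter]
      rw [sum_comm]
    have hL : ∑ M ∈ S, (univ.filter (fun x : E => x ∈ M)).card = S.card * p ^ (e + 1) := by
      rw [sum_const_nat]
      intro M hM
      rw [hS, mem_filter] at hM
      have h1 := card_mul_index M
      rw [hM.2, hE, pow_succ p (e + 1)] at h1
      have h2 := mul_right_cancel₀ hp.out.pos.ne' h1
      rw [← h2, ← natCard_subtype]
    have hR : (∑ x : E, (S.filter (fun M => x ∈ M)).card) * (p - 1) + (p ^ (e + 2) - 1) =
        S.card * (p - 1) + (p ^ (e + 2) - 1) * p ^ (e + 1) := by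
      rw [← add_sum_erase univ _ (mem_univ (1 : E))]
      have h1 : (S.filter (fun M => (1 : E) ∈ M)) = S := by
        apply filter_true_of_mem
        intro M _
        exact one_mem M
      rw [h1, add_mul, sum_mul, add_assoc]
      congr 1
      have h2 : (p ^ (e + 2) - 1) = ∑ x ∈ univ.erase (1 : E), 1 := by
        rw [sum_const, smul_eq_mul, mul_one, card_erase_of_mem (mem_univ _), card_univ, ← Nat.card_eq_fintype_card, hE]
      rw [h2, ← sum_add_distrib, sum_mul]
      apply sum_congr rfl
      intro x hx1
      rw [hx x (ne_of_mem_erase hx1), one_mul]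
    rw [← hdc, hL] at hR
    rw [hSc]
    have hp1 : 1 ≤ p := hp.out.one_lt.le
    have hpe : 1 ≤ p ^ (e + 1) := Nat.one_le_pow _ _ hp.out.pos
    have hpe2 : 1 ≤ p ^ (e + 2) := Nat.one_le_pow _ _ hp.out.pos
    have hlt : 1 < p ^ (e + 1) := Nat.one_lt_pow (by omega) hp.out.one_lt
    zify [hp1, hpe2] at hR ⊢
    have hlt' : (1 : ℤ) < (p : ℤ) ^ (e + 1) := by exact_mod_cast hlt
    have key : ((S.card : ℤ) * (p - 1) + 1 - (p : ℤ) ^ (e + 2)) * ((p : ℤ) ^ (e + 1) - 1) = 0 := by
      ring_nf at hR ⊢
      linarith
    rcases mul_eq_zero.1 key with h | h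
    · show (S.card : ℤ) * (p - 1) + 1 = (p : ℤ) ^ (e + 2)
      linarith
    · linarith

end Cfsg.Agent.H25.Kul
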