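import Cfsg.Agent.H25.Kul1

set_option autoImplicit false
set_option linter.unusedSectionVars false
set_option linter.unusedVariables false

namespace Cfsg.Agent.H25.Kul

open Subgroup Finset
open scoped commutatorElement

universe u

theorem card_fin {α : Type*} [Finite α] (Q : α → Prop) :
    Nat.card {x // Q x} = (Set.toFinite {x | Q x}).toFinset.card := by
  rw [← Set.ncard_eq_toFinset_card]; rfl

variable {P : Type u} [Group P] [Finite P] {p : ℕ} [hp : Fact p.Prime]

/-- `P' P^p` -/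
def Phi (p : ℕ) (P : Type*) [Group P] : Subgroup P := _root_.commutator P ⊔ closure (Set.range (fun x : P => x ^ p))

theorem pow_mem_Phi (p : ℕ) (x : P) : x ^ p ∈ Phi p P := mem_sup_right (subset_closure ⟨x, rfl⟩)

theorem comm_mem_Phi (p : ℕ) (x y : P) : ⁅x, y⁆ ∈ Phi p P :=
  mem_sup_left (commutator_mem_commutator (mem_top _) (mem_top _))

theorem normal_of_Phi_le {N : Subgroup P} (h : Phi p P ≤ N) : N.Normal := by
  constructor
  intro n hn g
  have h1 : ⁅g, n⁆ ∈ N := h (comm_mem_Phi p g n)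
  have h2 : g * n * g⁻¹ = ⁅g, n⁆ * n := by rw [commutatorElement_def]; group
  rw [h2]
  exact mul_mem h1 hn

theorem normal_of_index (hP : IsPGroup p P) {M : Subgroup P} (hM : M.index = p) : M.Normal := by
  apply normal_of_index_eq_minFac_card
  obtain ⟨n, hn⟩ := IsPGroup.iff_card.1 hP
  have hn0 : n ≠ 0 := by
    rintro rfl
    rw [pow_zero] at hn
    have h1 := M.index_dvd_card
    rw [hn, hM, Nat.dvd_one] at h1
    exact hp.out.one_lt.ne' h1
  rw [hn, hM]
  exact (hp.out.pow_minFac hn0).symm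

theorem Phi_le (hP : IsPGroup p P) {M : Subgroup P} (hM : M.index = p) : Phi p P ≤ M := by
  haveI := normal_of_index hP hM
  have hc : IsCyclic (P ⧸ M) := isCyclic_of_prime_card (p := p) (by rw [← hM]; rfl)
  apply sup_le
  · rw [_root_.commutator_def, Subgroup.commutator_le]
    intro g _ h _
    rw [← QuotientGroup.eq_one_iff]
    letI : CommGroup (P ⧸ M) := IsCyclic.commGroup
    have h1 : (QuotientGroup.mk ⁅g, h⁆ : P ⧸ M) = ⁅(QuotientGroup.mk g : P ⧸ M), QuotientGroup.mk h⁆ := rfl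
    rw [h1, commutatorElement_def, mul_comm (QuotientGroup.mk g : P ⧸ M)]
    group
  · rw [closure_le]
    rintro _ ⟨x, rfl⟩
    have := M.pow_index_mem x
    rwa [hM] at this

theorem exists_above (hP : IsPGroup p P) {U : Subgroup P} (hU : U ≠ ⊤) : ∃ M : Subgroup P, U ≤ M ∧ M.index = p := by
  obtain ⟨n, hn⟩ := IsPGroup.iff_card.1 hP
  obtain ⟨k, hk⟩ := IsPGroup.iff_card.1 (hP.to_subgroup U)
  have hkn : k < n := by
    have h1 := card_mul_index U
    have h2 : U.index ≠ 1 := fun h => hU (index_eq_one.1 h)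
    have h3 : k ≤ n := by
      rw [← Nat.pow_dvd_pow_iff_le_right hp.out.one_lt, ← hn, ← hk]
      exact card_subgroup_dvd_card U
    rcases lt_or_eq_of_le h3 with h | h
    · exact h
    · exfalso
      rw [hn, hk, h] at h1
      exact h2 ((Nat.mul_eq_left (pow_ne_zero _ hp.out.pos.ne')).1 h1)
  obtain ⟨M, hM, hUM⟩ := Sylow.exists_subgroup_card_pow_prime_le (p := p) (n := k) (m := n - 1)
    (by rw [hn]; exact pow_dvd_pow _ (by omega)) U hk (by omega)
  refine ⟨M, hUM, ?_⟩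
  have h1 := card_mul_index M
  rw [hM, hn] at h1
  have h2 : p ^ n = p ^ (n - 1) * p := by rw [← pow_succ]; congr 1; omega
  rw [h2] at h1
  exact Nat.eq_of_mul_eq_mul_left (pow_pos hp.out.pos _) h1

theorem quot_counts (hP : IsPGroup p P) (N : Subgroup P) (hN : Phi p P ≤ N) (hNt : N ≠ ⊤) :
    ∃ e, N.index = p ^ (e + 1) ∧ Nat.card {M : Subgroup P // N ≤ M ∧ M.index = p} * (p - 1) + 1 = p ^ (e + 1) ∧
      (e = 0 → Nat.card {M : Subgroup P // N ≤ M ∧ M.index = p ^ 2} = 0) ∧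
      (1 ≤ e → Nat.card {M : Subgroup P // N ≤ M ∧ M.index = p ^ 2} ≡ 1 [MOD p]) := by
  haveI := normal_of_Phi_le hN
  obtain ⟨k, hk⟩ := hP.index N
  have hk0 : k ≠ 0 := by
    rintro rfl
    rw [pow_zero, index_eq_one] at hk
    exact hNt hk
  obtain ⟨e, rfl⟩ := Nat.exists_eq_succ_of_ne_zero hk0
  have hcard : Nat.card (P ⧸ N) = p ^ (e + 1) := hk
  refine ⟨e, hk, ?_, ?_, ?_⟩
  · rw [card_above]
    apply N1_formula e _ _ _ hcard
    · intro a b
      obtain ⟨a, rfl⟩ := QuotientGroup.mk_surjective a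
      obtain ⟨b, rfl⟩ := QuotientGroup.mk_surjective b
      have h1 : (QuotientGroup.mk ⁅a, b⁆ : P ⧸ N) = 1 := (QuotientGroup.eq_one_iff _).2 (hN (comm_mem_Phi p a b))
      have h2 : a * b = ⁅a, b⁆ * (b * a) := by rw [commutatorElement_def]; group
      rw [← QuotientGroup.mk_mul, h2, QuotientGroup.mk_mul, h1, one_mul, QuotientGroup.mk_mul]
    · intro a
      obtain ⟨a, rfl⟩ := QuotientGroup.mk_surjective a
      rw [← QuotientGroup.mk_pow, QuotientGroup.eq_one_iff]
      exact hN (pow_mem_Phi p a)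
  · rintro rfl
    rw [card_above, Nat.card_eq_zero]
    left
    refine ⟨fun M => ?_⟩
    have h1 := M.1.index_dvd_card
    rw [M.2, hcard, Nat.pow_dvd_pow_iff_le_right hp.out.one_lt] at h1
    omega
  · intro he
    rw [card_above]
    have h1 : ∀ M : Subgroup (P ⧸ N), M.index = p ^ 2 ↔ Nat.card M = p ^ (e - 1) := by
      intro M
      have h2 := card_mul_index M
      have h3 : p ^ (e + 1) = p ^ (e - 1) * p ^ 2 := by rw [← pow_add]; congr 1; omega
      rw [hcard, h3] at h2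
      constructor
      · intro h
        rw [h] at h2
        exact Nat.eq_of_mul_eq_mul_right (pow_pos hp.out.pos _) h2
      · intro h
        rw [h] at h2
        exact Nat.eq_of_mul_eq_mul_left (pow_pos hp.out.pos _) h2
    rw [Nat.card_congr (Equiv.subtypeEquivRight h1)]
    apply Cfsg.Agent.H24.card_subgroups_modEq_one p (e - 1) hp.out
    rw [hcard]
    exact pow_dvd_pow _ (by omega)

theorem modEq_of_formula {c e : ℕ} (he : 1 ≤ e) (h : c * (p - 1) + 1 = p ^ (e + 1)) : c ≡ 1 + p [MOD p ^ 2] := by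
  have hp1 := hp.out.one_lt
  have h1 : c * (p - 1) + 1 ≡ (1 + p) * (p - 1) + 1 [MOD p ^ 2] := by
    have h2 : (1 + p) * (p - 1) + 1 = p ^ 2 := by
      obtain ⟨q, rfl⟩ : ∃ q, p = q + 1 := ⟨p - 1, by omega⟩
      rw [Nat.add_sub_cancel]
      ring
    rw [h, h2]
    have h3 : p ^ 2 ∣ p ^ (e + 1) := pow_dvd_pow _ (by omega)
    exact ((Nat.modEq_zero_iff_dvd.2 h3).trans (Nat.modEq_zero_iff_dvd.2 dvd_rfl).symm)
  have h2 := Nat.ModEq.add_right_cancel' 1 h1
  apply Nat.ModEq.cancel_right_of_coprime _ h2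
  have h3 : Nat.Coprime p (p - 1) := by
    rw [Nat.coprime_comm, Nat.coprime_self_sub_left hp1.le]
    exact Nat.coprime_one_left p
  exact h3.pow_left 2

theorem above_sup {U : Subgroup P} (hP : IsPGroup p P) (M : Subgroup P) (hM : M.index = p) :
    U ⊔ Phi p P ≤ M ↔ U ≤ M := by
  rw [sup_le_iff]
  exact ⟨fun h => h.1, fun h => ⟨h, Phi_le hP hM⟩⟩

theorem sup_ne_top (hP : IsPGroup p P) {U : Subgroup P} (hU : U ≠ ⊤) : U ⊔ Phi p P ≠ ⊤ := by
  obtain ⟨M, hUM, hM⟩ := exists_above hP hU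
  intro h
  have h1 := (above_sup hP M hM).2 hUM
  rw [h, top_le_iff] at h1
  rw [h1, index_top] at hM
  exact hp.out.one_lt.ne hM

theorem A1 (hP : IsPGroup p P) {U : Subgroup P} (hU : U ≠ ⊤) :
    Nat.card {M : Subgroup P // U ≤ M ∧ M.index = p} ≡
      1 + p * Nat.card {K : Subgroup P // U ≤ K ∧ (Phi p P ≤ K ∧ K.index = p ^ 2)} [MOD p ^ 2] := by
  obtain ⟨e, he, h1, h2, h3⟩ := quot_counts hP (U ⊔ Phi p P) le_sup_right (sup_ne_top hP hU)
  have e1 : Nat.card {M : Subgroup P // U ≤ M ∧ M.index = p} = Nat.card {M : Subgroup P // U ⊔ Phi p P ≤ M ∧ M.index = p} :=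
    Nat.card_congr (Equiv.subtypeEquivRight (fun M => by
      constructor
      · rintro ⟨h, h'⟩; exact ⟨(above_sup hP M h').2 h, h'⟩
      · rintro ⟨h, h'⟩; exact ⟨(above_sup hP M h').1 h, h'⟩))
  have e2 : Nat.card {K : Subgroup P // U ≤ K ∧ (Phi p P ≤ K ∧ K.index = p ^ 2)} =
      Nat.card {M : Subgroup P // U ⊔ Phi p P ≤ M ∧ M.index = p ^ 2} :=
    Nat.card_congr (Equiv.subtypeEquivRight (fun M => by rw [sup_le_iff, and_assoc]))
  rw [e1, e2]
  rcases Nat.eq_zero_or_pos e with h0 | hpos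
  · rw [h2 h0, mul_zero, add_zero]
    rw [h0, zero_add, pow_one] at h1
    have hp1 := hp.out.one_lt
    have h4 : Nat.card {M : Subgroup P // U ⊔ Phi p P ≤ M ∧ M.index = p} * (p - 1) = 1 * (p - 1) := by omega
    rw [Nat.eq_of_mul_eq_mul_right (by omega) h4]
  · refine (modEq_of_formula hpos h1).trans ?_
    apply Nat.ModEq.add_left
    have h4 := (h3 hpos).mul_left' p
    rw [mul_one, ← pow_two] at h4
    exact h4.symm

/-- a version modulo `p` -/
theorem A1' (hP : IsPGroup p P) {U : Subgroup P} (hU : U ≠ ⊤) :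
    Nat.card {M : Subgroup P // U ≤ M ∧ M.index = p} ≡ 1 [MOD p] := by
  have h1 := (A1 hP hU).of_dvd (dvd_pow_self p two_ne_zero)
  refine h1.trans ?_
  show _ ≡ 1 + 0 [MOD p]
  apply Nat.ModEq.add_left
  exact Nat.modEq_zero_iff_dvd.2 (dvd_mul_right _ _)

theorem Phi_index (hP : IsPGroup p P) (hnc : ¬ IsCyclic P) : ∃ e, 1 ≤ e ∧ (Phi p P).index = p ^ (e + 1) ∧
    Nat.card {M : Subgroup P // M.index = p} ≡ 1 + p [MOD p ^ 2] ∧
    Nat.card {K : Subgroup P // Phi p P ≤ K ∧ K.index = p ^ 2} ≡ 1 [MOD p] := by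
  have hbt : (⊥ : Subgroup P) ≠ ⊤ := by
    intro h
    apply hnc
    haveI : Subsingleton P := by
      rw [← Subgroup.subsingleton_iff]
      exact subsingleton_of_bot_eq_top h
    exact isCyclic_of_subsingleton
  have hPt : Phi p P ≠ ⊤ := by
    have := sup_ne_top hP hbt
    rwa [bot_sup_eq] at this
  obtain ⟨e, he, h1, h2, h3⟩ := quot_counts hP (Phi p P) le_rfl hPt
  have he1 : 1 ≤ e := by
    by_contra hcon
    have he0 : e = 0 := by omega
    rw [he0, zero_add, pow_one] at he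
    apply hnc
    obtain ⟨x, -, hx⟩ := SetLike.exists_of_lt (lt_top_iff_ne_top.2 hPt)
    have h4 : zpowers x = ⊤ := by
      by_contra hne
      obtain ⟨M, hM, hMi⟩ := exists_above hP hne
      have h5 : Phi p P = M := by
        apply Subgroup.eq_of_le_of_card_ge (Phi_le hP hMi)
        have h6 := card_mul_index M
        have h7 := card_mul_index (Phi p P)
        rw [hMi] at h6
        rw [he, ← h6] at h7
        exact (Nat.eq_of_mul_eq_mul_right hp.out.pos h7).ge
      exact hx (h5 ▸ hM (mem_zpowers x))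
    exact isCyclic_iff_exists_zpowers_eq_top.2 ⟨x, h4⟩
  refine ⟨e, he1, he, ?_, h3 he1⟩
  have e1 : Nat.card {M : Subgroup P // M.index = p} = Nat.card {M : Subgroup P // Phi p P ≤ M ∧ M.index = p} :=
    Nat.card_congr (Equiv.subtypeEquivRight (fun M => ⟨fun h => ⟨Phi_le hP h, h⟩, fun h => h.2⟩))
  rw [e1]
  exact modEq_of_formula he1 h1

noncomputable def S1 (p : ℕ) (P : Type u) [Group P] [Finite P] : Finset (Subgroup P) :=
  (Set.toFinite {M : Subgroup P | M.index = p}).toFinset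

noncomputable def S2 (p : ℕ) (P : Type u) [Group P] [Finite P] : Finset (Subgroup P) :=
  (Set.toFinite {M : Subgroup P | Phi p P ≤ M ∧ M.index = p ^ 2}).toFinset

theorem mem_S1 {M : Subgroup P} : M ∈ S1 p P ↔ M.index = p := by simp [S1]
theorem mem_S2 {M : Subgroup P} : M ∈ S2 p P ↔ Phi p P ≤ M ∧ M.index = p ^ 2 := by simp [S2]

theorem card_S1 (hP : IsPGroup p P) (hnc : ¬ IsCyclic P) : (S1 p P).card ≡ 1 + p [MOD p ^ 2] := by
  obtain ⟨e, -, -, h1, -⟩ := Phi_index hP hnc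
  rwa [card_fin] at h1

theorem card_S2 (hP : IsPGroup p P) (hnc : ¬ IsCyclic P) : (S2 p P).card ≡ 1 [MOD p] := by
  obtain ⟨e, -, -, -, h1⟩ := Phi_index hP hnc
  rwa [card_fin] at h1

theorem cnt_sum (S : Finset (Subgroup P)) (k : ℕ) :
    ∑ M ∈ S, cnt k M = ∑ U ∈ (Set.toFinite {U : Subgroup P | Nat.card U = k}).toFinset,
      Nat.card {M : Subgroup P // U ≤ M ∧ M ∈ S} := by
  classical
  have h1 : ∀ M : Subgroup P, cnt k M = ∑ U ∈ (Set.toFinite {U : Subgroup P | Nat.card U = k}).toFinset,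
      if U ≤ M then 1 else 0 := by
    intro M
    rw [cnt, card_fin, ← card_filter]
    congr 1
    ext U
    simp only [Set.Finite.mem_toFinset, Set.mem_ofPred_eq, mem_filter]
    tauto
  have h2 : ∀ U : Subgroup P, Nat.card {M : Subgroup P // U ≤ M ∧ M ∈ S} = ∑ M ∈ S, if U ≤ M then 1 else 0 := by
    intro U
    rw [card_fin, ← card_filter]
    congr 1
    ext M
    simp only [Set.Finite.mem_toFinset, Set.mem_ofPred_eq, mem_filter]
    tauto
  simp only [h1, h2]
  rw [sum_comm]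

theorem modEq_sum {α : Type*} (s : Finset α) (f g : α → ℕ) (n : ℕ) (h : ∀ x ∈ s, f x ≡ g x [MOD n]) :
    ∑ x ∈ s, f x ≡ ∑ x ∈ s, g x [MOD n] := by
  classical
  induction s using Finset.induction_on with
  | empty => rfl
  | insert a s ha ih =>
    rw [sum_insert ha, sum_insert ha]
    exact (h a (mem_insert_self a s)).add (ih (fun x hx => h x (mem_insert_of_mem hx)))

theorem A2 (hP : IsPGroup p P) {k : ℕ} (hk : k < Nat.card P) :
    ∑ M ∈ S1 p P, cnt k M ≡ cnt k (⊤ : Subgroup P) + p * ∑ K ∈ S2 p P, cnt k K [MOD p ^ 2] := by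
  rw [cnt_sum, cnt_sum, cnt_top, card_fin, card_eq_sum_ones, mul_sum, ← sum_add_distrib]
  apply modEq_sum
  intro U hU
  simp only [Set.Finite.mem_toFinset, Set.mem_ofPred_eq] at hU
  have hUt : U ≠ ⊤ := by
    rintro rfl
    rw [card_top] at hU
    omega
  have h1 := A1 hP hUt
  simp only [mem_S1, mem_S2]
  exact h1

theorem A3 (hP : IsPGroup p P) (hnc : ¬ IsCyclic P) {m a : ℕ} (hm : Nat.card P = p ^ m) (ha : a + 2 ≤ m) :
    ∑ M ∈ S1 p P, cnt (p ^ a) M ≡ cnt (p ^ a) (⊤ : Subgroup P) + p [MOD p ^ 2] := by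
  refine (A2 hP (by rw [hm]; exact Nat.pow_lt_pow_right hp.out.one_lt (by omega))).trans ?_
  apply Nat.ModEq.add_left
  have h1 : ∑ K ∈ S2 p P, cnt (p ^ a) K ≡ 1 [MOD p] := by
    refine (modEq_sum _ _ (fun _ => 1) _ (fun K hK => ?_)).trans ?_
    · apply cnt_modEq hp.out
      rw [mem_S2] at hK
      have h2 := card_mul_index K
      have h3 : p ^ m = p ^ (m - 2) * p ^ 2 := by rw [← pow_add]; congr 1; omega
      rw [hK.2, hm, h3] at h2
      rw [Nat.eq_of_mul_eq_mul_right (pow_pos hp.out.pos _) h2]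
      exact pow_dvd_pow _ (by omega)
    · rw [sum_const, smul_eq_mul, mul_one]
      exact card_S2 hP hnc
  have h2 := h1.mul_left' p
  rwa [mul_one, ← pow_two] at h2

theorem card_eq_of_index {m : ℕ} (hm : Nat.card P = p ^ (m + 1)) {M : Subgroup P} (hM : M.index = p) :
    Nat.card M = p ^ m := by
  have h1 := card_mul_index M
  rw [hM, hm, pow_succ] at h1
  exact Nat.eq_of_mul_eq_mul_right hp.out.pos h1

theorem index_of_card_eq {m : ℕ} (hm : Nat.card P = p ^ (m + 1)) {M : Subgroup P} (hM : Nat.card M = p ^ m) :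
    M.index = p := by
  have h1 := card_mul_index M
  rw [hM, hm, pow_succ] at h1
  exact Nat.eq_of_mul_eq_mul_left (pow_pos hp.out.pos _) h1

/-- the case of maximal subgroups -/
theorem cnt_max (hP : IsPGroup p P) (hnc : ¬ IsCyclic P) {m : ℕ} (hm : Nat.card P = p ^ (m + 1)) :
    Nat.card {A : Subgroup P // Nat.card A = p ^ m} ≡ 1 + p [MOD p ^ 2] := by
  obtain ⟨e, -, -, h1, -⟩ := Phi_index hP hnc
  rw [Nat.card_congr (Equiv.subtypeEquivRight (fun A => ⟨fun h => index_of_card_eq hm h, fun h => card_eq_of_index hm h⟩))]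
  exact h1

end Cfsg.Agent.H25.Kul
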