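import Cfsg.Agent.H25.Kul2
import Cfsg.Agent.S0645

set_option autoImplicit false
set_option linter.unusedSectionVars false
set_option linter.unusedVariables false

namespace Cfsg.Agent.H25.Kul

open Subgroup Finset
open scoped commutatorElement

universe u

variable {P : Type u} [Group P] [Finite P] {p : ℕ} [hp : Fact p.Prime]

theorem exists_npow {x g : P} (h : g ∈ zpowers x) : ∃ j : ℕ, x ^ j = g := by
  rw [← mem_powers_iff_mem_zpowers] at h
  exact h

theorem horder {y : P} {k j : ℕ} (hy : orderOf y = p ^ k) (hj : ¬ p ∣ j) : orderOf (y ^ j) = p ^ k := by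
  rw [← hy]
  apply Nat.Coprime.orderOf_pow
  rw [hy]
  exact ((Nat.Prime.coprime_iff_not_dvd hp.out).2 hj).pow_left k

theorem order_pp {y : P} {k : ℕ} (hy : orderOf y = p ^ (k + 1)) : orderOf (y ^ p) = p ^ k := by
  rw [orderOf_pow_of_dvd hp.out.pos.ne' (by rw [hy]; exact dvd_pow_self p (Nat.succ_ne_zero _)), hy, pow_succ,
    Nat.mul_div_cancel _ hp.out.pos]

theorem order_of_pow {y : P} {k : ℕ} (hP : IsPGroup p P) (hy : orderOf (y ^ p) = p ^ k) (hk : 1 ≤ k) :
    orderOf y = p ^ (k + 1) := by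
  obtain ⟨j, hj⟩ := IsPGroup.iff_orderOf.1 hP y
  rcases Nat.eq_zero_or_pos j with h | h
  · rw [h, pow_zero, orderOf_eq_one_iff] at hj
    rw [hj, one_pow, orderOf_one] at hy
    exact absurd hy (Nat.one_lt_pow (by omega) hp.out.one_lt).ne
  · obtain ⟨i, rfl⟩ : ∃ i, j = i + 1 := ⟨j - 1, by omega⟩
    rw [order_pp hj] at hy
    have := Nat.pow_right_injective hp.out.two_le hy
    rw [hj, this]

theorem cyc_count (hP : IsPGroup p P) (hnc : ¬ IsCyclic P) {m : ℕ} (hm : Nat.card P = p ^ (m + 1)) (hm2 : 2 ≤ m)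
    {x : P} (hx : orderOf x = p ^ m) (hhom : ∀ g h : P, ∃ z ∈ zpowers (x ^ (p ^ 2)), (g * h) ^ p = g ^ p * h ^ p * z) :
    Nat.card {M : Subgroup P // M.index = p ∧ IsCyclic M} + 1 = Nat.card {M : Subgroup P // M.index = p} := by
  classical
  have hp1 := hp.out.one_lt
  obtain ⟨m', rfl⟩ : ∃ m', m = m' + 2 := ⟨m - 2, by omega⟩
  have hC : Nat.card (zpowers x) = p ^ (m' + 2) := by rw [Nat.card_zpowers, hx]
  have hCi : (zpowers x).index = p := index_of_card_eq hm hC
  haveI hCn := normal_of_index hP hCi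
  have hxp : orderOf (x ^ p) = p ^ (m' + 1) := order_pp (by rw [hx])
  have hxpp : x ^ (p ^ 2) = (x ^ p) ^ p := by rw [← pow_mul, pow_two]
  have hxp2 : orderOf (x ^ (p ^ 2)) = p ^ m' := by rw [hxpp]; exact order_pp hxp
  -- p-th powers
  have hpw : ∀ g : P, ∃ j : ℕ, (x ^ p) ^ j = g ^ p := by
    intro g
    obtain ⟨j, hj⟩ := exists_npow (Phi_le hP hCi (pow_mem_Phi p g))
    by_cases hpj : p ∣ j
    · obtain ⟨i, rfl⟩ := hpj
      exact ⟨i, by rw [← pow_mul]; exact hj⟩
    · exfalso
      have h1 := horder hx hpj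
      rw [hj] at h1
      have h2 := order_of_pow hP h1 (by omega)
      apply hnc
      apply isCyclic_of_orderOf_eq_card g
      rw [h2, hm]
  set D := zpowers (x ^ (p ^ 2)) with hD
  haveI hDn : D.Normal := by
    constructor
    intro n hn g
    obtain ⟨j, rfl⟩ := exists_npow hn
    have h1 : g * x * g⁻¹ ∈ zpowers x := hCn.conj_mem x (mem_zpowers x) g
    obtain ⟨i, hi⟩ := exists_npow h1
    have h2 : ((x ^ i) ^ (p ^ 2)) ^ j = ((x ^ (p ^ 2)) ^ i) ^ j := by
      rw [pow_right_comm x i (p ^ 2)]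
    rw [← conj_pow, ← conj_pow, ← hi, h2]
    exact pow_mem (pow_mem (mem_zpowers _) _) _
  -- the homomorphism
  let φ : P →* P ⧸ D :=
    { toFun := fun g => QuotientGroup.mk (g ^ p)
      map_one' := by rw [one_pow]; rfl
      map_mul' := by
        intro g h
        obtain ⟨z, hz, h1⟩ := hhom g h
        rw [h1, QuotientGroup.mk_mul, QuotientGroup.mk_mul, (QuotientGroup.eq_one_iff z).2 hz, mul_one] }
  have hφ : ∀ g, φ g = QuotientGroup.mk (g ^ p) := fun g => rfl
  have hker : ∀ g, g ∈ φ.ker ↔ g ^ p ∈ D := by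
    intro g
    rw [MonoidHom.mem_ker, hφ, QuotientGroup.eq_one_iff]
  have hrange : φ.range = zpowers (φ x) := by
    apply le_antisymm
    · rintro _ ⟨g, rfl⟩
      obtain ⟨j, hj⟩ := hpw g
      show (QuotientGroup.mk (g ^ p) : P ⧸ D) ∈ zpowers (QuotientGroup.mk (x ^ p) : P ⧸ D)
      rw [← hj]
      exact pow_mem (mem_zpowers _) j
    · rw [zpowers_le]
      exact ⟨x, rfl⟩
  have hxD : x ^ p ∉ D := by
    intro h
    obtain ⟨j, hj⟩ := exists_npow h
    have h1 := orderOf_pow_dvd (x := x ^ (p ^ 2)) j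
    rw [hj, hxp, hxp2, Nat.pow_dvd_pow_iff_le_right hp1] at h1
    omega
  have hW : φ.ker.index = p := by
    rw [index_ker, hrange, Nat.card_zpowers]
    apply orderOf_eq_prime
    · rw [hφ, ← QuotientGroup.mk_pow, QuotientGroup.eq_one_iff, ← hxpp]
      exact mem_zpowers _
    · rw [hφ, Ne, QuotientGroup.eq_one_iff]
      exact hxD
  have hcyc : ∀ M : Subgroup P, M.index = p → (IsCyclic M ↔ M ≠ φ.ker) := by
    intro M hM
    constructor
    · rintro hMc rfl
      obtain ⟨w, hw⟩ := (Subgroup.isCyclic_iff_exists_zpowers_eq_top _).1 hMc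
      have h1 : orderOf w = p ^ (m' + 2) := by
        rw [← Nat.card_zpowers, hw]
        exact card_eq_of_index hm hM
      have h2 : orderOf (w ^ p) = p ^ (m' + 1) := order_pp h1
      have h3 : w ^ p ∈ D := (hker w).1 (hw ▸ mem_zpowers w)
      obtain ⟨j, hj⟩ := exists_npow h3
      have h4 := orderOf_pow_dvd (x := x ^ (p ^ 2)) j
      rw [hj, h2, hxp2, Nat.pow_dvd_pow_iff_le_right hp1] at h4
      omega
    · intro hne
      have h1 : ¬ M ≤ φ.ker := by
        intro hle
        apply hne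
        apply Subgroup.eq_of_le_of_card_ge hle
        rw [card_eq_of_index hm hM, card_eq_of_index hm hW]
      obtain ⟨g, hgM, hg⟩ := SetLike.not_le_iff_exists.1 h1
      obtain ⟨j, hj⟩ := hpw g
      have hpj : ¬ p ∣ j := by
        rintro ⟨i, rfl⟩
        apply hg
        rw [hker, ← hj, pow_mul, ← hxpp]
        exact pow_mem (mem_zpowers _) i
      have h2 := horder hxp hpj
      rw [hj] at h2
      have h3 := order_of_pow hP h2 (by omega)
      rw [Subgroup.isCyclic_iff_exists_zpowers_eq_top]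
      refine ⟨g, ?_⟩
      apply Subgroup.eq_of_le_of_card_ge
      · rwa [zpowers_le]
      · rw [Nat.card_zpowers, h3, card_eq_of_index hm hM]
  have h1 : Nat.card {M : Subgroup P // M.index = p} = (S1 p P).card := card_fin _
  have h2 : Nat.card {M : Subgroup P // M.index = p ∧ IsCyclic M} = ((S1 p P).erase φ.ker).card := by
    rw [card_fin]
    congr 1
    ext M
    simp only [Set.Finite.mem_toFinset, Set.mem_ofPred_eq, mem_erase, mem_S1]
    constructor
    · rintro ⟨h, h'⟩; exact ⟨(hcyc M h).1 h', h⟩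
    · rintro ⟨h, h'⟩; exact ⟨h', (hcyc M h').2 h⟩
  rw [h1, h2]
  exact card_erase_add_one (mem_S1.2 hW)

/-- nonabelian odd case: `p`-th power map is a homomorphism -/
theorem hom_of_nonab (hp2 : p ≠ 2) (hP : IsPGroup p P) {m : ℕ} (hm : Nat.card P = p ^ (m + 1)) (hm2 : 2 ≤ m)
    {C : Subgroup P} (hC : IsCyclic C) (hCi : C.index = p) (hna : ∃ x y : P, x * y ≠ y * x) :
    ∃ a : P, orderOf a = p ^ m ∧ ∀ g h : P, (g * h) ^ p = g ^ p * h ^ p := by
  obtain ⟨a, b, ha, hb, hba, hab⟩ := Cfsg.Agent.S0645.result hp2 (m + 1) (by omega) hm C hC hCi hna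
  rw [Nat.add_sub_cancel] at ha
  obtain ⟨m', rfl⟩ : ∃ m', m = m' + 2 := ⟨m - 2, by omega⟩
  have e1 : m' + 2 + 1 - 2 = m' + 1 := by omega
  rw [e1] at hab
  refine ⟨a, ha, ?_⟩
  have hai : (zpowers a).index = p := index_of_card_eq hm (by rw [Nat.card_zpowers, ha])
  have htop : ∀ T : Subgroup P, a ∈ T → b ∈ T → T = ⊤ := by
    intro T haT hbT
    have h1 : zpowers a < T := by
      refine lt_of_le_of_ne (zpowers_le.2 haT) ?_
      rintro h
      exact hba (h ▸ hbT)
    by_contra hne
    obtain ⟨M, hTM, hM⟩ := exists_above hP hne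
    have h2 : zpowers a = M := by
      apply Subgroup.eq_of_le_of_card_ge (h1.le.trans hTM)
      rw [card_eq_of_index hm hM, card_eq_of_index hm hai]
    exact absurd (h2 ▸ h1) (not_lt_of_ge hTM)
  set z := a ^ (p ^ (m' + 1)) with hz
  have hzp : z ^ p = 1 := by
    rw [hz, ← pow_mul, ← pow_succ, ← ha]
    exact pow_orderOf_eq_one a
  have hza : a * z = z * a := ((Commute.refl a).pow_right _).eq
  have hbaz : b * a * b⁻¹ = a * z := by rw [hab, pow_add, pow_one]
  have hzb : b * z * b⁻¹ = z := by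
    rw [hz, ← conj_pow, hbaz]
    rw [(show Commute a z from hza).mul_pow]
    have h1 : z ^ (p ^ (m' + 1)) = 1 := by
      rw [pow_succ', pow_mul, hzp, one_pow]
    rw [h1, mul_one]
  have hzc : ∀ g : P, g * z = z * g := by
    intro g
    have h1 : centralizer ({z} : Set P) = ⊤ := by
      apply htop
      · rw [mem_centralizer_singleton_iff]; exact hza
      · rw [mem_centralizer_singleton_iff]
        calc b * z = (b * z * b⁻¹) * b := by group
          _ = z * b := by rw [hzb]
    have h2 : g ∈ centralizer ({z} : Set P) := by rw [h1]; exact mem_top g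
    exact mem_centralizer_singleton_iff.1 h2
  haveI hzn : (zpowers z).Normal := by
    constructor
    intro n hn g
    obtain ⟨j, rfl⟩ := exists_npow hn
    rw [((show Commute g z from hzc g).pow_right j).eq, mul_inv_cancel_right]
    exact pow_mem (mem_zpowers z) j
  have hcomm : ∀ g h : P, ⁅g, h⁆ ∈ zpowers z := by
    have key : ∀ g h : P, (QuotientGroup.mk g : P ⧸ zpowers z) * QuotientGroup.mk h = QuotientGroup.mk h * QuotientGroup.mk g := by
      have hmk : ∀ g h : P, h ∈ (centralizer ({(QuotientGroup.mk g : P ⧸ zpowers z)} : Set (P ⧸ zpowers z))).comap (QuotientGroup.mk' (zpowers z)) ↔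
          (QuotientGroup.mk h : P ⧸ zpowers z) * QuotientGroup.mk g = QuotientGroup.mk g * QuotientGroup.mk h := by
        intro g h
        rw [mem_comap, mem_centralizer_singleton_iff]
        rfl
      have hab' : (QuotientGroup.mk b : P ⧸ zpowers z) * QuotientGroup.mk a = QuotientGroup.mk a * QuotientGroup.mk b := by
        have h1 : b * a = a * z * b := by rw [← hbaz]; group
        have h2 : b * a = a * b * z := by rw [h1, mul_assoc, ← hzc b, mul_assoc]
        rw [← QuotientGroup.mk_mul, h2, QuotientGroup.mk_mul, (QuotientGroup.eq_one_iff z).2 (mem_zpowers z), mul_one]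
        rfl
      have hA : ∀ h : P, (QuotientGroup.mk h : P ⧸ zpowers z) * QuotientGroup.mk a = QuotientGroup.mk a * QuotientGroup.mk h := by
        intro h
        rw [← hmk, htop _ ((hmk a a).2 rfl) ((hmk a b).2 hab')]
        exact mem_top h
      have hB : ∀ h : P, (QuotientGroup.mk h : P ⧸ zpowers z) * QuotientGroup.mk b = QuotientGroup.mk b * QuotientGroup.mk h := by
        intro h
        rw [← hmk, htop _ ((hmk b a).2 hab'.symm) ((hmk b b).2 rfl)]
        exact mem_top h
      intro g h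
      rw [← hmk, htop _ ((hmk h a).2 (hA h).symm) ((hmk h b).2 (hB h).symm)]
      exact mem_top g
    intro g h
    rw [← QuotientGroup.eq_one_iff]
    show (QuotientGroup.mk g : P ⧸ zpowers z) * QuotientGroup.mk h * (QuotientGroup.mk g)⁻¹ * (QuotientGroup.mk h)⁻¹ = 1
    rw [key g h]
    group
  intro g h
  obtain ⟨j, hj⟩ := exists_npow (hcomm h g)
  have h1 := Cfsg.Agent.H23.mul_pow_of_class_two g h (fun w => by
    rw [← hj]
    exact (show Commute z w from (hzc w).symm).pow_left j) p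
  obtain ⟨q, hq⟩ := hp.out.odd_of_ne_two hp2
  have h2 : p * (p - 1) / 2 = p * q := by
    have : p * (p - 1) = p * q * 2 := by rw [hq, Nat.add_sub_cancel]; ring
    rw [this, Nat.mul_div_cancel _ (by norm_num)]
  have h3 : (z ^ j) ^ (p * q) = 1 := by
    rw [← pow_mul, mul_left_comm, pow_mul, hzp, one_pow]
  rw [h2, ← hj, h3, mul_one] at h1
  exact h1

theorem cyc_odd (hp2 : p ≠ 2) (hP : IsPGroup p P) (hnc : ¬ IsCyclic P) {m : ℕ} (hm : Nat.card P = p ^ (m + 1))
    (hm2 : 2 ≤ m) : p ∣ Nat.card {M : Subgroup P // M.index = p ∧ IsCyclic M} := by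
  by_cases hex : ∃ C : Subgroup P, C.index = p ∧ IsCyclic C
  · obtain ⟨C, hCi, hC⟩ := hex
    have hx : ∃ a : P, orderOf a = p ^ m ∧ ∀ g h : P, (g * h) ^ p = g ^ p * h ^ p := by
      by_cases hna : ∃ x y : P, x * y ≠ y * x
      · exact hom_of_nonab hp2 hP hm hm2 hC hCi hna
      · push Not at hna
        obtain ⟨x, hx⟩ := (Subgroup.isCyclic_iff_exists_zpowers_eq_top _).1 hC
        refine ⟨x, ?_, fun g h => (show Commute g h from hna g h).mul_pow p⟩
        rw [← Nat.card_zpowers, hx]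
        exact card_eq_of_index hm hCi
    obtain ⟨a, ha, hhom⟩ := hx
    have h1 := cyc_count hP hnc hm hm2 ha (fun g h => ⟨1, one_mem _, by rw [mul_one]; exact hhom g h⟩)
    obtain ⟨e, -, -, h2, -⟩ := Phi_index hP hnc
    rw [← h1] at h2
    have h3 := h2.of_dvd (dvd_pow_self p two_ne_zero)
    rw [add_comm] at h3
    have h4 := Nat.ModEq.add_left_cancel' 1 h3
    exact (Nat.modEq_zero_iff_dvd.1 (h4.trans (Nat.modEq_zero_iff_dvd.2 dvd_rfl)))
  · haveI : IsEmpty {M : Subgroup P // M.index = p ∧ IsCyclic M} := ⟨fun M => hex ⟨M.1, M.2⟩⟩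
    rw [Nat.card_of_isEmpty]
    exact dvd_zero p

end Cfsg.Agent.H25.Kul
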