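import Cfsg.Agent.H25.Kul3
import Cfsg.Agent.H25.CSF

set_option autoImplicit false
set_option linter.unusedSectionVars false
set_option linter.unusedVariables false

namespace Cfsg.Agent.H25.Kul

open Subgroup Finset
open scoped commutatorElement

universe u

variable {p : ℕ} [hp : Fact p.Prime]

theorem eq_of_card_cyclic {α : Type*} [Group α] [Finite α] [IsCyclic α] {A B : Subgroup α}
    (h : Nat.card A = Nat.card B) : A = B := by
  classical
  haveI := Fintype.ofFinite α
  have key : ∀ A : Subgroup α, (univ.filter (fun x => x ∈ A)) = univ.filter (fun x : α => x ^ (Nat.card A) = 1) := by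
    intro A
    apply eq_of_subset_of_card_le
    · intro x hx
      simp only [mem_filter, mem_univ, true_and] at hx ⊢
      have h1 : (⟨x, hx⟩ : A) ^ Nat.card A = 1 := pow_card_eq_one'
      exact congrArg Subtype.val h1
    · refine (IsCyclic.card_pow_eq_one_le Nat.card_pos).trans ?_
      rw [← natCard_subtype]
  ext x
  have h1 := congrArg (fun s => x ∈ s) (key A)
  have h2 := congrArg (fun s => x ∈ s) (key B)
  simp only [mem_filter, mem_univ, true_and] at h1 h2
  rw [h1, h2, h]

theorem card_cyclic {α : Type*} [Group α] [Finite α] [IsCyclic α] {m a : ℕ} (hm : Nat.card α = p ^ m) (ha : a ≤ m) :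
    Nat.card {A : Subgroup α // Nat.card A = p ^ a} = 1 := by
  rw [Nat.card_eq_one_iff_unique]
  refine ⟨⟨fun A B => Subtype.ext ?_⟩, ?_⟩
  · exact eq_of_card_cyclic (A.2.trans B.2.symm)
  · obtain ⟨A, hA⟩ := Sylow.exists_subgroup_card_pow_prime (G := α) p (n := a) (by
      rw [hm]; exact pow_dvd_pow _ ha)
    exact ⟨⟨A, hA⟩⟩

/-- Kulakoff: odd `p` -/
theorem main_odd (hp2 : p ≠ 2) (m : ℕ) : ∀ (P : Type u) [Group P] [Finite P], Nat.card P = p ^ m → ¬ IsCyclic P →
    ∀ a : ℕ, 1 ≤ a → a < m → Nat.card {A : Subgroup P // Nat.card A = p ^ a} ≡ 1 + p [MOD p ^ 2] := by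
  classical
  induction m with
  | zero => intro P _ _ _ _ a h1 h2; omega
  | succ m ih =>
    intro P _ _ hm hnc a ha1 ham
    have hP : IsPGroup p P := IsPGroup.of_card hm
    rcases Nat.lt_or_ge a m with h | h
    · have h3 := A3 hP hnc hm (a := a) (by omega)
      have hc := cyc_odd hp2 hP hnc hm (by omega)
      have h4 : ∑ M ∈ S1 p P, (cnt (p ^ a) M + if IsCyclic M then p else 0) ≡ ∑ M ∈ S1 p P, (1 + p) [MOD p ^ 2] := by
        apply modEq_sum
        intro M hM
        have hMc := card_eq_of_index hm (mem_S1.1 hM)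
        split_ifs with hcy
        · apply Nat.ModEq.add_right
          rw [cnt_eq]
          rw [card_cyclic hMc h.le]
        · rw [add_zero, cnt_eq]
          exact ih M hMc hcy a ha1 h
      rw [sum_add_distrib, sum_const, smul_eq_mul, ← sum_filter, sum_const, smul_eq_mul] at h4
      have h5 : ((S1 p P).filter (fun M : Subgroup P => IsCyclic M)).card = Nat.card {M : Subgroup P // M.index = p ∧ IsCyclic M} := by
        rw [card_fin]
        congr 1
        ext M
        simp only [Set.Finite.mem_toFinset, Set.mem_ofPred_eq, mem_filter, mem_S1]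
      rw [h5] at h4
      have h6 : Nat.card {M : Subgroup P // M.index = p ∧ IsCyclic M} * p ≡ 0 [MOD p ^ 2] := by
        obtain ⟨c, hc⟩ := hc
        rw [hc]
        apply Nat.modEq_zero_iff_dvd.2
        exact ⟨c, by ring⟩
      have h7 : (S1 p P).card * (1 + p) ≡ 1 + p + p [MOD p ^ 2] := by
        refine ((card_S1 hP hnc).mul_right _).trans ?_
        have : (1 + p) * (1 + p) = 1 + p + p + p ^ 2 := by ring
        rw [this]
        exact (Nat.modEq_iff_dvd' (by omega)).2 (by rw [Nat.add_sub_cancel_left]) |>.symm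
      have h8 := (h3.add h6).symm.trans (h4.trans h7)
      rw [add_zero] at h8
      rw [← cnt_top]
      exact Nat.ModEq.add_right_cancel' p h8
    · have : a = m := by omega
      subst this
      exact cnt_max hP hnc hm

end Cfsg.Agent.H25.Kul
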