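import Mathlib
import Cfsg.Agent.H25.Metac
import Cfsg.Agent.H1.Hall

/-!
Metacyclic 2-groups with an automorphism of odd order.
-/

set_option autoImplicit false

namespace Cfsg.Agent.H25

open Subgroup
open scoped commutatorElement

/-- a `2`-group which is cyclic-by-cyclic has Frattini quotient of order at most four -/
theorem card_frattini_quotient_le_four {X : Type*} [Group X] [Finite X] (hX : IsPGroup 2 X)
    {u w : X} (h : closure {u, w} = ⊤) : Nat.card (X ⧸ frattini X) ≤ 4 := by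
  classical
  haveI : Fact (Nat.Prime 2) := ⟨Nat.prime_two⟩
  obtain ⟨e, he⟩ := IsPGroup.iff_card.1 (hX.to_quotient (frattini X))
  have h1 := (H1.burnside_basis hX (n := e) (by rw [← he]; rfl)).2 {u, w} (by simpa using h)
  have h2 : ({u, w} : Finset X).card ≤ 2 := Finset.card_le_two
  rw [he]
  calc 2 ^ e ≤ 2 ^ 2 := Nat.pow_le_pow_right (by norm_num) (h1.trans h2)
    _ = 4 := by norm_num

theorem closure_of_metacyclic {X : Type*} [Group X] (L : Subgroup X) [L.Normal]
    {u : X} (hL : zpowers u = L) (hq : IsCyclic (X ⧸ L)) : ∃ w : X, closure {u, w} = ⊤ := by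
  obtain ⟨w, hw⟩ := hq.exists_generator
  obtain ⟨w, rfl⟩ := QuotientGroup.mk'_surjective L w
  refine ⟨w, ?_⟩
  rw [eq_top_iff]
  intro x _
  obtain ⟨j, hj⟩ := hw (QuotientGroup.mk' L x)
  have h1 : (QuotientGroup.mk' L) (w ^ j) = QuotientGroup.mk' L x := by rw [map_zpow]; exact hj
  have h2 : (w ^ j)⁻¹ * x ∈ L := QuotientGroup.eq.mp h1
  rw [← hL] at h2
  have h3 : x = w ^ j * ((w ^ j)⁻¹ * x) := by group
  rw [h3]
  refine mul_mem (zpow_mem (subset_closure (by simp)) j) ?_
  exact (zpowers_le.mpr (subset_closure (by simp) : u ∈ closure {u, w})) h2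

theorem metac_core {X : Type*} [Group X] [Finite X] (hX : IsPGroup 2 X) (L : Subgroup X) [L.Normal]
    (hL : IsCyclic L) (hq : IsCyclic (X ⧸ L)) (σ : MulAut X) (hσ : Odd (orderOf σ)) (hσ1 : σ ≠ 1) :
    Nat.card (X ⧸ frattini X) ≤ 4 ∧ ∃ u : X, zpowers u = L ∧ u ∉ frattini X ∧
    (((∀ x y : X, x * y = y * x) ∧ zpowers u ⊓ zpowers (σ u) = ⊥ ∧ zpowers u ⊔ zpowers (σ u) = ⊤) ∨
      (Nat.card X = 8 ∧ orderOf u = 4 ∧ (σ u) ^ 2 = u ^ 2 ∧ σ u * u * (σ u)⁻¹ = u⁻¹)) := by
  classical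
  haveI : Fact (Nat.Prime 2) := ⟨Nat.prime_two⟩
  obtain ⟨u, hu⟩ := (Subgroup.isCyclic_iff_exists_zpowers_eq_top L).mp hL
  have hFn : (frattini X).Normal := inferInstance
  obtain ⟨w, huw⟩ := closure_of_metacyclic L hu hq
  have hV := card_frattini_quotient_le_four hX huw
  have hfree := frattini_free hX hV σ hσ hσ1
  refine ⟨hV, u, hu, ?_⟩
  let π := QuotientGroup.mk' (frattini X)
  have hπ1 : ∀ a : X, π a = 1 ↔ a ∈ frattini X := fun a => QuotientGroup.eq_one_iff a
  have hπe : ∀ a b : X, π a = π b ↔ a⁻¹ * b ∈ frattini X := fun a b => QuotientGroup.eq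
  have hsq : ∀ a : X ⧸ frattini X, a * a = 1 := by
    intro a
    obtain ⟨a, rfl⟩ := QuotientGroup.mk'_surjective _ a
    have h1 := H2.pow_mem_frattini hX a
    rw [pow_two] at h1
    rw [← map_mul]
    exact (QuotientGroup.eq_one_iff _).mpr h1
  have hFσ : ∀ (τ : MulAut X) (x : X), x ∈ frattini X ↔ τ x ∈ frattini X := by
    have h0 : ∀ (τ : MulAut X) (x : X), x ∈ frattini X → τ x ∈ frattini X := by
      intro τ x hx
      have hFc : (frattini X).Characteristic := inferInstance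
      have h1 := Subgroup.characteristic_iff_map_eq.mp hFc τ
      rw [← h1]; exact ⟨x, hx, rfl⟩
    intro τ x
    refine ⟨h0 τ x, fun h => ?_⟩
    have h5 := h0 τ⁻¹ _ h
    have h6 : τ⁻¹ (τ x) = x := by rw [← MulAut.mul_apply, inv_mul_cancel]; rfl
    rwa [h6] at h5
  -- u is not in the Frattini subgroup
  obtain ⟨x0, hx0⟩ : ∃ x, x ∉ frattini X := by
    by_contra h
    push Not at h
    exact hσ1 (aut_eq_one_of_frattini hX (p := 2) σ (Nat.coprime_comm.mp (Nat.coprime_two_left.mpr hσ))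
      (fun x => h _))
  have huF : u ∉ frattini X := by
    intro huF
    have h1 : zpowers w ⊔ frattini X = ⊤ := by
      rw [eq_top_iff, ← huw, closure_le]
      rintro y (rfl | rfl)
      · exact mem_sup_right huF
      · exact mem_sup_left (mem_zpowers y)
    have h2 := H2.eq_top_of_sup_frattini h1
    -- every element is a power of w, so modulo Φ there are at most two classes
    have h3 : ∀ x : X, x ∉ frattini X → π x = π w := by
      intro x hx
      have h4 : x ∈ zpowers w := by rw [h2]; exact mem_top x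
      obtain ⟨i, rfl⟩ := h4
      rcases Int.even_or_odd' i with ⟨k, hk | hk⟩
      · exfalso
        apply hx
        rw [← hπ1]
        show π (w ^ i) = 1
        rw [hk, zpow_mul, map_zpow, zpow_ofNat, pow_two, map_mul, hsq, one_zpow]
      · show π (w ^ i) = π w
        rw [hk, zpow_add, zpow_mul, zpow_one, map_mul, map_zpow, zpow_ofNat, pow_two, map_mul, hsq,
          one_zpow, one_mul]
    apply hfree x0 hx0
    rw [← hπe, h3 x0 hx0, h3 _ (fun h => hx0 ((hFσ σ x0).mpr h))]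
  refine ⟨huF, ?_⟩
  set s : X := σ u with hs
  set t : X := σ s with ht
  have hsF : s ∉ frattini X := fun h => huF ((hFσ σ u).mpr h)
  have htF : t ∉ frattini X := fun h => hsF ((hFσ σ s).mpr h)
  have hus : π s ≠ π u := fun h => hfree u huF ((hπe u s).mp h.symm)
  have hst : π t ≠ π s := fun h => hfree s hsF ((hπe s t).mp h.symm)
  have hut : π t ≠ π u := by
    have ho2 : orderOf (σ ^ 2) = orderOf σ := Nat.Coprime.orderOf_pow (Nat.coprime_comm.mp
      (Nat.coprime_two_left.mpr hσ))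
    have h1 := frattini_free hX hV (σ ^ 2) (by rw [ho2]; exact hσ) (by
      intro h
      rw [h, orderOf_one] at ho2
      exact hσ1 (orderOf_eq_one_iff.mp ho2.symm)) u huF
    exact fun h => h1 ((hπe u t).mp h.symm)
  have hπu : π u ≠ 1 := fun h => huF ((hπ1 u).mp h)
  have hπs : π s ≠ 1 := fun h => hsF ((hπ1 s).mp h)
  -- generation
  haveI hun : (zpowers u).Normal := by rw [hu]; infer_instance
  have hmap : (zpowers u).map σ.toMonoidHom = zpowers s := by
    rw [MonoidHom.map_zpowers]; rfl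
  haveI hsn : (zpowers s).Normal := by
    rw [← hmap]
    exact Subgroup.Normal.map hun _ σ.surjective
  have hgen : zpowers u ⊔ zpowers s = ⊤ := by
    apply H2.eq_top_of_sup_frattini
    rw [eq_top_iff]
    intro x _
    have h0 : ∀ z : X, z ∈ zpowers u ⊔ zpowers s → π x = π z → x ∈ zpowers u ⊔ zpowers s ⊔ frattini X := by
      intro z hz h
      have h1 : x = z * (z⁻¹ * x) := by group
      rw [h1]
      exact mul_mem (mem_sup_left hz) (mem_sup_right ((hπe z x).mp h.symm))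
    rcases mem_four hV hsq hπu hπs hus (π x) with h | h | h | h
    · exact h0 1 (one_mem _) (by rw [h, map_one])
    · exact h0 u (mem_sup_left (mem_zpowers u)) h
    · exact h0 s (mem_sup_right (mem_zpowers s)) h
    · exact h0 (u * s) (mul_mem (mem_sup_left (mem_zpowers u)) (mem_sup_right (mem_zpowers s)))
        (by rw [h, map_mul])
  have hform : ∀ x : X, ∃ i j : ℤ, x = u ^ i * s ^ j := by
    intro x
    have h1 : x ∈ zpowers u ⊔ zpowers s := by rw [hgen]; exact mem_top x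
    obtain ⟨_, ⟨i, rfl⟩, _, ⟨j, rfl⟩, h2⟩ := mem_sup_of_normal_left.mp h1
    exact ⟨i, j, h2.symm⟩
  -- commutators
  set Z : Subgroup X := zpowers u ⊓ zpowers s with hZ
  have hcommu : ∀ x y : X, ⁅x, y⁆ ∈ zpowers u := by
    intro x y
    rw [hu]
    haveI : IsMulCommutative (X ⧸ L) := by
      obtain ⟨g, hg⟩ := hq.exists_generator
      refine ⟨⟨fun a b => ?_⟩⟩
      obtain ⟨i, rfl⟩ := hg a
      obtain ⟨j, rfl⟩ := hg b
      exact (Commute.refl g).zpow_zpow i j
    have h1 : QuotientGroup.mk' L ⁅x, y⁆ = 1 := by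
      rw [map_commutatorElement, commutatorElement_eq_one_iff_mul_comm]
      exact this.is_comm.comm _ _
    exact (QuotientGroup.eq_one_iff _).mp h1
  have hcomm : ∀ x y : X, ⁅x, y⁆ ∈ Z := by
    intro x y
    refine ⟨hcommu x y, ?_⟩
    obtain ⟨x', hx'⟩ := σ.surjective x
    obtain ⟨y', hy'⟩ := σ.surjective y
    rw [← hmap]
    refine ⟨⁅x', y'⁆, hcommu x' y', ?_⟩
    show σ ⁅x', y'⁆ = ⁅x, y⁆
    rw [map_commutatorElement, hx', hy']
  have hZc : ∀ z ∈ Z, ∀ x : X, Commute z x := by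
    intro z hz x
    obtain ⟨i, j, rfl⟩ := hform x
    obtain ⟨⟨a, ha⟩, ⟨b, hb⟩⟩ := hz
    apply Commute.mul_right
    · have : z = u ^ a := ha.symm
      rw [this]; exact (Commute.refl u).zpow_zpow a i
    · have : z = s ^ b := hb.symm
      rw [this]; exact (Commute.refl s).zpow_zpow b j
  by_cases hZ1 : Z = ⊥
  · left
    refine ⟨?_, hZ1, hgen⟩
    intro x y
    have h1 := hcomm x y
    rw [hZ1, mem_bot, commutatorElement_eq_one_iff_mul_comm] at h1
    exact h1
  right
  -- orders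
  have hos : orderOf s = orderOf u := by rw [hs]; exact MulEquiv.orderOf_eq σ u
  have hot : orderOf t = orderOf u := by rw [ht, ← hos]; exact MulEquiv.orderOf_eq σ s
  set n := orderOf u with hn
  set d := Nat.card Z with hd
  have hdn : d ∣ n := by
    rw [hd, hn, ← Nat.card_zpowers]
    exact Subgroup.card_dvd_of_le inf_le_left
  obtain ⟨M, hM⟩ := hdn
  have hnpos : 0 < n := orderOf_pos u
  have hdpos : 0 < d := Nat.card_pos
  have hMpos : 0 < M := by
    rcases Nat.eq_zero_or_pos M with h | h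
    · rw [h, mul_zero] at hM; omega
    · exact h
  have hZgen : ∀ v : X, orderOf v = n → Z ≤ zpowers v → zpowers (v ^ M) = Z := by
    intro v hv hle
    have h1 : (zpowers (v ^ M)).subgroupOf (zpowers v) = Z.subgroupOf (zpowers v) := by
      apply H2.eq_of_card_eq_of_isCyclic
      have h2 : zpowers (v ^ M) ≤ zpowers v := zpowers_le.mpr (pow_mem (mem_zpowers v) M)
      rw [Nat.card_congr (subgroupOfEquivOfLe h2).toEquiv, Nat.card_congr (subgroupOfEquivOfLe hle).toEquiv,
        Nat.card_zpowers, orderOf_pow, hv, hM, Nat.gcd_eq_right (Dvd.intro_left d rfl),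
        Nat.mul_div_cancel _ hMpos]
    have h2 : zpowers (v ^ M) ≤ zpowers v := zpowers_le.mpr (pow_mem (mem_zpowers v) M)
    have h3 := congrArg (Subgroup.map (zpowers v).subtype) h1
    rwa [subgroupOf_map_subtype, subgroupOf_map_subtype, inf_of_le_left h2, inf_of_le_left hle] at h3
  set c := u ^ M with hc
  have hcZ : zpowers c = Z := hZgen u rfl inf_le_left
  have hsZ : zpowers (s ^ M) = Z := hZgen s hos inf_le_right
  have hoc : orderOf c = d := by rw [← Nat.card_zpowers, hcZ]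
  -- d is even
  have hZp : IsPGroup 2 Z := hX.to_subgroup Z
  have hd2 : 2 ∣ d := by
    rcases hZp.card_eq_or_dvd with h | h
    · exact absurd (card_eq_one.mp h) hZ1
    · exact h
  obtain ⟨i, j, htij⟩ := hform t
  -- parity of i and j
  have hπpow : ∀ (v : X) (k : ℤ), (Even k → π (v ^ k) = 1) ∧ (Odd k → π (v ^ k) = π v) := by
    intro v k
    constructor
    · rintro ⟨l, rfl⟩
      rw [zpow_add, map_mul, hsq]
    · rintro ⟨l, rfl⟩
      rw [zpow_add, zpow_mul, zpow_one, map_mul, map_zpow, zpow_ofNat, pow_two, map_mul, hsq,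
        one_zpow, one_mul]
  have hi : Odd i := by
    by_contra hi
    rw [Int.not_odd_iff_even] at hi
    rcases Int.even_or_odd j with hj | hj
    · apply htF
      rw [← hπ1, htij, map_mul, (hπpow u i).1 hi, (hπpow s j).1 hj, one_mul]
    · apply hst
      rw [htij, map_mul, (hπpow u i).1 hi, (hπpow s j).2 hj, one_mul]
  have hj : Odd j := by
    by_contra hj
    rw [Int.not_odd_iff_even] at hj
    apply hut
    rw [htij, map_mul, (hπpow u i).2 hi, (hπpow s j).1 hj, mul_one]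
  -- exponents
  have hgenodd : ∀ z : X, zpowers z = Z → ∃ k : ℤ, Odd k ∧ z = c ^ k := by
    intro z hz
    have h1 : z ∈ zpowers c := by rw [hcZ, ← hz]; exact mem_zpowers z
    obtain ⟨k, hk⟩ := h1
    refine ⟨k, ?_, hk.symm⟩
    by_contra hk'
    rw [Int.not_odd_iff_even] at hk'
    obtain ⟨l, rfl⟩ := hk'
    have h2 : c ∈ zpowers z := by rw [hz, ← hcZ]; exact mem_zpowers c
    obtain ⟨r, hr⟩ := h2
    have hr' : z ^ r = c := hr
    have hk'' : c ^ (l + l) = z := hk
    rw [← hk'', ← zpow_mul] at hr'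
    have h3 : c ^ ((l + l) * r) = c ^ (1 : ℤ) := by rw [hr', zpow_one]
    rw [zpow_eq_zpow_iff_modEq, hoc] at h3
    have h4 : (l + l) * r ≡ 1 [ZMOD 2] := h3.of_dvd (by exact_mod_cast hd2)
    have h5 : (2 : ℤ) ∣ (l + l) * r := ⟨l * r, by ring⟩
    have h6 := (Int.modEq_iff_dvd.mp h4)
    omega
  obtain ⟨β, hβ, hβs⟩ := hgenodd _ hsZ
  set e0 := ⁅s ^ j, u ^ i⁆ with he0
  have he0Z : e0 ∈ Z := hcomm _ _
  have htM : t ^ M = u ^ (i * M) * s ^ (j * M) * e0 ^ (M * (M - 1) / 2) := by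
    rw [htij, H23.mul_pow_of_class_two (u ^ i) (s ^ j) (fun z => hZc _ (hcomm _ _) z) M,
      ← zpow_natCast (u ^ i), ← zpow_natCast (s ^ j), ← zpow_mul, ← zpow_mul]
  have h7 : u ^ (i * (M : ℤ)) = c ^ i := by
    rw [hc, mul_comm, zpow_mul, zpow_natCast]
  have h8 : s ^ (j * (M : ℤ)) = c ^ (β * j) := by
    rw [mul_comm, zpow_mul, zpow_natCast, hβs, ← zpow_mul]
  obtain ⟨ε, hε⟩ : ∃ ε : ℤ, e0 = c ^ ε := by
    have h1 : e0 ∈ zpowers c := by rw [hcZ]; exact he0Z
    obtain ⟨ε, h2⟩ := h1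
    exact ⟨ε, h2.symm⟩
  have htZ : zpowers (t ^ M) = Z := by
    have h1 : zpowers (t ^ M) ≤ Z := by
      rw [zpowers_le, htM, h7, h8, hε, ← zpow_natCast, ← zpow_mul, ← hcZ]
      exact mul_mem (mul_mem (zpow_mem (mem_zpowers c) _) (zpow_mem (mem_zpowers c) _))
        (zpow_mem (mem_zpowers c) _)
    apply Subgroup.eq_of_le_of_card_ge h1
    rw [Nat.card_zpowers, orderOf_pow, hot, hM, Nat.gcd_eq_right (Dvd.intro_left d rfl),
        Nat.mul_div_cancel _ hMpos]
  obtain ⟨γ, hγ, hγt⟩ := hgenodd _ htZ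
  have hpar : c ^ γ = c ^ (i + β * j + ε * (M * (M - 1) / 2 : ℕ)) := by
    rw [← hγt, htM, h7, h8, hε, ← zpow_natCast, ← zpow_mul, ← zpow_add, ← zpow_add]
  rw [zpow_eq_zpow_iff_modEq, hoc] at hpar
  have hpar2 : γ ≡ i + β * j + ε * (M * (M - 1) / 2 : ℕ) [ZMOD 2] := hpar.of_dvd (by exact_mod_cast hd2)
  have hodd : Odd (ε * ((M * (M - 1) / 2 : ℕ) : ℤ)) := by
    obtain ⟨a1, rfl⟩ := hi
    obtain ⟨a2, rfl⟩ := hj
    obtain ⟨a3, rfl⟩ := hβ
    obtain ⟨a4, rfl⟩ := hγ
    rw [Int.modEq_iff_dvd] at hpar2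
    obtain ⟨q, hq'⟩ := hpar2
    refine ⟨q + a4 - a1 - 2 * a3 * a2 - a3 - a2 - 1, ?_⟩
    linear_combination hq'
  rw [Int.odd_mul] at hodd
  obtain ⟨hεo, hMo⟩ := hodd
  have hM2 : M = 2 := by
    have hMn : M ∣ n := Dvd.intro_left d hM.symm
    obtain ⟨k, hk⟩ := hX.exists_card_eq
    have h1 : M ∣ 2 ^ k := by
      rw [← hk]
      exact hMn.trans (orderOf_dvd_natCard u)
    obtain ⟨l, -, hl⟩ := (Nat.dvd_prime_pow Nat.prime_two).mp h1
    rw [hl] at hMo ⊢
    rcases l with _ | _ | l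
    · simp at hMo
    · rfl
    · exfalso
      have h3 : 2 ^ (l + 2) * (2 ^ (l + 2) - 1) / 2 = 2 * (2 ^ l * (2 ^ (l + 2) - 1)) := by
        have : 2 ^ (l + 2) * (2 ^ (l + 2) - 1) = 2 * (2 * (2 ^ l * (2 ^ (l + 2) - 1))) := by
          have h5 : 2 ^ (l + 2) = 2 * (2 * 2 ^ l) := by ring
          rw [h5]
          generalize (2 * (2 * 2 ^ l) - 1) = K
          ring
        rw [this, Nat.mul_div_cancel_left _ (by norm_num)]
      rw [show l + 1 + 1 = l + 2 from rfl, h3] at hMo
      rw [Nat.cast_mul] at hMo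
      rw [Int.odd_mul] at hMo
      exact absurd hMo.1 (by decide)
  -- e0^2 = 1
  have hu2Z : u ^ 2 ∈ Z := by
    rw [← hcZ, hc, hM2]; exact mem_zpowers _
  have he02 : e0 ^ 2 = 1 := by
    have h1 : Commute (u ^ 2) (s ^ j) := hZc _ hu2Z _
    have h2 : Commute ((u ^ i) ^ 2) (s ^ j) := by
      have : (u ^ i) ^ 2 = (u ^ 2) ^ i := by
        rw [← zpow_natCast, ← zpow_mul, mul_comm, zpow_mul, zpow_natCast]
      rw [this]; exact h1.zpow_left i
    have h3 : Commute e0 (u ^ i) := hZc _ he0Z _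
    -- s^j u^i s^-j = e0 u^i
    have h4 : s ^ j * u ^ i * (s ^ j)⁻¹ = e0 * u ^ i := by
      rw [he0, commutatorElement_def]; group
    have h5 : s ^ j * (u ^ i) ^ 2 * (s ^ j)⁻¹ = e0 ^ 2 * (u ^ i) ^ 2 := by
      rw [← conj_pow, h4, h3.mul_pow]
    rw [← h2.eq, mul_inv_cancel_right] at h5
    exact (mul_eq_right.mp h5.symm)
  have hd2' : d = 2 := by
    have h1 : c ^ (ε * 2) = 1 := by rw [zpow_mul, ← hε]; exact_mod_cast he02
    have h2 : (d : ℤ) ∣ ε * 2 := by rw [← hoc]; exact orderOf_dvd_iff_zpow_eq_one.mpr h1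
    obtain ⟨k, hk⟩ := hZp.exists_card_eq
    have h3 : (d : ℤ) ∣ 2 := by
      apply IsCoprime.dvd_of_dvd_mul_left _ h2
      rw [hd, hk]
      push_cast
      apply IsCoprime.pow_left
      obtain ⟨l, rfl⟩ := hεo
      exact ⟨-l, 1, by ring⟩
    have h4 : d ∣ 2 := by exact_mod_cast h3
    exact le_antisymm (Nat.le_of_dvd (by norm_num) h4) (Nat.le_of_dvd hdpos hd2)
  have hn4 : n = 4 := by rw [hM, hd2', hM2]
  have hcard : Nat.card X = 8 := by
    have h1 := H1.card_sup_mul_card_inf_of_le_normalizer (H := zpowers u) (K := zpowers s)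
      (by rw [normalizer_eq_top]; exact le_top)
    rw [hgen, card_top, ← hZ, ← hd, hd2', Nat.card_zpowers, Nat.card_zpowers, hos, ← hn, hn4] at h1
    omega
  refine ⟨hcard, hn4, ?_, ?_⟩
  · have h1 : s ^ 2 = c ^ β := by rw [← hβs, hM2]
    obtain ⟨l, rfl⟩ := hβ
    rw [h1, zpow_add, zpow_mul, zpow_one]
    have h2 : c ^ (2 : ℤ) = 1 := by
      have := pow_orderOf_eq_one c
      rw [hoc, hd2'] at this
      exact_mod_cast this
    rw [h2, one_zpow, one_mul, hc, hM2]
  · have h1 : s * u * s⁻¹ ∈ zpowers u := hun.conj_mem u (mem_zpowers u) s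
    have hne : s * u * s⁻¹ ≠ u := by
      intro h
      have h2 : Commute s u := by
        have : s * u = u * s := by
          calc s * u = (s * u * s⁻¹) * s := by group
            _ = u * s := by rw [h]
        exact this
      have h3 : e0 = 1 := by
        rw [he0, commutatorElement_eq_one_iff_commute]
        exact h2.zpow_zpow j i
      rw [h3] at hε
      have h4 : (d : ℤ) ∣ ε := by rw [← hoc]; exact orderOf_dvd_iff_zpow_eq_one.mpr hε.symm
      rw [hd2'] at h4
      obtain ⟨l, rfl⟩ := hεo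
      push_cast at h4
      omega
    obtain ⟨k, hk⟩ := h1
    have hk' : u ^ k = s * u * s⁻¹ := hk
    have hu4 : u ^ (4 : ℤ) = 1 := by
      have := pow_orderOf_eq_one u
      rw [← hn, hn4] at this
      exact_mod_cast this
    have hk2 : u ^ (k % 4) = s * u * s⁻¹ := by
      rw [← hk', ← Int.emod_add_mul_ediv k 4, zpow_add, zpow_mul, hu4, one_zpow, mul_one]
      simp
    have ho : orderOf (s * u * s⁻¹) = 4 := by
      rw [← hn4, hn]
      exact MulEquiv.orderOf_eq (MulAut.conj s) u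
    have h5 : k % 4 = 0 ∨ k % 4 = 1 ∨ k % 4 = 2 ∨ k % 4 = 3 := by omega
    rw [← hk2]
    rcases h5 with h | h | h | h
    · rw [h, zpow_zero] at hk2
      rw [← hk2, orderOf_one] at ho
      omega
    · rw [h, zpow_one] at hk2
      exact absurd hk2.symm hne
    · rw [h] at hk2
      have h6 : (s * u * s⁻¹) ^ 2 = 1 := by
        rw [← hk2, ← zpow_natCast, ← zpow_mul]
        exact hu4
      have h7 := orderOf_dvd_of_pow_eq_one h6
      rw [ho] at h7
      omega
    · rw [h]
      apply eq_inv_of_mul_eq_one_left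
      rw [← zpow_add_one]
      exact hu4

end Cfsg.Agent.H25
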