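import Mathlib
import Cfsg.Agent.H25.Metac2
import Cfsg.Agent.H4.FusHom
import Cfsg.Agent.H2.Fusion
import Cfsg.Agent.H1.Coprime2

/-!
Sylow 2-subgroups with a cyclic normal subgroup and a cyclic quotient of order greater than two.
-/

set_option autoImplicit false

namespace Cfsg.Agent.H25

open Subgroup
open scoped commutatorElement

/-- without a normal complement, some fully normalized centric subgroup has a large automizer -/
theorem exists_bad_of_not_npc {G : Type*} [Group G] [Finite G] {p : ℕ} [hp : Fact p.Prime] (S : Sylow p G)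
    (h : ¬ Cfsg.HasNormalPComplement p G) : ∃ X : Subgroup G, X ≤ (S : Subgroup G) ∧
      (S : Subgroup G) ⊓ centralizer (X : Set G) ≤ X ∧ H14.FN p (S : Subgroup G) X ∧
      ∀ k : ℕ, ¬ (centralizer (X : Set G)).relIndex (normalizer (X : Set G)) ∣ p ^ k := by
  by_contra hcon
  push Not at hcon
  apply h
  apply H2.hasNormalPComplement_of_control S
  intro x hx u hu
  have key := H4.fusion_rel S (fun a b => ∃ n ∈ (S : Subgroup G), n * a * n⁻¹ = b)
    (fun a => ⟨1, one_mem _, by group⟩)
    (by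
      rintro a b c ⟨n, hn, rfl⟩ ⟨m, hm, rfl⟩
      exact ⟨m * n, mul_mem hm hn, by group⟩)
    (fun s hs a _ => ⟨s, hs, rfl⟩)
    (by
      intro X hXS hXC hFN hbad
      obtain ⟨k, hk⟩ := hcon X hXS hXC hFN
      exact absurd hk (hbad k))
    hx hu
  exact key

/-- an internal direct product of two cyclic groups of the same order -/
theorem nonempty_equiv_of_split {X : Type*} [Group X] [Finite X] (hc : ∀ x y : X, x * y = y * x)
    {u s : X} {m : ℕ} (hu : orderOf u = m) (hs : orderOf s = m) (hinf : zpowers u ⊓ zpowers s = ⊥)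
    (hsup : zpowers u ⊔ zpowers s = ⊤) :
    Nonempty (X ≃* Multiplicative (ZMod m) × Multiplicative (ZMod m)) := by
  have hcu : Nat.card (zpowers u) = m := by rw [Nat.card_zpowers, hu]
  have hcs : Nat.card (zpowers s) = m := by rw [Nat.card_zpowers, hs]
  let f : zpowers u × zpowers s →* X :=
    { toFun := fun a => a.1 * a.2
      map_one' := by simp
      map_mul' := by
        intro a b
        show (a.1 * b.1 : X) * (a.2 * b.2) = (a.1 * a.2) * (b.1 * b.2)
        rw [mul_assoc, mul_assoc, ← mul_assoc (b.1 : X), hc b.1 a.2, mul_assoc] }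
  have hinj : Function.Injective f := by
    rw [injective_iff_map_eq_one]
    rintro ⟨a, b⟩ h
    have h1 : (a : X) * b = 1 := h
    have h2 : (a : X) = (b : X)⁻¹ := mul_eq_one_iff_eq_inv.mp h1
    have h3 : (a : X) ∈ zpowers u ⊓ zpowers s := ⟨a.2, by rw [h2]; exact (zpowers s).inv_mem b.2⟩
    rw [hinf, mem_bot] at h3
    have h4 : (b : X) = 1 := by rw [h3, one_mul] at h1; exact h1
    exact Prod.ext (Subtype.ext h3) (Subtype.ext h4)
  have hsurj : Function.Surjective f := by
    intro x
    have h1 : x ∈ zpowers u ⊔ zpowers s := by rw [hsup]; exact mem_top x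
    haveI : (zpowers u).Normal := ⟨fun n hn g => by rw [hc g n, mul_inv_cancel_right]; exact hn⟩
    obtain ⟨a, ha, b, hb, h2⟩ := mem_sup_of_normal_left.mp h1
    exact ⟨(⟨a, ha⟩, ⟨b, hb⟩), h2⟩
  have e1 : (zpowers u × zpowers s) ≃* X := MulEquiv.ofBijective f ⟨hinj, hsurj⟩
  have e2 : Multiplicative (ZMod m) ≃* zpowers u := by
    have := zmodCyclicMulEquiv (G := zpowers u) inferInstance
    rwa [hcu] at this
  have e3 : Multiplicative (ZMod m) ≃* zpowers s := by
    have := zmodCyclicMulEquiv (G := zpowers s) inferInstance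
    rwa [hcs] at this
  exact ⟨e1.symm.trans (MulEquiv.prodCongr e2.symm e3.symm)⟩

/-- comparison of cyclic subgroups of a cyclic `2`-group -/
theorem cyclic_mem_of_dvd {C : Type*} [Group C] [Finite C] [IsCyclic C] {x y : C}
    (h : orderOf x ∣ orderOf y) : x ∈ zpowers y := by
  obtain ⟨r, hr⟩ := h
  have hy : 0 < orderOf y := orderOf_pos y
  have hr0 : 0 < r := by
    rcases Nat.eq_zero_or_pos r with h1 | h1
    · rw [h1, mul_zero] at hr; omega
    · exact h1
  have h1 : orderOf (y ^ r) = orderOf x := by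
    rw [orderOf_pow, hr, Nat.gcd_eq_right (Dvd.intro_left _ rfl), Nat.mul_div_cancel _ hr0]
  have h2 := H2.zpowers_eq_of_orderOf_eq h1
  have h3 : zpowers (y ^ r) ≤ zpowers y := zpowers_le.mpr (pow_mem (mem_zpowers y) r)
  exact h3 (by rw [h2]; exact mem_zpowers x)

theorem cyclic_two_compare {C : Type*} [Group C] [Finite C] [IsCyclic C] (hC : IsPGroup 2 C) (a b : C) :
    a ∈ zpowers (b ^ 2) ∨ b ∈ zpowers a := by
  haveI : Fact (Nat.Prime 2) := ⟨Nat.prime_two⟩
  obtain ⟨i, hi⟩ := IsPGroup.iff_orderOf.mp hC a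
  obtain ⟨j, hj⟩ := IsPGroup.iff_orderOf.mp hC b
  by_cases hij : j ≤ i
  · right
    exact cyclic_mem_of_dvd (by rw [hi, hj]; exact pow_dvd_pow 2 hij)
  · left
    apply cyclic_mem_of_dvd
    have h1 : orderOf (b ^ 2) = 2 ^ (j - 1) := by
      obtain ⟨l, rfl⟩ : ∃ l, j = l + 1 := ⟨j - 1, by omega⟩
      rw [orderOf_pow, hj, pow_succ, Nat.gcd_eq_right (Dvd.intro_left _ rfl),
        Nat.mul_div_cancel _ (by norm_num)]
      rfl
    rw [hi, h1]
    exact pow_dvd_pow 2 (by omega)

end Cfsg.Agent.H25
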