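import Mathlib
import Cfsg.Agent.H25.Metac3
import Cfsg.Agent.H24.AutFrat

/-!
Sylow 2-subgroups with a cyclic normal subgroup and a cyclic quotient of order greater than two.
-/

set_option autoImplicit false

namespace Cfsg.Agent.H25

open Subgroup
open scoped commutatorElement

/-- an element of odd order of the normalizer outside the centralizer -/
theorem exists_odd_of_bad {G : Type*} [Group G] [Finite G] {X : Subgroup G}
    (h : ∀ k : ℕ, ¬ (centralizer (X : Set G)).relIndex (normalizer (X : Set G)) ∣ 2 ^ k) :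
    ∃ τ ∈ normalizer (X : Set G), Odd (orderOf τ) ∧ τ ∉ centralizer (X : Set G) := by
  classical
  haveI : Fact (Nat.Prime 2) := ⟨Nat.prime_two⟩
  set N := normalizer (X : Set G) with hN
  set C := centralizer (X : Set G) with hC
  by_contra hcon
  push Not at hcon
  haveI hCn : (C.subgroupOf N).Normal := by rw [hC, hN]; infer_instance
  have hp : IsPGroup 2 (N ⧸ C.subgroupOf N) := by
    intro x
    obtain ⟨x, rfl⟩ := QuotientGroup.mk'_surjective _ x
    obtain ⟨k, m, hm, hkm⟩ := Nat.exists_eq_two_pow_mul_odd (n := orderOf (x : G)) (orderOf_pos _).ne'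
    refine ⟨k, ?_⟩
    rw [← map_pow]
    apply (QuotientGroup.eq_one_iff _).mpr
    rw [mem_subgroupOf]
    have h1 : orderOf ((x : G) ^ 2 ^ k) = m := by
      rw [orderOf_pow, hkm, Nat.gcd_eq_right (Dvd.intro _ rfl), Nat.mul_div_cancel_left _ (by positivity)]
    exact hcon _ (pow_mem x.2 _) (by show Odd (orderOf ((x : G) ^ 2 ^ k)); rw [h1]; exact hm)
  obtain ⟨k, hk⟩ := hp.exists_card_eq
  exact h k (by rw [← hk]; rfl)

section cyc

variable {G : Type*} [Group G] [Finite G] {S : Subgroup G} {N : Subgroup G}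

theorem cyc_F2 (hNc : IsCyclic N) (hn : S ≤ normalizer (N : Set G)) {g v : G} (hg : g ∈ S) (hv : v ∈ N)
    (hv4 : v ^ 4 = 1) : Commute (g ^ 2) v := by
  have hgv : g * v * g⁻¹ ∈ N := (mem_normalizer_iff.mp (hn hg) v).mp hv
  have ho : orderOf (g * v * g⁻¹) = orderOf v := MulEquiv.orderOf_eq (MulAut.conj g) v
  have h1 := H2.zpowers_eq_of_orderOf_eq (G := N) (x := ⟨g * v * g⁻¹, hgv⟩) (y := ⟨v, hv⟩)
    (by rw [orderOf_mk, orderOf_mk, ho])
  have h2 : (⟨g * v * g⁻¹, hgv⟩ : N) ∈ zpowers (⟨v, hv⟩ : N) := by rw [← h1]; exact mem_zpowers _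
  obtain ⟨k, hk⟩ := h2
  have hk' : v ^ k = g * v * g⁻¹ := congrArg Subtype.val hk
  have h3 : g ^ 2 * v * (g ^ 2)⁻¹ = v ^ (k * k) := by
    calc g ^ 2 * v * (g ^ 2)⁻¹ = g * (g * v * g⁻¹) * g⁻¹ := by rw [pow_two]; group
      _ = g * v ^ k * g⁻¹ := by rw [hk']
      _ = (g * v * g⁻¹) ^ k := by rw [conj_zpow]
      _ = v ^ (k * k) := by rw [← hk', zpow_mul]
  have h4 : v ^ (k * k) = v := by
    by_cases hv1 : v = 1
    · rw [hv1, one_zpow]
    rcases Int.even_or_odd k with hke | hko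
    · exfalso
      obtain ⟨l, rfl⟩ := hke
      have h5 : (g * v * g⁻¹) ^ 2 = 1 := by
        rw [← hk', ← zpow_natCast, ← zpow_mul]
        have : (l + l) * ((2 : ℕ) : ℤ) = 4 * l := by push_cast; ring
        rw [this, zpow_mul]
        have h6 : v ^ (4 : ℤ) = 1 := by exact_mod_cast hv4
        rw [h6, one_zpow]
      have h6 : v ^ 2 = 1 := by
        have := orderOf_dvd_of_pow_eq_one h5
        rw [ho] at this
        exact orderOf_dvd_iff_pow_eq_one.mp this
      have h7 : g * v * g⁻¹ = 1 := by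
        rw [← hk', ← two_mul, zpow_mul]
        have : v ^ (2 : ℤ) = 1 := by exact_mod_cast h6
        rw [this, one_zpow]
      apply hv1
      have : v = g⁻¹ * (g * v * g⁻¹) * g := by group
      rw [this, h7]; group
    · obtain ⟨l, rfl⟩ := hko
      have : (2 * l + 1) * (2 * l + 1) = 4 * (l * l + l) + 1 := by ring
      rw [this, zpow_add, zpow_mul, zpow_one]
      have h6 : v ^ (4 : ℤ) = 1 := by exact_mod_cast hv4
      rw [h6, one_zpow, one_mul]
  rw [h4] at h3
  calc g ^ 2 * v = (g ^ 2 * v * (g ^ 2)⁻¹) * g ^ 2 := by group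
    _ = v * g ^ 2 := by rw [h3]

end cyc

theorem relIndex_dvd_index_of_normal' {N : Type*} [Group N] [Finite N] (T K : Subgroup N) [K.Normal] :
    T.relIndex K ∣ T.index := by
  have h1 := H1.card_sup_mul_card_inf_of_le_normalizer (H := K) (K := T)
    (by rw [normalizer_eq_top]; exact le_top)
  have h2 : Nat.card (K ⊓ T : Subgroup N) * (K ⊓ T).relIndex K = Nat.card K := H1.card_mul_relIndex inf_le_left
  rw [inf_relIndex_left] at h2
  have h3 : Nat.card T * T.relIndex (K ⊔ T) = Nat.card (K ⊔ T : Subgroup N) := H1.card_mul_relIndex le_sup_right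
  have h4 : T.relIndex K = T.relIndex (K ⊔ T) := by
    have hT : 0 < Nat.card T := Nat.card_pos
    have hKT : 0 < Nat.card (K ⊓ T : Subgroup N) := Nat.card_pos
    rw [← h2, ← h3] at h1
    have h5 : (Nat.card T * Nat.card (K ⊓ T : Subgroup N)) * T.relIndex (K ⊔ T) =
        (Nat.card T * Nat.card (K ⊓ T : Subgroup N)) * T.relIndex K := by
      linear_combination h1
    exact (Nat.eq_of_mul_eq_mul_left (Nat.mul_pos hT hKT) h5).symm
  rw [h4]
  exact relIndex_dvd_index_of_le le_sup_right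

/-- elements of the Sylow subgroup acting trivially modulo the Frattini subgroup -/
theorem stepA {G : Type*} [Group G] [Finite G] (S : Sylow 2 G) {X : Subgroup G}
    (hXS : X ≤ (S : Subgroup G)) (hXC : (S : Subgroup G) ⊓ centralizer (X : Set G) ≤ X)
    (hFN : H14.FN 2 (S : Subgroup G) X) {u s τ : G}
    (hus : zpowers u ⊓ zpowers s = ⊥) (hτ : τ ∈ normalizer (X : Set G)) (hτu : τ * u * τ⁻¹ = s)
    (hcomm : ∀ y ∈ (S : Subgroup G) ⊓ normalizer (X : Set G), ∀ x ∈ X, y * x * y⁻¹ * x⁻¹ ∈ zpowers u)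
    {y : G} (hy : y ∈ (S : Subgroup G) ⊓ normalizer (X : Set G))
    (hyF : ∀ x ∈ X, y * x * y⁻¹ * x⁻¹ ∈ (frattini X).map X.subtype) : y ∈ X := by
  classical
  haveI : Fact (Nat.Prime 2) := ⟨Nat.prime_two⟩
  have hXp : IsPGroup 2 X := S.isPGroup'.to_le hXS
  set N : Subgroup G := normalizer (X : Set G) with hN
  let φ : N →* MulAut X := X.normalizerMonoidHom
  have hφ : ∀ (n : N) (x : X), ((φ n x : X) : G) = n * x * (n : G)⁻¹ := fun n x => rfl
  let ψ : MulAut X →* MulAut (X ⧸ frattini X) := H24.autQuot (frattini X)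
  let K : Subgroup N := (ψ.comp φ).ker
  let C : Subgroup N := φ.ker
  have hCK : C ≤ K := by
    intro n hn
    show ψ (φ n) = 1
    rw [MonoidHom.mem_ker.mp hn, map_one]
  have hK : ∀ n : N, n ∈ K ↔ ∀ x : X, x⁻¹ * φ n x ∈ frattini X := by
    intro n
    constructor
    · intro hn x
      have h1 : ψ (φ n) = 1 := hn
      have h2 := H24.autQuot_mk (frattini X) (φ n) x
      have h3 : H24.autQuot (frattini X) (φ n) = 1 := h1
      rw [h3] at h2
      exact QuotientGroup.eq.mp (h2 : ((x : X) : X ⧸ frattini X) = _)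
    · intro hn
      show ψ (φ n) = 1
      ext x
      obtain ⟨x, rfl⟩ := QuotientGroup.mk_surjective x
      exact (QuotientGroup.eq.mpr (hn x)).symm
  -- C has 2-power index in K
  have hCK2 : ∃ m : ℕ, C.relIndex K = 2 ^ m := by
    haveI : (C.subgroupOf K).Normal := inferInstance
    have hp : IsPGroup 2 (K ⧸ C.subgroupOf K) := by
      intro x
      obtain ⟨x, rfl⟩ := QuotientGroup.mk'_surjective _ x
      obtain ⟨k, m, hm, hkm⟩ := Nat.exists_eq_two_pow_mul_odd (n := orderOf (x : N)) (orderOf_pos _).ne'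
      refine ⟨k, ?_⟩
      rw [← map_pow]
      apply (QuotientGroup.eq_one_iff _).mpr
      rw [mem_subgroupOf]
      have h1 : orderOf ((x : N) ^ 2 ^ k) = m := by
        rw [orderOf_pow, hkm, Nat.gcd_eq_right (Dvd.intro _ rfl), Nat.mul_div_cancel_left _ (by positivity)]
      show φ ((x : N) ^ 2 ^ k) = 1
      apply aut_eq_one_of_frattini hXp (p := 2)
      · apply Nat.Coprime.coprime_dvd_left (orderOf_map_dvd φ _)
        rw [h1]
        exact Nat.coprime_comm.mp (Nat.coprime_two_left.mpr hm)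
      · exact (hK _).mp (pow_mem x.2 _)
    obtain ⟨k, hk⟩ := hp.exists_card_eq
    exact ⟨k, by rw [← hk]; rfl⟩
  obtain ⟨m, hm⟩ := hCK2
  let T : Subgroup N := (S : Subgroup G).subgroupOf N
  have hTi : ¬ 2 ∣ T.index := by
    have h1 : T.index = ((S : Subgroup G) ⊓ N).relIndex N := by
      rw [inf_relIndex_right]; rfl
    rw [h1]; exact hFN
  have hTK : ¬ 2 ∣ T.relIndex K := fun h => hTi (h.trans (relIndex_dvd_index_of_normal' T K))
  have hKle : K ≤ C ⊔ (T ⊓ K) := by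
    rw [← relIndex_eq_one]
    have h2 : (C ⊔ (T ⊓ K)).relIndex K ∣ 2 ^ m := by
      rw [← hm]; exact relIndex_dvd_of_le_left _ le_sup_left
    have h3 : (C ⊔ (T ⊓ K)).relIndex K ∣ T.relIndex K := by
      rw [← inf_relIndex_right T K]; exact relIndex_dvd_of_le_left _ le_sup_right
    have h4 : Nat.Coprime (2 ^ m) (T.relIndex K) :=
      Nat.Coprime.pow_left m ((Nat.Prime.coprime_iff_not_dvd Nat.prime_two).2 hTK)
    exact Nat.eq_one_of_dvd_coprimes h4 h2 h3
  have hyK : (⟨y, hy.2⟩ : N) ∈ K := by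
    rw [hK]
    intro x
    have h1 := hyF x⁻¹ (X.inv_mem x.2)
    obtain ⟨f, hf, hfx⟩ := h1
    have h2 : (x : X)⁻¹ * φ ⟨y, hy.2⟩ x = f⁻¹ := by
      apply Subtype.ext
      have h3 : (f : G) = y * (x : G)⁻¹ * y⁻¹ * ((x : G)⁻¹)⁻¹ := hfx
      show (x : G)⁻¹ * (y * x * y⁻¹) = (f : G)⁻¹
      rw [h3]; group
    rw [h2]
    exact inv_mem hf
  -- conjugate by τ
  set τ' : N := ⟨τ, hτ⟩ with hτ'
  have hconj : τ'⁻¹ * ⟨y, hy.2⟩ * τ' ∈ K := by
    have := (inferInstance : K.Normal).conj_mem _ hyK τ'⁻¹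
    rwa [inv_inv] at this
  have h5 := hKle hconj
  obtain ⟨c, hc, t, ht, hct⟩ := mem_sup_of_normal_left.mp h5
  have hyC : y ∈ centralizer (X : Set G) := by
    rw [mem_centralizer_iff]
    intro x' hx'
    have h6 : y * x' * y⁻¹ * x'⁻¹ ∈ zpowers u ⊓ zpowers s := by
      refine ⟨hcomm y hy x' hx', ?_⟩
      -- x = τ⁻¹ x' τ
      have hx : τ⁻¹ * x' * τ ∈ X := by
        have := (mem_normalizer_iff.mp (inv_mem hτ) x').mp hx'
        rwa [inv_inv] at this
      have h7 := hcomm (t : G) ⟨ht.1, t.2⟩ _ hx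
      have hcC : ∀ z ∈ X, (c : G) * z * (c : G)⁻¹ = z := by
        intro z hz
        have h8 : φ c ⟨z, hz⟩ = ⟨z, hz⟩ := by rw [MonoidHom.mem_ker.mp hc]; rfl
        exact congrArg Subtype.val h8
      have h9 : (τ⁻¹ * y * τ) = (c : G) * t := by
        have := congrArg Subtype.val hct
        exact this.symm
      have h10 : (t : G) * (τ⁻¹ * x' * τ) * (t : G)⁻¹ ∈ X :=
        (mem_normalizer_iff.mp t.2 _).mp hx
      have h11 : (τ⁻¹ * y * τ) * (τ⁻¹ * x' * τ) * (τ⁻¹ * y * τ)⁻¹ =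
          (t : G) * (τ⁻¹ * x' * τ) * (t : G)⁻¹ := by
        rw [h9]
        calc (c : G) * t * (τ⁻¹ * x' * τ) * ((c : G) * t)⁻¹ =
            c * (t * (τ⁻¹ * x' * τ) * (t : G)⁻¹) * (c : G)⁻¹ := by group
          _ = _ := hcC _ h10
      rw [← h11] at h7
      obtain ⟨k, hk⟩ := h7
      have hk' : u ^ k = τ⁻¹ * y * τ * (τ⁻¹ * x' * τ) * (τ⁻¹ * y * τ)⁻¹ * (τ⁻¹ * x' * τ)⁻¹ := hk
      refine ⟨k, ?_⟩
      show s ^ k = y * x' * y⁻¹ * x'⁻¹
      rw [← hτu, conj_zpow, hk']; group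
    rw [hus, mem_bot] at h6
    have h7 : y * x' = x' * y := by
      calc y * x' = (y * x' * y⁻¹ * x'⁻¹) * x' * y := by group
        _ = x' * y := by rw [h6, one_mul]
    exact h7.symm
  exact hXC ⟨hy.1, hyC⟩

end Cfsg.Agent.H25
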