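import Mathlib
import Cfsg.Agent.H25.Metac4

/-!
Sylow 2-subgroups with a cyclic normal subgroup and a cyclic quotient of order greater than two.
-/

set_option autoImplicit false

namespace Cfsg.Agent.H25

open Subgroup
open scoped commutatorElement

theorem metac_sylow {G : Type*} [Group G] [Finite G] (S : Sylow 2 G)
    (N0 : Subgroup ↥(S : Subgroup G)) [N0.Normal] (hNc : IsCyclic N0)
    (hQc : IsCyclic (↥(S : Subgroup G) ⧸ N0)) (hQ : 2 < Nat.card (↥(S : Subgroup G) ⧸ N0))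
    (hno : ¬ Cfsg.HasNormalPComplement 2 G) :
    ∃ k, 2 ≤ k ∧ Nonempty ((S : Subgroup G) ≃* Multiplicative (ZMod (2 ^ k)) × Multiplicative (ZMod (2 ^ k))) := by
  classical
  haveI : Fact (Nat.Prime 2) := ⟨Nat.prime_two⟩
  set N : Subgroup G := N0.map (S : Subgroup G).subtype with hNdef
  have hNS : N ≤ (S : Subgroup G) := map_subtype_le _
  have hmemN : ∀ (x : G) (hx : x ∈ (S : Subgroup G)), x ∈ N ↔ (⟨x, hx⟩ : (S : Subgroup G)) ∈ N0 := by
    intro x hx
    constructor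
    · rintro ⟨y, hy, rfl⟩
      exact hy
    · intro h
      exact ⟨_, h, rfl⟩
  have hNn : (S : Subgroup G) ≤ normalizer (N : Set G) := by
    have h1 := le_normalizer_map (H := N0) (S : Subgroup G).subtype
    rw [normalizer_eq_top, ← MonoidHom.range_eq_map, range_subtype] at h1
    exact h1
  haveI hNcyc : IsCyclic N := by
    have e : N0 ≃* N := N0.equivMapOfInjective _ (S : Subgroup G).subtype_injective
    haveI := hNc
    exact isCyclic_of_surjective e e.surjective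
  have hNcomm : ∀ a ∈ N, ∀ b ∈ N, Commute a b := by
    intro a ha b hb
    obtain ⟨g, hg⟩ := hNcyc.exists_generator
    obtain ⟨i, hi⟩ := hg ⟨a, ha⟩
    obtain ⟨j, hj⟩ := hg ⟨b, hb⟩
    have hi' : (g : G) ^ i = a := congrArg Subtype.val hi
    have hj' : (g : G) ^ j = b := congrArg Subtype.val hj
    rw [← hi', ← hj']
    exact (Commute.refl (g : G)).zpow_zpow i j
  let q : (S : Subgroup G) →* (S : Subgroup G) ⧸ N0 := QuotientGroup.mk' N0
  have hqs : Function.Surjective q := QuotientGroup.mk'_surjective N0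
  have hCp : IsPGroup 2 ((S : Subgroup G) ⧸ N0) := S.isPGroup'.to_quotient N0
  have hCcomm : ∀ a b : (S : Subgroup G) ⧸ N0, a * b = b * a := by
    obtain ⟨g, hg⟩ := hQc.exists_generator
    intro a b
    obtain ⟨i, rfl⟩ := hg a
    obtain ⟨j, rfl⟩ := hg b
    exact (Commute.refl g).zpow_zpow i j
  have hq1 : ∀ (x : G) (hx : x ∈ (S : Subgroup G)), q ⟨x, hx⟩ = 1 ↔ x ∈ N := by
    intro x hx
    rw [hmemN x hx]
    exact QuotientGroup.eq_one_iff _
  have hqe : ∀ (a b : G) (ha : a ∈ (S : Subgroup G)) (hb : b ∈ (S : Subgroup G)),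
      q ⟨a, ha⟩ = q ⟨b, hb⟩ → a⁻¹ * b ∈ N := by
    intro a b ha hb h
    rw [← hq1 _ (mul_mem (inv_mem ha) hb)]
    have h1 : (⟨a⁻¹ * b, mul_mem (inv_mem ha) hb⟩ : (S : Subgroup G)) = ⟨a, ha⟩⁻¹ * ⟨b, hb⟩ := rfl
    rw [h1, map_mul, map_inv, h, inv_mul_cancel]
  -- F1
  have F1 : ∀ s ∈ (S : Subgroup G), s ^ 2 ∈ N → ∃ g ∈ (S : Subgroup G), ∃ n ∈ N, s = g ^ 2 * n := by
    intro s hs hs2
    obtain ⟨c, hc⟩ := hQc.exists_generator
    obtain ⟨g, rfl⟩ := hqs c
    have hoc : orderOf (q g) = Nat.card ((S : Subgroup G) ⧸ N0) := by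
      rw [← Nat.card_zpowers]
      have : zpowers (q g) = ⊤ := by rw [eq_top_iff]; intro x _; exact hc x
      rw [this, card_top]
    have ha2 : (q ⟨s, hs⟩) ^ 2 = 1 := by
      rw [← map_pow]
      exact (hq1 _ (pow_mem hs 2)).mpr hs2
    obtain ⟨m, hm⟩ := hCp.exists_card_eq
    have hm2 : 2 ≤ m := by
      by_contra h
      have : m = 0 ∨ m = 1 := by omega
      rcases this with rfl | rfl <;> rw [hm] at hQ <;> norm_num at hQ
    have h1 : orderOf (q ⟨s, hs⟩) ∣ orderOf ((q g) ^ 2) := by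
      have h2 : orderOf ((q g) ^ 2) = 2 ^ (m - 1) := by
        obtain ⟨l, rfl⟩ : ∃ l, m = l + 1 := ⟨m - 1, by omega⟩
        rw [orderOf_pow, hoc, hm, pow_succ, Nat.gcd_eq_right (Dvd.intro_left _ rfl),
          Nat.mul_div_cancel _ (by norm_num)]
        rfl
      rw [h2]
      exact (orderOf_dvd_of_pow_eq_one ha2).trans (dvd_pow_self 2 (by omega))
    obtain ⟨k, hk⟩ := cyclic_mem_of_dvd h1
    have hk' : ((q g) ^ 2) ^ k = q ⟨s, hs⟩ := hk
    refine ⟨(g : G) ^ k, zpow_mem g.2 k, (((g : G) ^ k) ^ 2)⁻¹ * s, ?_, by group⟩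
    apply hqe _ _ (pow_mem (zpow_mem g.2 k) 2) hs
    have h3 : (⟨((g : G) ^ k) ^ 2, pow_mem (zpow_mem g.2 k) 2⟩ : (S : Subgroup G)) = (g ^ k) ^ 2 := rfl
    rw [h3, map_pow, map_zpow, ← hk', ← zpow_natCast, ← zpow_natCast, ← zpow_mul, ← zpow_mul, mul_comm]
  have F3 : ∀ s ∈ (S : Subgroup G), s ^ 2 ∈ N → ∀ v ∈ N, v ^ 4 = 1 → Commute s v := by
    intro s hs hs2 v hv hv4
    obtain ⟨g, hg, n, hn, rfl⟩ := F1 s hs hs2
    exact (cyc_F2 hNcyc hNn hg hv hv4).mul_left (hNcomm n hn v hv)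
  have F4 : ∀ a ∈ (S : Subgroup G), ∀ b ∈ (S : Subgroup G), a * b * a⁻¹ * b⁻¹ ∈ N := by
    intro a ha b hb
    rw [← hq1 _ (mul_mem (mul_mem (mul_mem ha hb) (inv_mem ha)) (inv_mem hb))]
    have h1 : (⟨a * b * a⁻¹ * b⁻¹, mul_mem (mul_mem (mul_mem ha hb) (inv_mem ha)) (inv_mem hb)⟩ :
      (S : Subgroup G)) = ⟨a, ha⟩ * ⟨b, hb⟩ * ⟨a, ha⟩⁻¹ * ⟨b, hb⟩⁻¹ := rfl
    rw [h1, map_mul, map_mul, map_mul, map_inv, map_inv, hCcomm (q ⟨a, ha⟩), mul_inv_cancel_right,
      mul_inv_cancel]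
  have F5 : ∀ a ∈ (S : Subgroup G), ∀ b ∈ (S : Subgroup G),
      (∃ k : ℤ, ∃ n ∈ N, a = (b ^ 2) ^ k * n) ∨ (∃ k : ℤ, ∃ n ∈ N, b = a ^ k * n) := by
    intro a ha b hb
    haveI := hQc
    rcases cyclic_two_compare hCp (q ⟨a, ha⟩) (q ⟨b, hb⟩) with h | h
    · left
      obtain ⟨k, hk⟩ := h
      have hk' : (q ⟨b, hb⟩ ^ 2) ^ k = q ⟨a, ha⟩ := hk
      refine ⟨k, ((b ^ 2) ^ k)⁻¹ * a, ?_, by group⟩
      apply hqe _ _ (zpow_mem (pow_mem hb 2) k) ha
      have h3 : (⟨(b ^ 2) ^ k, zpow_mem (pow_mem hb 2) k⟩ : (S : Subgroup G)) = ((⟨b, hb⟩ : (S : Subgroup G)) ^ 2) ^ k := rfl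
      rw [h3, map_zpow, map_pow, hk']
    · right
      obtain ⟨k, hk⟩ := h
      have hk' : (q ⟨a, ha⟩) ^ k = q ⟨b, hb⟩ := hk
      refine ⟨k, (a ^ k)⁻¹ * b, ?_, by group⟩
      apply hqe _ _ (zpow_mem ha k) hb
      have h3 : (⟨a ^ k, zpow_mem ha k⟩ : (S : Subgroup G)) = (⟨a, ha⟩ : (S : Subgroup G)) ^ k := rfl
      rw [h3, map_zpow, hk']
  -- the bad subgroup
  obtain ⟨X, hXS, hXC, hFN, hbad⟩ := exists_bad_of_not_npc S hno
  obtain ⟨τ, hτN, hτo, hτC⟩ := exists_odd_of_bad hbad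
  have hXp : IsPGroup 2 X := S.isPGroup'.to_le hXS
  let σ : MulAut X := X.normalizerMonoidHom ⟨τ, hτN⟩
  have hσv : ∀ x : X, ((σ x : X) : G) = τ * x * τ⁻¹ := fun x => rfl
  have hσo : Odd (orderOf σ) := by
    have h1 : orderOf σ ∣ orderOf τ := by
      have h2 := orderOf_map_dvd X.normalizerMonoidHom (⟨τ, hτN⟩ : normalizer (X : Set G))
      rwa [orderOf_mk] at h2
    exact hτo.of_dvd_nat h1
  have hσ1 : σ ≠ 1 := by
    intro h
    apply hτC
    rw [mem_centralizer_iff]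
    intro x hx
    have h1 : σ ⟨x, hx⟩ = ⟨x, hx⟩ := by rw [h]; rfl
    have h2 : τ * x * τ⁻¹ = x := congrArg Subtype.val h1
    calc x * τ = (τ * x * τ⁻¹) * τ := by rw [h2]
      _ = τ * x := by group
  set L : Subgroup X := N.subgroupOf X with hL
  haveI hLn : L.Normal := normal_subgroupOf_of_le_normalizer (hXS.trans hNn)
  have hLc : IsCyclic L := by
    let f : L →* N :=
      { toFun := fun x => ⟨((x : X) : G), x.2⟩
        map_one' := rfl
        map_mul' := fun _ _ => rfl }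
    exact isCyclic_of_injective f (fun a b h => Subtype.ext (Subtype.ext (congrArg (fun z : N => (z : G)) h)))
  have hXLc : IsCyclic (X ⧸ L) := by
    let f : X →* (S : Subgroup G) ⧸ N0 := q.comp (inclusion hXS)
    have hf : f.ker = L := by
      ext x
      rw [MonoidHom.mem_ker, hL, mem_subgroupOf]
      exact hq1 (x : G) (hXS x.2)
    haveI := hQc
    have h1 : IsCyclic (X ⧸ f.ker) :=
      isCyclic_of_injective (QuotientGroup.kerLift f) (QuotientGroup.kerLift_injective f)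
    have e : X ⧸ L ≃* X ⧸ f.ker := QuotientGroup.quotientMulEquivOfEq hf.symm
    exact isCyclic_of_injective e.toMonoidHom e.injective
  obtain ⟨hV4, u, huL, huF, halt⟩ := metac_core hXp L hLc hXLc σ hσo hσ1
  have huN : (u : G) ∈ N := by
    have : u ∈ L := by rw [← huL]; exact mem_zpowers u
    exact this
  set s : X := σ u with hs
  have hsS : (s : G) ∈ (S : Subgroup G) := hXS s.2
  rcases halt with ⟨hXcomm, hinf, hsup⟩ | ⟨hcard, hou, hs2, hconj⟩
  swap
  · -- quaternion case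
    exfalso
    have hu4 : (u : G) ^ 4 = 1 := by
      have := pow_orderOf_eq_one u
      rw [hou] at this
      exact congrArg Subtype.val this
    have hc := F3 (s : G) hsS (by
      have : ((s : X) : G) ^ 2 = (u : G) ^ 2 := congrArg Subtype.val hs2
      rw [this]; exact pow_mem huN 2) (u : G) huN hu4
    have h1 : (s : G) * u * (s : G)⁻¹ = (u : G)⁻¹ := congrArg Subtype.val hconj
    rw [hc.eq, mul_inv_cancel_right] at h1
    have h2 : u ^ 2 = 1 := by
      apply Subtype.ext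
      show (u : G) ^ 2 = 1
      rw [pow_two]
      nth_rewrite 1 [h1]
      exact inv_mul_cancel _
    have h3 := orderOf_dvd_of_pow_eq_one h2
    rw [hou] at h3
    omega
  -- abelian case
  obtain ⟨k, hk⟩ := IsPGroup.iff_orderOf.mp hXp u
  have hks : orderOf s = 2 ^ k := by rw [← hk, hs]; exact MulEquiv.orderOf_eq σ u
  have hk1 : 1 ≤ k := by
    by_contra h
    have : k = 0 := by omega
    rw [this, pow_zero, orderOf_eq_one_iff] at hk
    exact huF (hk ▸ one_mem _)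
  have hku : orderOf (u : G) = 2 ^ k := by rw [orderOf_coe, hk]
  have hform : ∀ x ∈ X, ∃ i j : ℤ, x = (u : G) ^ i * (s : G) ^ j := by
    intro x hx
    haveI : (zpowers u).Normal := ⟨fun n hn g => by rw [hXcomm g n, mul_inv_cancel_right]; exact hn⟩
    have h1 : (⟨x, hx⟩ : X) ∈ zpowers u ⊔ zpowers s := by rw [hsup]; exact mem_top _
    obtain ⟨_, ⟨i, rfl⟩, _, ⟨j, rfl⟩, h2⟩ := mem_sup_of_normal_left.mp h1
    exact ⟨i, j, (congrArg Subtype.val h2).symm⟩
  have hXc : ∀ a ∈ X, ∀ b ∈ X, Commute a b := by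
    intro a ha b hb
    exact congrArg Subtype.val (hXcomm ⟨a, ha⟩ ⟨b, hb⟩)
  have hNX : ∀ z ∈ N, z ∈ X → z ∈ zpowers (u : G) := by
    intro z hzN hzX
    have h1 : (⟨z, hzX⟩ : X) ∈ zpowers u := by rw [huL]; exact hzN
    obtain ⟨l, hl⟩ := h1
    exact ⟨l, congrArg Subtype.val hl⟩
  have hcentX : ∀ y : G, Commute y (u : G) → Commute y (s : G) → y ∈ centralizer (X : Set G) := by
    intro y h1 h2
    rw [mem_centralizer_iff]
    intro x hx
    obtain ⟨i, j, rfl⟩ := hform x hx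
    exact ((h1.zpow_right i).mul_right (h2.zpow_right j)).symm
  have hcardX : Nat.card X = 2 ^ k * 2 ^ k := by
    haveI : (zpowers u).Normal := ⟨fun n hn g => by rw [hXcomm g n, mul_inv_cancel_right]; exact hn⟩
    have h1 := H1.card_sup_mul_card_inf_of_le_normalizer (H := zpowers u) (K := zpowers s)
      (by rw [normalizer_eq_top]; exact le_top)
    rw [hsup, hinf, card_top, card_bot, mul_one, Nat.card_zpowers, Nat.card_zpowers, hk, hks] at h1
    exact h1
  by_cases hk2 : 2 ≤ k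
  swap
  · -- X is a four-group
    exfalso
    have hk' : k = 1 := by omega
    rw [hk', pow_one] at hku hks
    have hu2 : (u : G) ^ 2 = 1 := by rw [← hku]; exact pow_orderOf_eq_one _
    have hs2 : (s : G) ^ 2 = 1 := by
      have : orderOf (s : G) = 2 := by rw [orderOf_coe, hks]
      rw [← this]; exact pow_orderOf_eq_one _
    have h1 : ∀ v ∈ N, v ^ 4 = 1 → v ∈ zpowers (u : G) := by
      intro v hv hv4
      have hc1 := F3 (s : G) hsS (by rw [hs2]; exact one_mem _) v hv hv4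
      have hc2 := hNcomm v hv (u : G) huN
      have hvX : v ∈ X := hXC ⟨hNS hv, hcentX v hc2 hc1.symm⟩
      exact hNX v hv hvX
    have hNu : N ≤ zpowers (u : G) := by
      obtain ⟨v0, hv0⟩ := hNcyc.exists_generator
      have hNp : IsPGroup 2 N := S.isPGroup'.to_le hNS
      obtain ⟨r, hr⟩ := IsPGroup.iff_orderOf.mp hNp v0
      have hv0o : orderOf (v0 : G) = 2 ^ r := by rw [orderOf_coe, hr]
      have hr1 : r ≤ 1 := by
        by_contra hr1
        obtain ⟨l, rfl⟩ : ∃ l, r = l + 2 := ⟨r - 2, by omega⟩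
        have h2 := h1 ((v0 : G) ^ 2 ^ l) (pow_mem v0.2 _) (by
          rw [← pow_mul, ← orderOf_dvd_iff_pow_eq_one, hv0o, pow_add]; norm_num)
        obtain ⟨m, hm⟩ := h2
        have hm' : (u : G) ^ m = (v0 : G) ^ 2 ^ l := hm
        have h3 : (v0 : G) ^ (2 ^ l * 2) = 1 := by
          rw [pow_mul, ← hm', ← zpow_natCast, ← zpow_mul, mul_comm, zpow_mul, zpow_natCast, hu2, one_zpow]
        have h4 := orderOf_dvd_of_pow_eq_one h3
        rw [hv0o, ← pow_succ, Nat.pow_dvd_pow_iff_le_right (by norm_num)] at h4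
        omega
      intro z hz
      apply h1 z hz
      obtain ⟨i, hi⟩ := hv0 ⟨z, hz⟩
      have hi' : (v0 : G) ^ i = z := congrArg Subtype.val hi
      rw [← hi', ← zpow_natCast, ← zpow_mul, mul_comm, zpow_mul]
      have : (v0 : G) ^ (4 : ℤ) = 1 := by
        have h5 : (v0 : G) ^ 4 = 1 := by
          rw [← orderOf_dvd_iff_pow_eq_one, hv0o]
          exact (pow_dvd_pow 2 hr1).trans (by norm_num)
        exact_mod_cast h5
      rw [show ((4 : ℕ) : ℤ) = 4 from rfl, this, one_zpow]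
    have hzu : ∀ z ∈ zpowers (u : G), z = 1 ∨ z = (u : G) := by
      rintro _ ⟨i, rfl⟩
      rcases Int.even_or_odd' i with ⟨l, hl | hl⟩
      · left
        show (u : G) ^ i = 1
        rw [hl, zpow_mul, zpow_ofNat, hu2, one_zpow]
      · right
        show (u : G) ^ i = u
        rw [hl, zpow_add, zpow_mul, zpow_ofNat, hu2, one_zpow, zpow_one, one_mul]
    have hu1 : (u : G) ≠ 1 := by
      intro h
      rw [h, orderOf_one] at hku
      omega
    -- N is central, so S is abelian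
    have hNcent : N0 ≤ center (S : Subgroup G) := by
      intro z hz
      rw [mem_center_iff]
      intro y
      apply Subtype.ext
      show (y : G) * z = z * y
      have hzN : (z : G) ∈ N := ⟨z, hz, rfl⟩
      rcases hzu _ (hNu hzN) with h | h
      · rw [h, mul_one, one_mul]
      · rw [h]
        have h2 : (y : G) * u * (y : G)⁻¹ ∈ N := (mem_normalizer_iff.mp (hNn y.2) _).mp huN
        rcases hzu _ (hNu h2) with h3 | h3
        · exfalso
          apply hu1
          have : (u : G) = (y : G)⁻¹ * (y * u * (y : G)⁻¹) * y := by group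
          rw [this, h3]; group
        · calc (y : G) * u = (y * u * (y : G)⁻¹) * y := by group
            _ = u * y := by rw [h3]
    have hSc : ∀ a b : (S : Subgroup G), a * b = b * a := by
      haveI := hQc
      have := MonoidHom.isMulCommutative_of_isCyclic_of_ker_le_center q (by
        rw [QuotientGroup.ker_mk']; exact hNcent)
      exact this.is_comm.comm
    have hSX : (S : Subgroup G) ≤ X := by
      intro y hy
      apply hXC
      refine ⟨hy, mem_centralizer_iff.mpr fun x hx => ?_⟩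
      exact congrArg Subtype.val (hSc ⟨x, hXS hx⟩ ⟨y, hy⟩)
    have hcardS : Nat.card (S : Subgroup G) = 4 := by
      have : (S : Subgroup G) = X := le_antisymm hSX hXS
      rw [this, hcardX, hk']
      norm_num
    have h5 := Subgroup.card_eq_card_quotient_mul_card_subgroup N0
    rw [hcardS] at h5
    have h6 : 2 ≤ Nat.card N0 := by
      have h7 : Nontrivial N0 := by
        rw [Subgroup.nontrivial_iff_ne_bot]
        intro h
        have h8 : (⟨(u : G), hNS huN⟩ : (S : Subgroup G)) ∈ N0 := (hmemN _ _).mp huN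
        rw [h, mem_bot] at h8
        exact hu1 (congrArg Subtype.val h8)
      exact Finite.one_lt_card_iff_nontrivial.mpr h7
    nlinarith
  by_cases hXS' : X = (S : Subgroup G)
  · refine ⟨k, hk2, ?_⟩
    rw [← hXS']
    exact nonempty_equiv_of_split hXcomm hk hks hinf hsup
  exfalso
  have hltS : X < (S : Subgroup G) := lt_of_le_of_ne hXS hXS'
  have hSnil : Group.IsNilpotent (S : Subgroup G) := S.isPGroup'.isNilpotent
  obtain ⟨y, hyM, hyX⟩ := SetLike.exists_of_lt (H1.lt_normalizer_inf_of_nilpotent hSnil hltS)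
  have hinf' : zpowers (u : G) ⊓ zpowers (s : G) = ⊥ := by
    rw [eq_bot_iff]
    rintro z ⟨⟨i, hi⟩, ⟨j, hj⟩⟩
    have hi' : (u : G) ^ i = z := hi
    have hj' : (s : G) ^ j = z := hj
    have h1 : u ^ i ∈ zpowers u ⊓ zpowers s := by
      refine ⟨⟨i, rfl⟩, ⟨j, ?_⟩⟩
      apply Subtype.ext
      show (s : G) ^ j = (u : G) ^ i
      rw [hi', hj']
    rw [hinf, mem_bot] at h1
    have h2 : (u : G) ^ i = 1 := congrArg Subtype.val h1
    rw [mem_bot, ← hi', h2]
  have hcomm : ∀ y ∈ (S : Subgroup G) ⊓ normalizer (X : Set G), ∀ x ∈ X,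
      y * x * y⁻¹ * x⁻¹ ∈ zpowers (u : G) := by
    rintro y ⟨hyS, hyN⟩ x hx
    exact hNX _ (F4 y hyS x (hXS hx)) (mul_mem ((mem_normalizer_iff.mp hyN x).mp hx) (inv_mem hx))
  have hA := fun {y : G} (hy : y ∈ (S : Subgroup G) ⊓ normalizer (X : Set G)) hyF =>
    stepA S hXS hXC hFN hinf' hτN (τ := τ) rfl hcomm (y := y) hy hyF
  -- action of elements of S ∩ N(X)
  have hact : ∀ y ∈ (S : Subgroup G) ⊓ normalizer (X : Set G), ∃ α β : ℤ,
      y * u * y⁻¹ = (u : G) ^ α ∧ y * s * y⁻¹ = (u : G) ^ β * s := by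
    intro y hy
    obtain ⟨β, hβ⟩ := hcomm y hy s s.2
    have hβ' : (u : G) ^ β = y * s * y⁻¹ * (s : G)⁻¹ := hβ
    have h1 : y * u * y⁻¹ ∈ zpowers (u : G) := by
      apply hNX
      · exact (mem_normalizer_iff.mp (hNn hy.1) _).mp huN
      · exact (mem_normalizer_iff.mp hy.2 _).mp u.2
    obtain ⟨α, hα⟩ := h1
    refine ⟨α, β, hα.symm, ?_⟩
    rw [hβ']; group
  have hpar : ∀ z : ℤ, (u : G) ^ z = 1 → Even z := by
    intro z hz
    have h1 : (orderOf (u : G) : ℤ) ∣ z := orderOf_dvd_iff_zpow_eq_one.mpr hz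
    rw [hku] at h1
    have h2 : (2 : ℤ) ∣ ((2 ^ k : ℕ) : ℤ) := by
      push_cast
      exact dvd_pow_self 2 (by omega)
    exact even_iff_two_dvd.mpr (h2.trans h1)
  have hodd1 : ∀ (y : G) (α : ℤ), y * u * y⁻¹ = (u : G) ^ α → Odd α := by
    intro y α h
    by_contra hα
    rw [Int.not_odd_iff_even] at hα
    obtain ⟨l, rfl⟩ := hα
    have ho : orderOf (y * u * y⁻¹) = orderOf (u : G) := MulEquiv.orderOf_eq (MulAut.conj y) (u : G)
    have h1 : (y * u * y⁻¹) ^ 2 ^ (k - 1) = 1 := by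
      obtain ⟨m, hm⟩ : ∃ m, k = m + 1 := ⟨k - 1, by omega⟩
      rw [h, ← zpow_natCast, ← zpow_mul, hm]
      have : (l + l) * ((2 ^ (m + 1 - 1) : ℕ) : ℤ) = ((2 ^ k : ℕ) : ℤ) * l := by
        have h9 : m + 1 - 1 = m := by omega
        rw [hm, h9]; push_cast; ring
      rw [this, zpow_mul, zpow_natCast, ← hku, pow_orderOf_eq_one, one_zpow]
    have h2 := orderOf_dvd_of_pow_eq_one h1
    rw [ho, hku, Nat.pow_dvd_pow_iff_le_right (by norm_num)] at h2
    omega
  have hP : ∀ y ∈ (S : Subgroup G) ⊓ normalizer (X : Set G), ∀ α β : ℤ,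
      y * u * y⁻¹ = (u : G) ^ α → y * s * y⁻¹ = (u : G) ^ β * s → Even β → y ∈ X := by
    intro y hy α β h1 h2 hβ
    apply hA hy
    intro x hx
    obtain ⟨i, j, hij⟩ := hform x hx
    have hus : Commute (u : G) (s : G) := hXc _ u.2 _ s.2
    have h3 : y * x * y⁻¹ * x⁻¹ = (u : G) ^ ((α - 1) * i + β * j) := by
      have h4 : y * x * y⁻¹ = (u : G) ^ (α * i) * ((u : G) ^ (β * j) * (s : G) ^ j) := by
        rw [hij]
        calc y * ((u : G) ^ i * (s : G) ^ j) * y⁻¹ = (y * (u : G) ^ i * y⁻¹) * (y * (s : G) ^ j * y⁻¹) := by group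
          _ = (y * u * y⁻¹) ^ i * (y * s * y⁻¹) ^ j := by rw [conj_zpow, conj_zpow]
          _ = _ := by
            rw [h1, h2, (hus.zpow_left β).mul_zpow, ← zpow_mul, ← zpow_mul]
      rw [h4, hij, mul_inv_rev]
      have h5 : ((α - 1) * i + β * j) = α * i + β * j + (-i) := by ring
      rw [h5, zpow_add, zpow_add, zpow_neg]
      have h6 : Commute ((s : G) ^ j) ((u : G) ^ i) := (hus.zpow_zpow i j).symm
      group
    rw [h3]
    have h4 : Even ((α - 1) * i + β * j) := by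
      obtain ⟨a, rfl⟩ := hodd1 y α h1
      obtain ⟨b, rfl⟩ := hβ
      exact ⟨a * i + b * j, by ring⟩
    obtain ⟨l, hl⟩ := h4
    refine ⟨(u ^ 2) ^ l, zpow_mem (H2.pow_mem_frattini hXp u) l, ?_⟩
    show ((u : G) ^ 2) ^ l = _
    rw [hl, ← two_mul, zpow_mul, zpow_ofNat]
  have hy : y ∈ (S : Subgroup G) ⊓ normalizer (X : Set G) := ⟨hyM.2, hyM.1⟩
  obtain ⟨α, β, hα, hβ⟩ := hact y hy
  have hαo := hodd1 y α hα
  have hβo : Odd β := by
    by_contra h
    rw [Int.not_odd_iff_even] at h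
    exact hyX (hP y hy α β hα hβ h)
  have hy2u : y ^ 2 * u * (y ^ 2)⁻¹ = (u : G) ^ (α * α) := by
    calc y ^ 2 * u * (y ^ 2)⁻¹ = y * (y * u * y⁻¹) * y⁻¹ := by rw [pow_two]; group
      _ = (y * u * y⁻¹) ^ α := by rw [conj_zpow, ← hα]
      _ = _ := by rw [hα, zpow_mul]
  have hy2s : y ^ 2 * s * (y ^ 2)⁻¹ = (u : G) ^ (α * β + β) * s := by
    calc y ^ 2 * s * (y ^ 2)⁻¹ = y * (y * s * y⁻¹) * y⁻¹ := by rw [pow_two]; group
      _ = (y * u * y⁻¹) ^ β * (y * s * y⁻¹) := by rw [conj_zpow]; nth_rewrite 1 [hβ]; group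
      _ = _ := by rw [hα, hβ, ← zpow_mul, ← mul_assoc, ← zpow_add]
  have hy2X : y ^ 2 ∈ X := by
    apply hP (y ^ 2) (pow_mem hy 2) _ _ hy2u hy2s
    obtain ⟨a, rfl⟩ := hαo
    exact ⟨a * β + β, by ring⟩
  have hdvd : (u : G) ^ (α + 1) = 1 := by
    have h1 : y ^ 2 * s * (y ^ 2)⁻¹ = s := by
      rw [(hXc _ hy2X _ s.2).eq, mul_inv_cancel_right]
    rw [hy2s] at h1
    have h2 : (u : G) ^ (α * β + β) = 1 := mul_eq_right.mp h1
    have h3 : (orderOf (u : G) : ℤ) ∣ β * (α + 1) := by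
      have h4 := orderOf_dvd_iff_zpow_eq_one.mpr h2
      have h5 : α * β + β = β * (α + 1) := by ring
      rwa [h5] at h4
    apply orderOf_dvd_iff_zpow_eq_one.mp
    apply IsCoprime.dvd_of_dvd_mul_left _ h3
    rw [hku]
    push_cast
    apply IsCoprime.pow_left
    obtain ⟨l, rfl⟩ := hβo
    exact ⟨-l, 1, by ring⟩
  have hyinv : y * u * y⁻¹ = (u : G)⁻¹ := by
    rw [hα]
    apply eq_inv_of_mul_eq_one_left
    rw [← zpow_add_one]; exact hdvd
  rcases F5 (s : G) hsS y hy.1 with ⟨j, n, hn, hsn⟩ | ⟨j, n, hn, hyn⟩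
  · have hnX : n ∈ X := by
      have : n = ((y ^ 2) ^ j)⁻¹ * s := by rw [hsn]; group
      rw [this]
      exact mul_mem (inv_mem (zpow_mem hy2X j)) s.2
    obtain ⟨l, hl⟩ := hNX n hn hnX
    have hl' : (u : G) ^ l = n := hl
    have h1 : y * s * y⁻¹ = s * (u : G) ^ (-2 * l) := by
      have h2 : y * n * y⁻¹ = (u : G) ^ (-l) := by
        rw [← hl', ← conj_zpow, hyinv, inv_zpow, zpow_neg]
      calc y * s * y⁻¹ = y * ((y ^ 2) ^ j * n) * y⁻¹ := by rw [← hsn]
        _ = (y * (y ^ 2) ^ j * y⁻¹) * (y * n * y⁻¹) := by group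
        _ = (y ^ 2) ^ j * (u : G) ^ (-l) := by
          rw [h2]
          congr 1
          have : Commute y ((y ^ 2) ^ j) := ((Commute.refl y).pow_right 2).zpow_right j
          rw [this.eq, mul_inv_cancel_right]
        _ = ((y ^ 2) ^ j * n) * (u : G) ^ (-2 * l) := by
          rw [← hl', mul_assoc, ← zpow_add]
          congr 2
          ring
        _ = s * (u : G) ^ (-2 * l) := by rw [← hsn]
    have hus : Commute (u : G) (s : G) := hXc _ u.2 _ s.2
    rw [hβ, ← (hus.zpow_left (-2 * l)).eq] at h1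
    have h2 := mul_right_cancel h1
    have h3 : (u : G) ^ (β + 2 * l) = 1 := by
      rw [zpow_add, h2, ← zpow_add]
      have : -2 * l + 2 * l = 0 := by ring
      rw [this, zpow_zero]
    have h4 := hpar _ h3
    obtain ⟨a, rfl⟩ := hβo
    obtain ⟨b, hb⟩ := h4
    omega
  · have h1 : Commute y (u : G) := by
      rw [hyn]
      exact ((hXc _ s.2 _ u.2).zpow_left j).mul_left (hNcomm n hn _ huN)
    rw [h1.eq, mul_inv_cancel_right] at hyinv
    have h2 : (u : G) ^ 2 = 1 := by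
      rw [pow_two]
      nth_rewrite 1 [hyinv]
      exact inv_mul_cancel _
    have h3 := orderOf_dvd_of_pow_eq_one h2
    rw [hku] at h3
    have h4 : 2 ^ k ∣ 2 ^ 1 := by simpa using h3
    rw [Nat.pow_dvd_pow_iff_le_right (by norm_num)] at h4
    omega

end Cfsg.Agent.H25
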