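import Cfsg.Prelude
import Cfsg.Agent.H2.Frobenius
import Cfsg.Agent.H2.NComp
import Cfsg.Agent.H2.Hall

set_option autoImplicit false
open Cfsg

/-!
# Minimal non-`p`-nilpotent groups
-/

namespace Cfsg.Agent.H25

open Subgroup

variable {G : Type*} [Group G]

/-- A group without normal `p`-complement all of whose proper subgroups have one is generated by a
normal `p`-subgroup `X` and an element of prime power order whose `q`-th power centralizes `X`. -/
theorem exists_min_pair [Finite G] {p : ℕ} [hp : Fact p.Prime] (hno : ¬ HasNormalPComplement p G)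
    (hsub : ∀ H : Subgroup G, H ≠ ⊤ → HasNormalPComplement p H) :
    ∃ (X : Subgroup G) (g : G) (q : ℕ), X.Normal ∧ IsPGroup p X ∧ q.Prime ∧ q ≠ p ∧
      (∃ f, orderOf g = q ^ f) ∧ g ∉ centralizer (X : Set G) ∧ X ⊔ zpowers g = ⊤ ∧
      g ^ q ∈ centralizer (X : Set G) := by
  classical
  have hex : ∃ n : ℕ, ∃ (X : Subgroup G) (g : G), IsPGroup p X ∧ g ∈ normalizer (X : Set G) ∧
      (orderOf g).Coprime p ∧ g ∉ centralizer (X : Set G) ∧ orderOf g = n := by
    by_contra hcon
    apply hno
    apply H2.hasNormalPComplement_of_centralizer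
    intro X hX g hg hg'
    by_contra hgc
    exact hcon ⟨orderOf g, X, g, hX, hg, hg', hgc, rfl⟩
  obtain ⟨X, g, hX, hgX, hgp, hgc, hn⟩ := Nat.find_spec hex
  have hmin := fun m hm => Nat.find_min hex (m := m) hm
  have htop : X ⊔ zpowers g = ⊤ := by
    by_contra hne
    have h1 := hsub _ hne
    have hXH : X ≤ X ⊔ zpowers g := le_sup_left
    have hgH : g ∈ X ⊔ zpowers g := (le_sup_right : zpowers g ≤ X ⊔ zpowers g) (mem_zpowers g)
    have h2 := H2.mem_centralizer_of_hasNormalPComplement h1 (X := X.subgroupOf (X ⊔ zpowers g))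
      (hX.comap_of_injective _ (subtype_injective _)) (g := ⟨g, hgH⟩) (by
        rw [mem_normalizer_iff]
        intro y
        rw [mem_subgroupOf, mem_subgroupOf]
        exact (mem_normalizer_iff.1 hgX y)) (by rw [Subgroup.orderOf_mk]; exact hgp)
    apply hgc
    rw [mem_centralizer_iff] at h2 ⊢
    intro x hx
    exact congrArg Subtype.val (h2 ⟨x, hXH hx⟩ hx)
  have hXn : X.Normal := by
    rw [← normalizer_eq_top_iff, eq_top_iff, ← htop, sup_le_iff]
    exact ⟨le_normalizer, by rw [zpowers_le]; exact hgX⟩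
  have hpow : ∀ r : ℕ, r.Prime → r ∣ orderOf g → g ^ r ∈ centralizer (X : Set G) := by
    intro r hr hrg
    by_contra hcon
    have h1 : orderOf (g ^ r) = orderOf g / r := by
      rw [orderOf_pow_of_dvd hr.ne_zero hrg]
    have h2 : orderOf (g ^ r) ∣ orderOf g := orderOf_pow_dvd r
    refine hmin (orderOf (g ^ r)) ?_ ⟨X, g ^ r, hX, pow_mem hgX r, Nat.Coprime.coprime_dvd_left h2 hgp, hcon, rfl⟩
    rw [h1, ← hn]
    exact Nat.div_lt_self (orderOf_pos g) hr.one_lt
  have hg1 : orderOf g ≠ 1 := by
    intro h
    rw [orderOf_eq_one_iff] at h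
    apply hgc
    rw [h]
    exact one_mem _
  have hqp := Nat.minFac_prime hg1
  set q := (orderOf g).minFac with hq
  have hqg : q ∣ orderOf g := Nat.minFac_dvd _
  have huniq : ∀ {r : ℕ}, r.Prime → r ∣ orderOf g → r = q := by
    intro r hr hrg
    by_contra hrq
    have hcop : IsCoprime (r : ℤ) (q : ℤ) := Nat.isCoprime_iff_coprime.2 ((Nat.coprime_primes hr hqp).2 hrq)
    obtain ⟨a, b, hab⟩ := hcop
    apply hgc
    have h1 : g = (g ^ r) ^ a * (g ^ q) ^ b := by
      rw [← zpow_natCast, ← zpow_natCast, ← zpow_mul, ← zpow_mul, ← zpow_add]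
      have : (r : ℤ) * a + (q : ℤ) * b = 1 := by linarith
      rw [this, zpow_one]
    rw [h1]
    exact mul_mem (zpow_mem (hpow r hr hrg) a) (zpow_mem (hpow q hqp hqg) b)
  refine ⟨X, g, q, hXn, hX, hqp, ?_, ⟨_, Nat.eq_prime_pow_of_unique_prime_dvd (orderOf_pos g).ne' huniq⟩,
    hgc, htop, hpow q hqp hqg⟩
  rintro h
  rw [h] at hqg
  exact Nat.not_coprime_of_dvd_of_dvd hp.out.one_lt hqg dvd_rfl hgp

/-- If moreover `O_{p'}(G) = 1` and all proper quotients have a normal `p`-complement, then no
element of `G` has order the exponent of `G`. -/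
theorem min_pair_exponent [Finite G] {p : ℕ} [hp : Fact p.Prime] (hno : ¬ HasNormalPComplement p G)
    (hsub : ∀ H : Subgroup G, H ≠ ⊤ → HasNormalPComplement p H)
    (hquo : ∀ (N : Subgroup G) [N.Normal], N ≠ ⊥ → HasNormalPComplement p (G ⧸ N))
    (k : G) : orderOf k ≠ Monoid.exponent G := by
  obtain ⟨X, g, q, hXn, hX, hq, hqp, ⟨f, hf⟩, hgc, htop, hgq⟩ := exists_min_pair hno hsub
  haveI : Fact q.Prime := ⟨hq⟩
  have hO : ∀ (N : Subgroup G) [N.Normal], ¬ p ∣ Nat.card N → N = ⊥ := by
    intro N _ hN
    by_contra hne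
    exact hno (H2.HasNormalPComplement.of_quotient_of_coprime N hN (hquo N hne))
  -- `g` has order `q`
  have hgpow : g ^ q = 1 := by
    have hnorm : (zpowers (g ^ q)).Normal := by
      rw [← normalizer_eq_top_iff, eq_top_iff, ← htop, sup_le_iff, zpowers_le]
      constructor
      · intro x hx
        rw [mem_normalizer_iff]
        have hcx : ∀ y ∈ zpowers (g ^ q), x * y * x⁻¹ = y := by
          rintro _ ⟨i, rfl⟩
          have h1 := (zpow_mem hgq i : (g ^ q) ^ i ∈ centralizer (X : Set G))
          rw [mem_centralizer_iff] at h1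
          have := h1 x hx
          show x * (g ^ q) ^ i * x⁻¹ = (g ^ q) ^ i
          rw [this, mul_inv_cancel_right]
        intro y
        constructor
        · intro hy
          rw [hcx y hy]; exact hy
        · intro hy
          have h2 : y = x⁻¹ * (x * y * x⁻¹) * x := by group
          have h3 := hcx _ hy
          have h4 : y = x * y * x⁻¹ := by
            have : x * (x * y * x⁻¹) * x⁻¹ = x * y * x⁻¹ := h3
            have h5 : x * y * x⁻¹ = y := mul_left_cancel (mul_right_cancel this)
            exact h5.symm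
          rw [h4]; exact hy
      · rw [mem_normalizer_iff]
        intro y
        have hcy : ∀ y ∈ zpowers (g ^ q), g * y * g⁻¹ = y := by
          rintro _ ⟨i, rfl⟩
          show g * (g ^ q) ^ i * g⁻¹ = (g ^ q) ^ i
          have : Commute g ((g ^ q) ^ i) := ((Commute.refl g).pow_right q).zpow_right i
          rw [this.eq, mul_inv_cancel_right]
        constructor
        · intro hy
          rw [hcy y hy]; exact hy
        · intro hy
          have h3 := hcy _ hy
          have h5 : g * y * g⁻¹ = y := mul_left_cancel (mul_right_cancel h3)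
          rw [← h5]; exact hy
    have h1 := hO (zpowers (g ^ q)) (by
      rw [Nat.card_zpowers]
      intro h
      have h2 : orderOf (g ^ q) ∣ q ^ f := hf ▸ orderOf_pow_dvd q
      have h3 := (Nat.prime_dvd_prime_iff_eq hp.out hq).1 (hp.out.dvd_of_dvd_pow (h.trans h2))
      exact hqp h3.symm)
    rwa [zpowers_eq_bot] at h1
  have hg1 : g ≠ 1 := by
    rintro rfl
    exact hgc (one_mem _)
  have hordg : orderOf g = q := orderOf_eq_prime hgpow hg1
  have hXg : X ⊓ zpowers g = ⊥ := by
    apply inf_eq_bot_of_coprime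
    obtain ⟨n, hn⟩ := IsPGroup.iff_card.1 hX
    rw [hn, Nat.card_zpowers, hordg]
    exact Nat.Coprime.pow_left n ((Nat.coprime_primes hp.out hq).2 hqp.symm)
  have hX1 : X ≠ ⊥ := by
    rintro rfl
    apply hgc
    rw [mem_centralizer_iff]
    intro x hx
    rw [(mem_bot.1 hx : x = 1)]; simp
  have hpX : p ∣ Nat.card X := by
    rcases hX.card_eq_or_dvd with h | h
    · exact absurd (card_eq_one.1 h) hX1
    · exact h
  -- `X` is minimal normal
  have hmin : ∀ R : Subgroup G, R.Normal → R ≤ X → R = ⊥ ∨ R = X := by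
    intro R hR hRX
    by_contra hcon
    push Not at hcon
    obtain ⟨hR1, hR2⟩ := hcon
    -- `g` centralizes `R`
    have hRg : R ⊔ zpowers g ≠ ⊤ := by
      intro h
      apply hR2
      apply le_antisymm hRX
      intro x hx
      have hx' : x ∈ R ⊔ zpowers g := by rw [h]; trivial
      rw [mem_sup_of_normal_left] at hx'
      obtain ⟨r, hr, z, hz, rfl⟩ := hx'
      have h1 : z ∈ X ⊓ zpowers g := ⟨(X.mul_mem_cancel_left (hRX hr)).1 hx, hz⟩
      rw [hXg, mem_bot] at h1
      rw [h1, mul_one]; exact hr
    have hRc : g ∈ centralizer (R : Set G) := by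
      have hgH : g ∈ R ⊔ zpowers g := (le_sup_right : zpowers g ≤ R ⊔ zpowers g) (mem_zpowers g)
      have h2 := H2.mem_centralizer_of_hasNormalPComplement (hsub _ hRg)
        (X := R.subgroupOf (R ⊔ zpowers g))
        ((hX.to_le hRX).comap_of_injective _ (subtype_injective _)) (g := ⟨g, hgH⟩) (by
          rw [mem_normalizer_iff]
          intro y
          rw [mem_subgroupOf, mem_subgroupOf]
          exact ⟨fun h => hR.conj_mem _ h g, fun h => by
            have := hR.conj_mem _ h g⁻¹
            simpa [mul_assoc] using this⟩) (by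
          rw [Subgroup.orderOf_mk, hordg]
          exact (Nat.coprime_primes hq hp.out).2 hqp)
      rw [mem_centralizer_iff] at h2 ⊢
      intro x hx
      exact congrArg Subtype.val (h2 ⟨x, (le_sup_left : R ≤ R ⊔ zpowers g) hx⟩ hx)
    -- `g` centralizes `X / R`
    have hXR : ∀ x ∈ X, x⁻¹ * (g * x * g⁻¹) ∈ R := by
      intro x hx
      have h2 := H2.mem_centralizer_of_hasNormalPComplement (hquo R hR1)
        (X := X.map (QuotientGroup.mk' R)) (hX.map _) (g := QuotientGroup.mk' R g) (by
          rw [mem_normalizer_iff]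
          intro y
          have hn : (X.map (QuotientGroup.mk' R)).Normal :=
            hXn.map _ (QuotientGroup.mk'_surjective R)
          exact ⟨fun h => hn.conj_mem _ h _, fun h => by
            have := hn.conj_mem _ h (QuotientGroup.mk' R g)⁻¹
            simpa [mul_assoc] using this⟩) (by
          apply Nat.Coprime.coprime_dvd_left (orderOf_map_dvd _ g)
          rw [hordg]
          exact (Nat.coprime_primes hq hp.out).2 hqp)
      rw [mem_centralizer_iff] at h2
      have h3 := h2 _ ⟨x, hx, rfl⟩
      rw [← map_mul, ← map_mul] at h3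
      have h4 := QuotientGroup.eq.1 h3
      have h5 : (x * g)⁻¹ * (g * x) = g⁻¹ * (x⁻¹ * (g * x * g⁻¹)) * g := by group
      rw [h5] at h4
      have := hR.conj_mem _ h4 g
      have h6 : g * (g⁻¹ * (x⁻¹ * (g * x * g⁻¹)) * g) * g⁻¹ = x⁻¹ * (g * x * g⁻¹) := by group
      rwa [h6] at this
    apply hgc
    rw [mem_centralizer_iff] at hRc ⊢
    intro x hx
    set r := x⁻¹ * (g * x * g⁻¹) with hr
    have hrR : r ∈ R := hXR x hx
    have hgr : ∀ i : ℕ, g ^ i * x * (g ^ i)⁻¹ = x * r ^ i := by
      intro i
      induction i with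
      | zero => simp
      | succ i ih =>
        have h1 : g ^ (i + 1) * x * (g ^ (i + 1))⁻¹ = g * (g ^ i * x * (g ^ i)⁻¹) * g⁻¹ := by
          rw [pow_succ']; group
        have h2 : g * (x * r ^ i) * g⁻¹ = (g * x * g⁻¹) * (g * r ^ i * g⁻¹) := by group
        have h3 : g * r ^ i * g⁻¹ = r ^ i := by
          rw [← hRc (r ^ i) (R.pow_mem hrR i), mul_inv_cancel_right]
        have h4 : g * x * g⁻¹ = x * r := by rw [hr]; group
        rw [h1, ih, h2, h3, h4, pow_succ', mul_assoc]
    have h1 := hgr q
    rw [hgpow, one_mul, inv_one, mul_one] at h1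
    have h2 : r ^ q = 1 := by
      have := h1.symm
      rwa [mul_eq_left] at this
    have h3 : r = 1 := by
      obtain ⟨j, hj⟩ := hX ⟨r, hRX hrR⟩
      have hj' : r ^ p ^ j = 1 := congrArg Subtype.val hj
      rw [← orderOf_eq_one_iff]
      exact Nat.eq_one_of_dvd_coprimes (Nat.Coprime.pow_right j ((Nat.coprime_primes hq hp.out).2 hqp))
        (orderOf_dvd_of_pow_eq_one h2) (orderOf_dvd_of_pow_eq_one hj')
    have h4 : g * x * g⁻¹ = x := by
      have : g * x * g⁻¹ = x * r := by rw [hr]; group
      rw [this, h3, mul_one]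
    rw [mul_inv_eq_iff_eq_mul] at h4
    exact h4.symm
  -- `X` is abelian
  have hXc : ∀ x ∈ X, ∀ y ∈ X, x * y = y * x := by
    haveI hXnt : Nontrivial X := (nontrivial_iff_ne_bot X).2 hX1
    have hZ := hX.center_nontrivial
    haveI : ((center X).map X.subtype).Normal := by
      haveI := hXn
      infer_instance
    rcases hmin ((center X).map X.subtype) inferInstance (map_subtype_le _) with h | h
    · exfalso
      rw [map_eq_bot_iff_of_injective _ X.subtype_injective] at h
      rw [h] at hZ
      exact not_nontrivial _ hZ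
    · intro x hx y hy
      have hx' : x ∈ (center X).map X.subtype := by rw [h]; exact hx
      obtain ⟨z, hz, rfl⟩ := hx'
      have := mem_center_iff.1 hz ⟨y, hy⟩
      exact (congrArg Subtype.val this).symm
  -- nothing in `X` commutes with `g`
  have hfpf : ∀ x ∈ X, g * x = x * g → x = 1 := by
    have hnorm : (X ⊓ centralizer {g}).Normal := by
      rw [← normalizer_eq_top_iff, eq_top_iff, ← htop, sup_le_iff, zpowers_le]
      constructor
      · intro x hx
        rw [mem_normalizer_iff]
        intro y
        have hcy : ∀ y ∈ X, x * y * x⁻¹ = y := by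
          intro y hy
          rw [hXc x hx y hy, mul_inv_cancel_right]
        constructor
        · intro hy
          rw [hcy y hy.1]; exact hy
        · intro hy
          have hyX : y ∈ X := by
            have := X.mul_mem (X.mul_mem (X.inv_mem hx) hy.1) hx
            have h1 : x⁻¹ * (x * y * x⁻¹) * x = y := by group
            rwa [h1] at this
          rw [hcy y hyX] at hy
          exact hy
      · rw [mem_normalizer_iff]
        intro y
        constructor
        · rintro ⟨hy1, hy2⟩
          have h1 : g * y * g⁻¹ = y := by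
            have h2 : y * g = g * y := (mem_centralizer_singleton_iff.1 hy2)
            rw [← h2, mul_inv_cancel_right]
          rw [h1]; exact ⟨hy1, hy2⟩
        · rintro ⟨hy1, hy2⟩
          have h2 : (g * y * g⁻¹) * g = g * (g * y * g⁻¹) := (mem_centralizer_singleton_iff.1 hy2)
          have h3 : g * y * g⁻¹ = y := by
            have h4 : g * y = g * (g * y * g⁻¹) := by rw [← h2]; group
            exact (mul_left_cancel h4).symm
          rw [h3] at hy1 hy2
          exact ⟨hy1, hy2⟩
    rcases hmin _ hnorm inf_le_left with h | h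
    · intro x hx hgx
      have : x ∈ X ⊓ centralizer {g} := ⟨hx, mem_centralizer_singleton_iff.2 hgx.symm⟩
      rw [h] at this
      exact this
    · exfalso
      apply hgc
      rw [mem_centralizer_iff]
      intro x hx
      have : x ∈ X ⊓ centralizer {g} := by rw [h]; exact hx
      exact mem_centralizer_singleton_iff.1 this.2
  -- the index of `X`
  have hidx : X.index = q := by
    have h1 : X.IsComplement' (zpowers g) := by
      apply isComplement'_of_disjoint_and_mul_eq_univ
      · rw [disjoint_iff]; exact hXg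
      · rw [← normal_mul, htop]; rfl
    rw [h1.symm.index_eq_card, Nat.card_zpowers, hordg]
  intro hk
  have hexp : Monoid.exponent G ≠ 0 := Monoid.exponent_ne_zero_of_finite
  have hqe : q ∣ orderOf k := by
    rw [hk, ← hordg]; exact Monoid.order_dvd_exponent g
  have hpe : p ∣ orderOf k := by
    obtain ⟨x, hx⟩ := exists_prime_orderOf_dvd_card' p hpX
    rw [hk]
    have h2 := Monoid.order_dvd_exponent (x : G)
    rw [orderOf_coe, hx] at h2
    exact h2
  obtain ⟨m, hm⟩ := hqe
  obtain ⟨n, hn⟩ := hpe
  have hm0 : m ≠ 0 := by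
    rintro rfl
    rw [mul_zero] at hm
    exact (orderOf_pos k).ne' hm
  have hn0 : n ≠ 0 := by
    rintro rfl
    rw [mul_zero] at hn
    exact (orderOf_pos k).ne' hn
  have ha : orderOf (k ^ m) = q := by
    rw [orderOf_pow_of_dvd hm0 (by rw [hm]; exact Dvd.intro_left _ rfl), hm]
    exact Nat.mul_div_cancel _ (Nat.pos_of_ne_zero hm0)
  have hb : orderOf (k ^ n) = p := by
    rw [orderOf_pow_of_dvd hn0 (by rw [hn]; exact Dvd.intro_left _ rfl), hn]
    exact Nat.mul_div_cancel _ (Nat.pos_of_ne_zero hn0)
  have hbX : k ^ n ∈ X := by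
    rw [← QuotientGroup.eq_one_iff, ← orderOf_eq_one_iff]
    have h1 : orderOf ((k ^ n : G) : G ⧸ X) ∣ q := by
      have := orderOf_dvd_natCard ((k ^ n : G) : G ⧸ X)
      rwa [← index_eq_card, hidx] at this
    have h2 : orderOf ((k ^ n : G) : G ⧸ X) ∣ p := by
      have := orderOf_map_dvd (QuotientGroup.mk' X) (k ^ n)
      rwa [hb] at this
    exact Nat.eq_one_of_dvd_coprimes ((Nat.coprime_primes hq hp.out).2 hqp) h1 h2
  have haX : k ^ m ∉ X := by
    intro h
    obtain ⟨j, hj⟩ := hX ⟨_, h⟩
    have hj' : (k ^ m) ^ p ^ j = 1 := congrArg Subtype.val hj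
    have h1 := orderOf_dvd_of_pow_eq_one hj'
    rw [ha] at h1
    exact hqp ((Nat.prime_dvd_prime_iff_eq hq hp.out).1 (hq.dvd_of_dvd_pow h1))
  -- the centralizer of `k ^ n` is everything
  have hC : centralizer {k ^ n} = ⊤ := by
    have hle : X ≤ centralizer {k ^ n} := by
      intro x hx
      rw [mem_centralizer_singleton_iff]
      exact hXc x hx _ hbX
    have h1 : X.relIndex (centralizer {k ^ n}) * (centralizer {k ^ n}).index = X.index :=
      relIndex_mul_index hle
    rw [hidx] at h1
    have h2 : (centralizer {k ^ n}).index ∣ q := Dvd.intro_left _ h1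
    rcases (Nat.dvd_prime hq).1 h2 with h3 | h3
    · exact index_eq_one.1 h3
    · exfalso
      rw [h3] at h1
      have h4 : X.relIndex (centralizer {k ^ n}) = 1 :=
        Nat.eq_of_mul_eq_mul_right hq.pos (by rw [h1, one_mul])
      rw [relIndex_eq_one] at h4
      apply haX
      apply h4
      rw [mem_centralizer_singleton_iff]
      exact (Commute.pow_pow_self k m n).eq
  have hgC : g ∈ centralizer {k ^ n} := by rw [hC]; trivial
  rw [mem_centralizer_singleton_iff] at hgC
  have := hfpf _ hbX hgC
  rw [this, orderOf_one] at hb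
  exact hp.out.one_lt.ne hb

end Cfsg.Agent.H25
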