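import Cfsg.Agent.H25.OrdType3

/-!
# More factors used for the order type example (helper25)
-/

set_option autoImplicit false
set_option maxRecDepth 100000

namespace Cfsg.Agent.H25.OT

open Finset

/-- A group of order 64 and exponent 4. -/
@[ext]
structure T6 where
  x0 : ZMod 2
  x1 : ZMod 2
  x2 : ZMod 2
  x3 : ZMod 2
  z1 : ZMod 2
  z2 : ZMod 2

namespace T6

instance : Mul T6 := ⟨fun x y => ⟨x.x0 + y.x0, x.x1 + y.x1, x.x2 + y.x2, x.x3 + y.x3,
  x.z1 + y.z1 + x.x0 * y.x1, x.z2 + y.z2 + (x.x0 * y.x2 + x.x0 * y.x3 + x.x2 * y.x3)⟩⟩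
instance : One T6 := ⟨⟨0, 0, 0, 0, 0, 0⟩⟩
instance : Inv T6 := ⟨fun x => ⟨-x.x0, -x.x1, -x.x2, -x.x3, -x.z1 + x.x0 * x.x1,
  -x.z2 + (x.x0 * x.x2 + x.x0 * x.x3 + x.x2 * x.x3)⟩⟩

@[simp] theorem mul_x0 (x y : T6) : (x * y).x0 = x.x0 + y.x0 := rfl
@[simp] theorem mul_x1 (x y : T6) : (x * y).x1 = x.x1 + y.x1 := rfl
@[simp] theorem mul_x2 (x y : T6) : (x * y).x2 = x.x2 + y.x2 := rfl
@[simp] theorem mul_x3 (x y : T6) : (x * y).x3 = x.x3 + y.x3 := rfl
@[simp] theorem mul_z1 (x y : T6) : (x * y).z1 = x.z1 + y.z1 + x.x0 * y.x1 := rfl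
@[simp] theorem mul_z2 (x y : T6) :
    (x * y).z2 = x.z2 + y.z2 + (x.x0 * y.x2 + x.x0 * y.x3 + x.x2 * y.x3) := rfl
@[simp] theorem one_x0 : (1 : T6).x0 = 0 := rfl
@[simp] theorem one_x1 : (1 : T6).x1 = 0 := rfl
@[simp] theorem one_x2 : (1 : T6).x2 = 0 := rfl
@[simp] theorem one_x3 : (1 : T6).x3 = 0 := rfl
@[simp] theorem one_z1 : (1 : T6).z1 = 0 := rfl
@[simp] theorem one_z2 : (1 : T6).z2 = 0 := rfl
@[simp] theorem inv_x0 (x : T6) : (x⁻¹).x0 = -x.x0 := rfl
@[simp] theorem inv_x1 (x : T6) : (x⁻¹).x1 = -x.x1 := rfl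
@[simp] theorem inv_x2 (x : T6) : (x⁻¹).x2 = -x.x2 := rfl
@[simp] theorem inv_x3 (x : T6) : (x⁻¹).x3 = -x.x3 := rfl
@[simp] theorem inv_z1 (x : T6) : (x⁻¹).z1 = -x.z1 + x.x0 * x.x1 := rfl
@[simp] theorem inv_z2 (x : T6) :
    (x⁻¹).z2 = -x.z2 + (x.x0 * x.x2 + x.x0 * x.x3 + x.x2 * x.x3) := rfl

instance : Group T6 := Group.ofLeftAxioms
  (fun x y z => by ext <;> simp <;> ring)
  (fun x => by ext <;> simp)
  (fun x => by
    ext <;> simp only [mul_x0, mul_x1, mul_x2, mul_x3, mul_z1, mul_z2, inv_x0, inv_x1, inv_x2,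
      inv_x3, inv_z1, inv_z2, one_x0, one_x1, one_x2, one_x3, one_z1, one_z2] <;> ring)

/-- As a set. -/
def equivProd : T6 ≃ ZMod 2 × ZMod 2 × ZMod 2 × ZMod 2 × ZMod 2 × ZMod 2 where
  toFun x := (x.x0, x.x1, x.x2, x.x3, x.z1, x.z2)
  invFun x := ⟨x.1, x.2.1, x.2.2.1, x.2.2.2.1, x.2.2.2.2.1, x.2.2.2.2.2⟩
  left_inv _ := rfl
  right_inv _ := rfl

instance : Fintype T6 := Fintype.ofEquiv _ equivProd.symm
instance : DecidableEq T6 := fun x y =>
  decidable_of_iff (x.x0 = y.x0 ∧ x.x1 = y.x1 ∧ x.x2 = y.x2 ∧ x.x3 = y.x3 ∧ x.z1 = y.z1 ∧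
    x.z2 = y.z2) (T6.ext_iff).symm

/-- the projection onto the last coordinate. -/
def p3 : T6 →* Cy 2 where
  toFun x := Multiplicative.ofAdd x.x3
  map_one' := rfl
  map_mul' _ _ := rfl

end T6

/-- a group of order 448 -/
abbrev G448 : Type := Sd 7 T6 (chi2.comp T6.p3)

theorem tab_G448 : Tab G448 (tb [1, 76, 1, 256, 76, 7, 256, 196, 7, 448, 196, 448]) :=
  Tab.ofSd (by decide +kernel) (by decide +kernel)

/-- a group of order 1344 -/
abbrev G1344 : Type := Sd 7 (Cy 3 × T6) (prodChar chi3 (chi2.comp T6.p3))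

theorem tab_G1344 : Tab G1344 (tb [1, 76, 15, 256, 468, 7, 1152, 196, 21, 448, 588, 1344]) :=
  Tab.ofSd (by decide +kernel) (by decide +kernel)

/-- character of `D₈` -/
def eps7 : DihedralGroup 4 →* ZMod 7 where
  toFun g := match g with
    | DihedralGroup.r i => (-1) ^ i.val
    | DihedralGroup.sr i => (-1) ^ i.val
  map_one' := by decide +kernel
  map_mul' := by decide +kernel

/-- character of `D₈` -/
def eps3 : DihedralGroup 4 →* ZMod 3 where
  toFun g := match g with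
    | DihedralGroup.r i => (-1) ^ i.val
    | DihedralGroup.sr i => (-1) ^ (i.val + 1)
  map_one' := by decide +kernel
  map_mul' := by decide +kernel

/-- a group of order 168 -/
abbrev G168c : Type := Sd 3 (Sd 7 (DihedralGroup 4) eps7) (eps3.comp Sv.proj)

instance fact3 : Fact (Nat.Prime 3) := ⟨by norm_num⟩

theorem tab_G168c : Tab G168c (tb [1, 22, 3, 64, 54, 7, 96, 70, 21, 112, 126, 168]) :=
  Tab.ofSd (by decide +kernel) (by decide +kernel)

/-! ### `AΓL(1,8)` -/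

/-- the field with 8 elements, additively. -/
abbrev V8 : Type := ZMod 2 × ZMod 2 × ZMod 2

/-- multiplication by a generator `α` with `α³ = α + 1`. -/
def mulα : AddMonoid.End V8 where
  toFun x := (x.2.2, x.1 + x.2.2, x.2.1)
  map_zero' := by decide +kernel
  map_add' := by decide +kernel

/-- squaring. -/
def frob : AddMonoid.End V8 where
  toFun x := (x.1, x.2.2, x.2.1 + x.2.2)
  map_zero' := by decide +kernel
  map_add' := by decide +kernel

/-- The action of `7 : 3` on `V8`. -/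
def act8 : F21 →* AddMonoid.End V8 where
  toFun x := mulα ^ x.a.val * frob ^ (Multiplicative.toAdd x.h).val
  map_one' := by
    refine AddMonoidHom.ext ?_
    decide +kernel
  map_mul' := by
    have h : ∀ x y : F21, ∀ v : V8,
      (mulα ^ (x * y).a.val * frob ^ (Multiplicative.toAdd (x * y).h).val : AddMonoid.End V8) v =
      ((mulα ^ x.a.val * frob ^ (Multiplicative.toAdd x.h).val) *
        (mulα ^ y.a.val * frob ^ (Multiplicative.toAdd y.h).val) : AddMonoid.End V8) v := by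
      decide +kernel
    exact fun x y => AddMonoidHom.ext (h x y)

/-- `AΓL(1,8)` -/
abbrev AGL8 : Type := Sv V8 F21 act8

theorem tab_AGL8 : Tab AGL8 (tb [1, 8, 57, 8, 120, 49, 120, 56, 105, 56, 168, 168]) :=
  Tab.ofFilter (by decide +kernel) (by decide +kernel)

end Cfsg.Agent.H25.OT
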