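import Cfsg.Agent.H23.MaxClass4
import Cfsg.Agent.H19.Cube
import Mathlib

/-!
# `2`-groups of sectional rank two
-/

set_option autoImplicit false
set_option linter.style.haveILetI false

namespace Cfsg.Agent.H25

open Subgroup Cfsg.Agent.H23

theorem dqs_of_nonabelian_eight {S : Type*} [Group S] [Finite S] (h2 : IsPGroup 2 S) (B : Subgroup S)
    (hB8 : Nat.card B = 8) (hBn : ¬ IsMulCommutative B) (hC : ∀ c : S, (∀ b ∈ B, c * b = b * c) → c ∈ B) :
    ∃ m, DQS S m := by
  haveI : Fact (Nat.Prime 2) := ⟨Nat.prime_two⟩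
  have hex := H19.extraspecial_of_card_cube (p := 2) (P := B) (by rw [hB8]; norm_num) hBn
  obtain ⟨⟨-, hfr, hcom⟩, hcenter⟩ := hex
  -- noncommuting pair
  obtain ⟨x, y, hxy⟩ : ∃ x y : B, x * y ≠ y * x := by
    by_contra h
    push Not at h
    exact hBn ⟨⟨fun a b => h a b⟩⟩
  set c : B := x * y * x⁻¹ * y⁻¹ with hc
  have hc1 : c ≠ 1 := by
    intro h
    apply hxy
    have : x * y * x⁻¹ * y⁻¹ * (y * x) = y * x := by rw [← hc, h, one_mul]
    rw [← this]; group
  have hcZ : c ∈ center B := by
    rw [← hcom]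
    exact commutator_mem_commutator (mem_top x) (mem_top y)
  have hZ : ∀ z ∈ center B, z = 1 ∨ z = c := by
    intro z hz
    have h1 : Nat.card (center B) = 2 := hcenter
    obtain ⟨w, hw1, hw2⟩ := (Nat.card_eq_two_iff' (1 : center B)).1 h1
    by_cases hz1 : z = 1
    · exact Or.inl hz1
    · right
      have e1 := hw2 ⟨z, hz⟩ (by intro h; exact hz1 (congrArg Subtype.val h))
      have e2 := hw2 ⟨c, hcZ⟩ (by intro h; exact hc1 (congrArg Subtype.val h))
      exact congrArg Subtype.val (e1.trans e2.symm)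
  have hcc : c * c = 1 := by
    rcases hZ (c * c) (mul_mem hcZ hcZ) with h | h
    · exact h
    · exact absurd (mul_eq_left.1 h) hc1
  -- generation
  have hgen : closure ({x, y} : Set B) = ⊤ := by
    apply eq_top_of_card_eq
    have h1 : Nat.card (closure ({x, y} : Set B)) ∣ 8 := by
      rw [← hB8]; exact card_subgroup_dvd_card _
    have h3 : ¬ IsMulCommutative (closure ({x, y} : Set B)) := by
      intro h
      apply hxy
      have := h.is_comm.comm (⟨x, subset_closure (by simp)⟩ : closure ({x, y} : Set B)) ⟨y, subset_closure (by simp)⟩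
      exact congrArg Subtype.val this
    rw [hB8]
    have h4 : Nat.card (closure ({x, y} : Set B)) ∈ Nat.divisors 8 := Nat.mem_divisors.2 ⟨h1, by norm_num⟩
    have h5 : Nat.divisors 8 = {1, 2, 4, 8} := by decide
    rw [h5] at h4
    simp only [Finset.mem_insert, Finset.mem_singleton] at h4
    rcases h4 with h | h | h | h
    · exfalso; apply h3
      haveI : Subsingleton (closure ({x, y} : Set B)) := (Nat.card_eq_one_iff_unique.1 h).1
      exact ⟨⟨fun a b => Subsingleton.elim _ _⟩⟩
    · exfalso; apply h3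
      haveI := isCyclic_of_prime_card h
      exact ⟨⟨fun a b => (IsCyclic.commGroup (α := closure ({x, y} : Set B))).mul_comm a b⟩⟩
    · exfalso; apply h3
      have := IsPGroup.commutative_of_card_eq_prime_sq (p := 2) (G := closure ({x, y} : Set B)) (by rw [h]; norm_num)
      exact ⟨⟨this⟩⟩
    · exact h
  -- centre of S
  have hBS : ∀ b ∈ center S, b ∈ B := fun b hb => hC b fun a _ => ((mem_center_iff.1 hb) a).symm
  have hn8 : 8 ≤ Nat.card S := hB8 ▸ Subgroup.card_le_card_group B
  haveI : Nontrivial S := by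
    rw [← Finite.one_lt_card_iff_nontrivial]; omega
  haveI := h2.center_nontrivial
  have hZS : (c : S) ∈ center S := by
    obtain ⟨⟨z, hz⟩, hz1⟩ := exists_ne (1 : center S)
    have hzB := hBS z hz
    have : (⟨z, hzB⟩ : B) ∈ center B := by
      rw [mem_center_iff]
      intro g
      apply Subtype.ext
      exact (mem_center_iff.1 hz) g
    rcases hZ _ this with h | h
    · exfalso; apply hz1
      apply Subtype.ext
      have e : z = 1 := congrArg (fun w : B => (w : S)) h
      exact e
    · rw [← h]; exact hz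
  have hZS2 : ∀ z ∈ center S, z = 1 ∨ z = c := by
    intro z hz
    have hzB := hBS z hz
    have : (⟨z, hzB⟩ : B) ∈ center B := by
      rw [mem_center_iff]
      intro g
      apply Subtype.ext
      exact (mem_center_iff.1 hz) g
    rcases hZ _ this with h | h
    · exact Or.inl (congrArg Subtype.val h)
    · exact Or.inr (congrArg Subtype.val h)
  have hZcard : Nat.card (center S) = 2 := by
    rw [Nat.card_eq_two_iff' (1 : center S)]
    refine ⟨⟨c, hZS⟩, ?_, ?_⟩
    · intro h
      have e : (c : S) = 1 := congrArg (fun w : center S => (w : S)) h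
      exact hc1 (Subtype.ext e)
    · rintro ⟨z, hz⟩ hne
      apply Subtype.ext
      rcases hZS2 z hz with h | h
      · exact absurd (Subtype.ext h) hne
      · exact h
  obtain ⟨n, hn⟩ := IsPGroup.iff_card.1 h2
  have hn3 : 3 ≤ n := by
    by_contra h
    have : n ≤ 2 := by omega
    have := Nat.pow_le_pow_right (n := 2) (by norm_num) this
    omega
  -- the quotient
  let S' := S ⧸ center S
  have hS' : Nat.card S' = 2 ^ (n - 1) := by
    have h1 := card_eq_card_quotient_mul_card_subgroup (center S)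
    rw [hZcard, hn] at h1
    have h3 : 2 ^ n = 2 ^ (n - 1) * 2 := by rw [← pow_succ]; congr 1; omega
    rw [h3] at h1
    exact (Nat.eq_of_mul_eq_mul_right (by norm_num) h1).symm
  let A : Subgroup S' := B.map (QuotientGroup.mk' (center S))
  have hZB : center S ≤ B := hBS
  have hA : Nat.card A = 2 ^ 2 := by
    have h1 : A.index = B.index := by
      have := index_map_eq (f := QuotientGroup.mk' (center S)) (H := B) (QuotientGroup.mk'_surjective _) (by rw [QuotientGroup.ker_mk']; exact hZB)
      exact this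
    have h3 := card_mul_index A
    have h4 := card_mul_index B
    rw [h1, hS'] at h3
    rw [hB8, hn] at h4
    have h5 : 2 ^ n = 2 ^ (n - 1) * 2 := by rw [← pow_succ]; congr 1; omega
    rw [h5, ← h3] at h4
    have h6 : B.index ≠ 0 := index_ne_zero_of_finite
    have h7 : Nat.card A * B.index * 2 = (Nat.card A * 2) * B.index := by ring
    rw [h7] at h4
    have := Nat.eq_of_mul_eq_mul_right (Nat.pos_of_ne_zero h6) h4
    omega
  have hAC : centralizer (A : Set S') = A := by
    apply le_antisymm
    · intro g' hg'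
      obtain ⟨g, rfl⟩ := QuotientGroup.mk_surjective g'
      have h1 : ∀ b : B, g * b * g⁻¹ * (b : S)⁻¹ = 1 ∨ g * b * g⁻¹ * (b : S)⁻¹ = c := by
        intro b
        apply hZS2
        rw [← QuotientGroup.eq_one_iff]
        have h3 := (mem_centralizer_iff.1 hg') ((b : S) : S') ⟨b, b.2, rfl⟩
        have h4 : (((g * b * g⁻¹ * (b : S)⁻¹ : S)) : S') = (g : S') * ((b : S) : S') * (g : S')⁻¹ * (((b : S) : S'))⁻¹ := rfl
        rw [h4, ← h3]; group
      have hcC : ∀ g : S, (c : S) * g = g * c := fun g => ((mem_center_iff.1 hZS) g).symm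
      have hcS : (c : S) * c = 1 := by exact_mod_cast congrArg Subtype.val hcc
      have hcS' : (c : S) = (x : S) * (y : S) * (x : S)⁻¹ * (y : S)⁻¹ := by rw [hc]; push_cast; rfl
      have hcomm : ∀ b0 : B, (b0 : S)⁻¹ * g * x = x * ((b0 : S)⁻¹ * g) → (b0 : S)⁻¹ * g * y = y * ((b0 : S)⁻¹ * g) → g ∈ B := by
        intro b0 e1 e2
        have h5 : (b0 : S)⁻¹ * g ∈ B := by
          apply hC
          intro b hb
          have h6 : (⟨b, hb⟩ : B) ∈ closure ({x, y} : Set B) := by rw [hgen]; trivial
          have h7 : closure ({x, y} : Set B) ≤ (centralizer ({(b0 : S)⁻¹ * g} : Set S)).subgroupOf B := by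
            rw [closure_le]
            rintro w (rfl | rfl)
            · rw [SetLike.mem_coe, mem_subgroupOf, mem_centralizer_singleton_iff]; exact e1.symm
            · rw [SetLike.mem_coe, mem_subgroupOf, mem_centralizer_singleton_iff]; exact e2.symm
          have h8 := h7 h6
          rw [mem_subgroupOf, mem_centralizer_singleton_iff] at h8
          exact h8.symm
        have := mul_mem b0.2 h5
        rwa [mul_inv_cancel_left] at this
      have hyx : (y : S) * x = c * (x * y) := by
        have : (c : S) * (y * x) = x * y := by rw [hcS']; group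
        rw [← this, ← mul_assoc, hcS, one_mul]
      have hgx := h1 x
      have hgy := h1 y
      have hgx' : g * x = x * g ∨ g * x = c * (x * g) := by
        rcases hgx with h | h
        · left
          have : g * x * g⁻¹ * (x : S)⁻¹ * (x * g) = g * x := by group
          rw [← this, h, one_mul]
        · right
          have : g * x * g⁻¹ * (x : S)⁻¹ * (x * g) = g * x := by group
          rw [← this, h]
      have hgy' : g * y = y * g ∨ g * y = c * (y * g) := by
        rcases hgy with h | h
        · left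
          have : g * y * g⁻¹ * (y : S)⁻¹ * (y * g) = g * y := by group
          rw [← this, h, one_mul]
        · right
          have : g * y * g⁻¹ * (y : S)⁻¹ * (y * g) = g * y := by group
          rw [← this, h]
      refine ⟨g, ?_, rfl⟩
      show g ∈ B
      -- b0⁻¹ g b = b b0⁻¹ g  iff  g b = b0 b b0⁻¹ g
      have conv : ∀ b0 b : S, g * b = b0 * b * b0⁻¹ * g → b0⁻¹ * g * b = b * (b0⁻¹ * g) := by
        intro b0 b h
        rw [mul_assoc, h]; group
      have exy : (x : S) * y * (x : S)⁻¹ = c * y := by rw [hcS']; group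
      have eyx : (y : S) * x * (y : S)⁻¹ = c * x := by
        rw [hyx]; group
      rcases hgx' with e1 | e1 <;> rcases hgy' with e2 | e2
      · refine hcomm 1 ?_ ?_
        · simpa using e1
        · simpa using e2
      · refine hcomm x (conv _ _ ?_) (conv _ _ ?_)
        · rw [e1]; group
        · rw [e2, exy, mul_assoc]
      · refine hcomm y (conv _ _ ?_) (conv _ _ ?_)
        · rw [e1, eyx, mul_assoc]
        · rw [e2]; group
      · refine hcomm (x * y) (conv _ _ ?_) (conv _ _ ?_)
        · rw [e1]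
          push_cast
          have : (x : S) * y * x * ((x : S) * y)⁻¹ = c * x := by
            have : (x : S) * y * x * ((x : S) * y)⁻¹ = x * (y * x * (y : S)⁻¹) * (x : S)⁻¹ := by group
            rw [this, eyx, ← mul_assoc, ← hcC, mul_assoc, mul_assoc, mul_inv_cancel, mul_one]
          rw [this, mul_assoc]
        · rw [e2]
          push_cast
          have : (x : S) * y * y * ((x : S) * y)⁻¹ = c * y := by
            have : (x : S) * y * y * ((x : S) * y)⁻¹ = x * y * (x : S)⁻¹ := by group
            rw [this, exy]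
          rw [this, mul_assoc]
    · rintro _ ⟨b, hb, rfl⟩
      rw [mem_centralizer_iff]
      rintro _ ⟨b', hb', rfl⟩
      show ((b' : S) : S') * ((b : S) : S') = ((b : S) : S') * ((b' : S) : S')
      rw [← QuotientGroup.mk_mul, ← QuotientGroup.mk_mul, QuotientGroup.eq]
      have h1 : (⟨b', hb'⟩ : B)⁻¹ * ⟨b, hb⟩⁻¹ * ⟨b', hb'⟩ * ⟨b, hb⟩ ∈ center B := by
        rw [← hcom]
        have := commutator_mem_commutator (mem_top (⟨b', hb'⟩ : B)⁻¹) (mem_top (⟨b, hb⟩ : B)⁻¹)
        rw [commutatorElement_def, inv_inv, inv_inv] at this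
        exact this
      have h3 : ((b' * b)⁻¹ * (b * b') : S) = (b⁻¹ * b'⁻¹ * b * b') := by group
      rw [h3]
      have h4 : (⟨b, hb⟩ : B)⁻¹ * ⟨b', hb'⟩⁻¹ * ⟨b, hb⟩ * ⟨b', hb'⟩ ∈ center B := by
        rw [← hcom]
        have := commutator_mem_commutator (mem_top (⟨b, hb⟩ : B)⁻¹) (mem_top (⟨b', hb'⟩ : B)⁻¹)
        rw [commutatorElement_def, inv_inv, inv_inv] at this
        exact this
      rcases hZ _ h4 with h | h
      · have := congrArg Subtype.val h
        have e : b⁻¹ * b'⁻¹ * b * b' = (1 : S) := this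
        rw [e]; exact one_mem _
      · have := congrArg Subtype.val h
        have e : b⁻¹ * b'⁻¹ * b * b' = (c : S) := this
        rw [e]; exact hZS
  have hcl := nilpotencyClass_of_sq (n - 1) S' hS' A hA hAC
  haveI := h2.isNilpotent
  have h9 : Group.nilpotencyClass S' = Group.nilpotencyClass S - 1 := Group.nilpotencyClass_quotient_center
  have hclS : Group.nilpotencyClass S = n - 1 := by
    omega
  exact ⟨_, dqs_of_class hn3 hn hclS⟩

/-- In a `2`-group of sectional rank at most two a nonabelian subgroup of order `8` contains its centralizer. -/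
theorem centralizer_le_of_sectionalRank {S : Type*} [Group S] [Finite S] (h2 : IsPGroup 2 S)
    (hr : Cfsg.SectionalPRankLE 2 2 S) (H : Subgroup S)
    (hB8 : Nat.card H = 8) (hBn : ¬ IsMulCommutative H) : ∀ c : S, (∀ b ∈ H, c * b = b * c) → c ∈ H := by
  classical
  haveI : Fact (Nat.Prime 2) := ⟨Nat.prime_two⟩
  have hex := H19.extraspecial_of_card_cube (p := 2) (P := H) (by rw [hB8]; norm_num) hBn
  obtain ⟨⟨-, hfr, hcom⟩, hcenter⟩ := hex
  have hH2 : IsPGroup 2 H := h2.to_subgroup H
  by_contra hcon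
  push Not at hcon
  -- minimal order
  obtain ⟨c, ⟨hc1, hc2⟩, hmin⟩ := exists_minimalFor_of_wellFoundedLT (fun c : S => (∀ b ∈ H, c * b = b * c) ∧ c ∉ H)
    (fun c => orderOf c) (by obtain ⟨c, h1, h3⟩ := hcon; exact ⟨c, h1, h3⟩)
  have hcsq : c ^ 2 ∈ H := by
    by_contra h
    have h1 : ∀ b ∈ H, c ^ 2 * b = b * c ^ 2 := by
      intro b hb
      exact (Commute.pow_left (hc1 b hb) 2)
    have h3 := hmin ⟨h1, h⟩ (by
      apply Nat.le_of_dvd (orderOf_pos c) (orderOf_pow_dvd 2))
    have h3 : orderOf c ≤ orderOf (c ^ 2) := h3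
    have hc0 : orderOf c ≠ 1 := by
      intro h
      rw [orderOf_eq_one_iff] at h
      rw [h] at hc2
      exact hc2 (one_mem _)
    obtain ⟨k, hk⟩ := (IsPGroup.iff_orderOf.1 h2) c
    have hk0 : k ≠ 0 := by rintro rfl; rw [pow_zero] at hk; exact hc0 hk
    have h4 : orderOf (c ^ 2) = orderOf c / 2 := by
      rw [orderOf_pow' c (by norm_num), hk, Nat.gcd_eq_right]
      exact dvd_pow_self 2 hk0
    rw [h4] at h3
    have := orderOf_pos c
    omega
  let Z : Subgroup S := (center H).map H.subtype
  have hZcard : Nat.card Z = 2 := by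
    rw [Nat.card_congr (equivMapOfInjective (center H) H.subtype H.subtype_injective).symm.toEquiv]
    exact hcenter
  have hcomm : ∀ (i : ℤ), ∀ b ∈ H, c ^ i * b = b * c ^ i := fun i b hb => (Commute.zpow_left (hc1 b hb) i)
  let K : Subgroup S :=
    { carrier := {k | ∃ h ∈ H, ∃ i : ℤ, k = h * c ^ i}
      one_mem' := ⟨1, one_mem _, 0, by simp⟩
      mul_mem' := by
        rintro _ _ ⟨h, hh, i, rfl⟩ ⟨h', hh', j, rfl⟩
        refine ⟨h * h', mul_mem hh hh', i + j, ?_⟩
        rw [zpow_add]
        calc h * c ^ i * (h' * c ^ j) = h * (c ^ i * h') * c ^ j := by group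
          _ = h * (h' * c ^ i) * c ^ j := by rw [hcomm i h' hh']
          _ = _ := by group
      inv_mem' := by
        rintro _ ⟨h, hh, i, rfl⟩
        refine ⟨h⁻¹, inv_mem hh, -i, ?_⟩
        rw [mul_inv_rev, ← zpow_neg]
        exact hcomm (-i) h⁻¹ (inv_mem hh) }
  have hZcomm : ∀ z ∈ Z, ∀ k ∈ K, z * k = k * z := by
    rintro _ ⟨z, hz, rfl⟩ _ ⟨h, hh, i, rfl⟩
    have h1 : (z : S) * h = h * z := by
      have := congrArg (fun w : H => (w : S)) ((mem_center_iff.1 hz) ⟨h, hh⟩)
      exact this.symm
    calc (z : S) * (h * c ^ i) = (z * h) * c ^ i := by group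
      _ = h * (z * c ^ i) := by rw [h1]; group
      _ = h * (c ^ i * z) := by rw [hcomm i z z.2]
      _ = h * c ^ i * z := by group
  have hHK : H ≤ K := fun h hh => ⟨h, hh, 0, by simp⟩
  have hcK : c ∈ K := ⟨1, one_mem _, 1, by simp⟩
  have hZK : Z ≤ K := (map_subtype_le _).trans hHK
  haveI hN : (Z.subgroupOf K).Normal := by
    constructor
    intro n hn g
    rw [mem_subgroupOf] at hn ⊢
    have := hZcomm _ hn g g.2
    push_cast
    rw [← this, mul_inv_cancel_right]
    exact hn
  have hsq : ∀ k ∈ K, k ^ 2 ∈ Z := by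
    rintro _ ⟨h, hh, i, rfl⟩
    have e1 : (h * c ^ i) ^ 2 = h ^ 2 * (c ^ 2) ^ i := by
      rw [sq]
      calc h * c ^ i * (h * c ^ i) = h * (c ^ i * h) * c ^ i := by group
        _ = h * (h * c ^ i) * c ^ i := by rw [hcomm i h hh]
        _ = h ^ 2 * (c ^ 2) ^ i := by rw [sq h]; group
    rw [e1]
    refine mul_mem ?_ (zpow_mem ?_ i)
    · refine ⟨(⟨h, hh⟩ : H) ^ 2, ?_, rfl⟩
      rw [← hfr]
      exact H2.pow_mem_frattini hH2 _
    · refine ⟨⟨c ^ 2, hcsq⟩, ?_, rfl⟩
      rw [SetLike.mem_coe, mem_center_iff]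
      intro b
      apply Subtype.ext
      exact ((Commute.pow_left (hc1 b b.2) 2)).symm
  have hexp : ∀ q : K ⧸ Z.subgroupOf K, q ^ 2 = 1 := by
    intro q
    obtain ⟨k, rfl⟩ := QuotientGroup.mk_surjective q
    rw [← QuotientGroup.mk_pow, QuotientGroup.eq_one_iff, mem_subgroupOf]
    exact hsq k k.2
  have hcommQ : ∀ a b : K ⧸ Z.subgroupOf K, a * b = b * a := by
    intro a b
    have h1 : ∀ q : K ⧸ Z.subgroupOf K, q⁻¹ = q := fun q => inv_eq_of_mul_eq_one_left (by rw [← sq]; exact hexp q)
    calc a * b = (a * b)⁻¹ := (h1 _).symm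
      _ = b⁻¹ * a⁻¹ := mul_inv_rev a b
      _ = b * a := by rw [h1, h1]
  have hle := hr K (Z.subgroupOf K) ⊤ ⟨⟨fun a b => Subtype.ext (hcommQ _ _)⟩⟩ (fun a _ => hexp a)
  rw [card_top] at hle
  have h1 := card_eq_card_quotient_mul_card_subgroup (Z.subgroupOf K)
  have h3 : Nat.card (Z.subgroupOf K) = 2 := by
    rw [Nat.card_congr (subgroupOfEquivOfLe hZK).toEquiv, hZcard]
  rw [h3] at h1
  have h4 : Nat.card H < Nat.card K := by
    have h5 := card_le_of_le hHK
    rcases h5.lt_or_eq with h | h
    · exact h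
    · exfalso
      have := eq_of_le_of_card_ge hHK h.ge
      rw [← this] at hcK
      exact hc2 hcK
  have h6 : Nat.card H ∣ Nat.card K := card_dvd_of_le hHK
  obtain ⟨m, hm⟩ := h6
  rw [hB8] at hm h4
  omega

end Cfsg.Agent.H25
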