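import Mathlib

set_option autoImplicit false
set_option linter.unusedSectionVars false

namespace Cfsg.Agent.H25.RedSyl

open Matrix

variable {F : Type*} [Field F] {p : ℕ} [hpf : Fact p.Prime]

/-- monomial matrix `e_j ↦ d_j e_{j+k}` -/
def mon (d : Fin p → F) (k : Fin p) : Matrix (Fin p) (Fin p) F :=
  fun i j => if i = j + k then d j else 0

theorem mon_apply (d : Fin p → F) (k i j : Fin p) :
    mon d k i j = if i = j + k then d j else 0 := rfl

theorem mul_mon_apply (M : Matrix (Fin p) (Fin p) F) (d : Fin p → F) (k i j : Fin p) :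
    (M * mon d k) i j = M i (j + k) * d j := by
  rw [Matrix.mul_apply, Finset.sum_eq_single (j + k)]
  · rw [mon_apply, if_pos rfl]
  · intro l _ hl
    rw [mon_apply, if_neg hl, mul_zero]
  · intro h
    exact absurd (Finset.mem_univ _) h

theorem mon_mul_apply (M : Matrix (Fin p) (Fin p) F) (d : Fin p → F) (k i j : Fin p) :
    (mon d k * M) i j = d (i - k) * M (i - k) j := by
  rw [Matrix.mul_apply, Finset.sum_eq_single (i - k)]
  · rw [mon_apply, if_pos (by simp)]
  · intro l _ hl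
    rw [mon_apply, if_neg, zero_mul]
    rintro rfl
    apply hl
    simp
  · intro h
    exact absurd (Finset.mem_univ _) h

theorem mon_mul_mon (d d' : Fin p → F) (k k' : Fin p) :
    mon d k * mon d' k' = mon (fun j => d (j + k') * d' j) (k' + k) := by
  ext i j
  rw [mul_mon_apply, mon_apply, mon_apply]
  by_cases h : i = j + k' + k
  · rw [if_pos h, if_pos (by rw [h, add_assoc])]
  · rw [if_neg h, if_neg (by rw [← add_assoc]; exact h), zero_mul]

theorem mon_one : mon (fun _ => (1 : F)) (0 : Fin p) = 1 := by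
  ext i j
  rw [mon_apply, add_zero, Matrix.one_apply]

/-- the monomial matrix in `GL` -/
def gl (d : Fin p → F) (k : Fin p) (hd : ∀ j, d j ≠ 0) : GL (Fin p) F where
  val := mon d k
  inv := mon (fun j => (d (j - k))⁻¹) (-k)
  val_inv := by
    rw [mon_mul_mon, ← mon_one, neg_add_cancel]
    congr 1
    funext j
    rw [← sub_eq_add_neg, mul_inv_cancel₀ (hd _)]
  inv_val := by
    rw [mon_mul_mon, ← mon_one, add_neg_cancel]
    congr 1
    funext j
    rw [add_sub_cancel_right, inv_mul_cancel₀ (hd _)]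

theorem ne_zero_of_pow {z : F} (hz : z ^ p = 1) : z ≠ 0 := by
  rintro rfl
  rw [zero_pow hpf.out.ne_zero] at hz
  exact zero_ne_one hz

variable (F p) in
/-- the monomial Sylow subgroup -/
def Q0 : Subgroup (GL (Fin p) F) where
  carrier := {y | ∃ (d : Fin p → F) (k : Fin p), (∀ j, d j ^ p = 1) ∧
    (y : Matrix (Fin p) (Fin p) F) = mon d k}
  one_mem' := ⟨fun _ => 1, 0, fun _ => one_pow _, by rw [mon_one]; rfl⟩
  mul_mem' := by
    rintro x y ⟨d, k, hd, hx⟩ ⟨e, l, he, hy⟩
    refine ⟨fun j => d (j + l) * e j, l + k, fun j => ?_, ?_⟩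
    · rw [mul_pow, hd, he, one_mul]
    · rw [Units.val_mul, hx, hy, mon_mul_mon]
  inv_mem' := by
    rintro x ⟨d, k, hd, hx⟩
    have hx' : x = gl d k (fun j => ne_zero_of_pow (hd j)) := Units.ext hx
    refine ⟨fun j => (d (j - k))⁻¹, -k, fun j => ?_, ?_⟩
    · rw [inv_pow, hd, inv_one]
    · rw [hx']
      rfl

theorem mem_Q0 {y : GL (Fin p) F} : y ∈ Q0 F p ↔ ∃ (d : Fin p → F) (k : Fin p),
    (∀ j, d j ^ p = 1) ∧ (y : Matrix (Fin p) (Fin p) F) = mon d k := Iff.rfl

theorem mon_inj {d e : Fin p → F} {k l : Fin p} (hd : ∀ j, d j ≠ 0) (h : mon d k = mon e l) :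
    d = e ∧ k = l := by
  have h0 : k = l := by
    have h1 := congrFun (congrFun h (0 + k)) 0
    rw [mon_apply, if_pos rfl, mon_apply] at h1
    by_contra hne
    rw [if_neg (by rw [zero_add, zero_add]; exact hne)] at h1
    exact hd 0 h1
  refine ⟨?_, h0⟩
  subst h0
  funext j
  have h1 := congrFun (congrFun h (j + k)) j
  rwa [mon_apply, if_pos rfl, mon_apply, if_pos rfl] at h1

theorem card_rt {ζ : F} (hζ : IsPrimitiveRoot ζ p) : Nat.card {z : F // z ^ p = 1} = p := by
  classical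
  have h := Nat.subtype_card (p := fun z : F => z ^ p = 1) (Polynomial.nthRootsFinset p (1 : F))
    (fun x => by rw [Polynomial.mem_nthRootsFinset hpf.out.pos])
  rw [h, hζ.card_nthRootsFinset]

theorem card_Q0 {ζ : F} (hζ : IsPrimitiveRoot ζ p) : Nat.card (Q0 F p) = p ^ (p + 1) := by
  let Φ : (Fin p → {z : F // z ^ p = 1}) × Fin p → Q0 F p := fun a =>
    ⟨gl (fun j => (a.1 j : F)) a.2 (fun j => ne_zero_of_pow (a.1 j).2),
      ⟨fun j => (a.1 j : F), a.2, fun j => (a.1 j).2, rfl⟩⟩
  have hΦ : Function.Bijective Φ := by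
    constructor
    · rintro ⟨d, k⟩ ⟨e, l⟩ h
      have h1 : mon (fun j => (d j : F)) k = mon (fun j => (e j : F)) l :=
        congrArg (fun t : Q0 F p => ((t : GL (Fin p) F) : Matrix (Fin p) (Fin p) F)) h
      obtain ⟨h2, h3⟩ := mon_inj (fun j => ne_zero_of_pow (d j).2) h1
      refine Prod.ext ?_ h3
      funext j
      exact Subtype.ext (congrFun h2 j)
    · rintro ⟨y, d, k, hd, hy⟩
      refine ⟨(fun j => ⟨d j, hd j⟩, k), ?_⟩
      apply Subtype.ext
      apply Units.ext
      exact hy.symm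
  rw [← Nat.card_congr (Equiv.ofBijective Φ hΦ), Nat.card_prod, Nat.card_pi]
  simp only [card_rt hζ, Finset.prod_const, Finset.card_univ, Fintype.card_fin, Nat.card_eq_fintype_card]
  rw [pow_succ]

/-- `p`-part of the order of `GL_p` -/
theorem fact_card [Fintype F] (hp : p ≠ 2) (h1 : p ∣ Fintype.card F - 1)
    (h2 : ¬ p ^ 2 ∣ Fintype.card F - 1) :
    (Nat.card (GL (Fin p) F)).factorization p = p + 1 := by
  have hpp := hpf.out
  set q := Fintype.card F with hq
  have hq1 : 1 < q := Fintype.one_lt_card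
  have hpq : ¬ p ∣ q := by
    intro h3
    have h4 : p ∣ 1 := by
      have := Nat.dvd_sub h3 h1
      rwa [Nat.sub_sub_self hq1.le] at this
    exact hpp.one_lt.ne' (Nat.dvd_one.1 h4)
  have hv1 : padicValNat p (q - 1) = 1 := by
    have h3 : (q - 1) ≠ 0 := by omega
    apply le_antisymm
    · by_contra h4
      push Not at h4
      exact h2 ((padicValNat_dvd_iff_le h3).2 h4)
    · exact (padicValNat_dvd_iff_le h3).1 (by rwa [pow_one])
  have hodd : Odd p := hpp.odd_of_ne_two hp
  have hm : ∀ m, m ≠ 0 → padicValNat p (q ^ m - 1) = 1 + padicValNat p m := by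
    intro m hm
    have := padicValNat.pow_sub_pow (x := q) (y := 1) hodd hq1 h1 hpq hm
    rw [one_pow, hv1] at this
    exact this
  rw [Matrix.card_GL_field, ← hq]
  have hterm : ∀ i : Fin p, q ^ p - q ^ (i : ℕ) = q ^ (i : ℕ) * (q ^ (p - i) - 1) := by
    intro i
    rw [Nat.mul_sub, mul_one, ← pow_add, Nat.add_sub_cancel' i.2.le]
  have hne1 : ∀ i : Fin p, q ^ (p - i) - 1 ≠ 0 := by
    intro i
    have := Nat.one_lt_pow (show p - (i : ℕ) ≠ 0 by have := i.2; omega) hq1
    omega
  have hne0 : ∀ i : Fin p, q ^ (i : ℕ) ≠ 0 := fun i => (pow_pos (by omega) _).ne'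
  rw [Nat.factorization_prod (fun i _ => by rw [hterm]; exact mul_ne_zero (hne0 i) (hne1 i))]
  rw [Finsupp.finsetSum_apply]
  have hval : ∀ i : Fin p, (q ^ p - q ^ (i : ℕ)).factorization p =
      1 + if i = ⟨0, hpp.pos⟩ then 1 else 0 := by
    intro i
    rw [hterm, Nat.factorization_mul (hne0 i) (hne1 i), Finsupp.add_apply]
    have e1 : (q ^ (i : ℕ)).factorization p = 0 := by
      apply Nat.factorization_eq_zero_of_not_dvd
      intro h3
      exact hpq (hpp.dvd_of_dvd_pow h3)
    rw [e1, zero_add, Nat.factorization_def _ hpp, hm _ (by have := i.2; omega)]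
    congr 1
    by_cases hi : i = ⟨0, hpp.pos⟩
    · rw [if_pos hi, hi]
      simp
    · rw [if_neg hi]
      apply padicValNat.eq_zero_of_not_dvd
      intro h3
      have h4 : (i : ℕ) ≠ 0 := fun h5 => hi (Fin.ext h5)
      have h6 := Nat.le_of_dvd (by have := i.2; omega) h3
      omega
  rw [Finset.sum_congr rfl (fun i _ => hval i), Finset.sum_add_distrib, Finset.sum_ite_eq']
  simp

/-- rank one obstruction -/
theorem col_of_conj (hp : p ≠ 2) {ζ : F} (hζ : ζ ^ p = 1) (hζ1 : ζ ≠ 1) {g : GL (Fin p) F}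
    (hg : ∀ y ∈ Q0 F p, g * y * g⁻¹ ∈ Q0 F p) (i l l' : Fin p) (hl : l ≠ l')
    (h1 : (g : Matrix (Fin p) (Fin p) F) l i ≠ 0)
    (h2 : (g : Matrix (Fin p) (Fin p) F) l' i ≠ 0) : False := by
  classical
  have hpp := hpf.out
  set e : Fin p → F := fun j => if j = i then ζ else 1 with he
  have hep : ∀ j, e j ^ p = 1 := by
    intro j
    rw [he]
    dsimp only
    split_ifs
    · exact hζ
    · exact one_pow _
  set y : GL (Fin p) F := gl e 0 (fun j => ne_zero_of_pow (hep j)) with hy
  obtain ⟨d, k, hd, hdk⟩ := hg y ⟨e, 0, hep, rfl⟩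
  have hyv : (y : Matrix (Fin p) (Fin p) F) = mon e 0 := rfl
  set G : Matrix (Fin p) (Fin p) F := (g : Matrix (Fin p) (Fin p) F) with hG
  set G' : Matrix (Fin p) (Fin p) F := ((g⁻¹ : GL (Fin p) F) : Matrix (Fin p) (Fin p) F) with hG'
  have hGG : G * G' = 1 := by
    rw [hG, hG', ← Units.val_mul, mul_inv_cancel, Units.val_one]
  have hM : mon d k = G * mon e 0 * G' := by
    rw [← hdk, Units.val_mul, Units.val_mul, hyv]
  have hM1 : mon d k - 1 = G * (mon e 0 - 1) * G' := by
    rw [hM, mul_sub, sub_mul, mul_one, hGG]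
  have hent : ∀ a b, (mon d k - 1) a b = G a i * ((ζ - 1) * G' i b) := by
    intro a b
    rw [hM1, Matrix.mul_apply, Finset.sum_eq_single i]
    · rw [mul_sub, Matrix.sub_apply, mul_mon_apply, mul_one, add_zero, he]
      dsimp only
      rw [if_pos rfl]
      ring
    · intro c _ hc
      rw [mul_sub, Matrix.sub_apply, mul_mon_apply, mul_one, add_zero, he]
      dsimp only
      rw [if_neg hc]
      ring
    · intro h
      exact absurd (Finset.mem_univ _) h
  by_cases hk : k = 0
  · -- a nonzero entry of the row `i` of `g⁻¹`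
    obtain ⟨b, hb⟩ : ∃ b, G' i b ≠ 0 := by
      by_contra h3
      push Not at h3
      have h4 : (G' * G) i i = 0 := by
        rw [Matrix.mul_apply]
        exact Finset.sum_eq_zero fun c _ => by rw [h3, zero_mul]
      have h5 : G' * G = 1 := by
        rw [hG, hG', ← Units.val_mul, inv_mul_cancel, Units.val_one]
      rw [h5, Matrix.one_apply_eq] at h4
      exact one_ne_zero h4
    have key : ∀ a, G a i ≠ 0 → a = b := by
      intro a ha
      by_contra hab
      have h3 := hent a b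
      rw [Matrix.sub_apply, mon_apply, hk, add_zero, if_neg hab, Matrix.one_apply_ne hab,
        sub_zero] at h3
      exact mul_ne_zero ha (mul_ne_zero (sub_ne_zero.2 hζ1) hb) h3.symm
    exact hl ((key l h1).trans (key l' h2).symm)
  · have hdiag : ∀ b, G b i * ((ζ - 1) * G' i b) ≠ 0 := by
      intro b
      rw [← hent, Matrix.sub_apply, mon_apply, if_neg, Matrix.one_apply_eq, zero_sub]
      · exact neg_ne_zero.2 one_ne_zero
      · intro h3
        exact hk (left_eq_add.1 h3)
    have hkk : k + k ≠ 0 := by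
      intro h3
      have h4 : (2 : ℕ) • k = 0 := by rw [two_nsmul]; exact h3
      have h5 : addOrderOf k ∣ 2 := addOrderOf_dvd_iff_nsmul_eq_zero.2 h4
      have h6 : p • k = 0 := by
        have := card_nsmul_eq_zero' (G := Fin p) (x := k)
        rwa [Nat.card_eq_fintype_card, Fintype.card_fin] at this
      have h7 : addOrderOf k ∣ p := addOrderOf_dvd_iff_nsmul_eq_zero.2 h6
      rcases (Nat.dvd_prime hpp).1 h7 with h8 | h8
      · exact hk (AddMonoid.addOrderOf_eq_one_iff.1 h8)
      · rw [h8] at h5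
        exact hp ((Nat.prime_dvd_prime_iff_eq hpp Nat.prime_two).1 h5)
    have h3 := hent (k + k) 0
    rw [Matrix.sub_apply, mon_apply, zero_add, if_neg (fun h4 => hk (left_eq_add.1 h4.symm)),
      Matrix.one_apply_ne hkk, sub_zero] at h3
    have h4 := hdiag (k + k)
    have h5 := hdiag 0
    exact mul_ne_zero (left_ne_zero_of_mul h4) (right_ne_zero_of_mul h5) h3.symm

theorem nsmul_p (k : Fin p) : p • k = 0 := by
  have := card_nsmul_eq_zero' (G := Fin p) (x := k)
  rwa [Nat.card_eq_fintype_card, Fintype.card_fin] at this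

theorem addOrder {k : Fin p} (hk : k ≠ 0) : addOrderOf k = p := by
  have h7 : addOrderOf k ∣ p := addOrderOf_dvd_iff_nsmul_eq_zero.2 (nsmul_p k)
  rcases (Nat.dvd_prime hpf.out).1 h7 with h8 | h8
  · exact absurd (AddMonoid.addOrderOf_eq_one_iff.1 h8) hk
  · exact h8

theorem mon_pow {d : Fin p → F} {k : Fin p} (hd : ∀ j, d j ≠ 0) (m : ℕ) :
    ∃ e : Fin p → F, (∀ j, e j ≠ 0) ∧ mon d k ^ m = mon e (m • k) := by
  induction m with
  | zero => exact ⟨fun _ => 1, fun _ => one_ne_zero, by rw [pow_zero, zero_nsmul, mon_one]⟩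
  | succ m ih =>
    obtain ⟨e, he, h⟩ := ih
    refine ⟨fun j => e (j + k) * d j, fun j => mul_ne_zero (he _) (hd _), ?_⟩
    rw [pow_succ, h, mon_mul_mon, succ_nsmul']

/-- non-diagonal elements of order dividing `p` -/
theorem case_C1 (hp : p ≠ 2) {ζ : F} (hζ1 : ζ ≠ 1) (hζ0 : ζ ≠ 0) (hpF : (p : F) ≠ 0) {x : GL (Fin p) F}
    {d : Fin p → F} {k : Fin p} (hd : ∀ j, d j ≠ 0)
    (hx : (x : Matrix (Fin p) (Fin p) F) = mon d k) (hk : k ≠ 0) (hxp : x ^ p = 1) :
    ∃ g : GL (Fin p) F, g⁻¹ * x * g = x ∧ ∃ i l l' : Fin p, l ≠ l' ∧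
      (g : Matrix (Fin p) (Fin p) F) l i ≠ 0 ∧ (g : Matrix (Fin p) (Fin p) F) l' i ≠ 0 := by
  classical
  have hpp := hpf.out
  set X : Matrix (Fin p) (Fin p) F := mon d k with hX
  have hXp : X ^ p = 1 := by
    rw [← hx, ← Units.val_pow_eq_pow_val, hxp, Units.val_one]
  set N : Matrix (Fin p) (Fin p) F := ∑ m ∈ Finset.range p, X ^ m with hN
  have hXN : X * N = N := by
    rw [hN, Finset.mul_sum]
    have h1 : ∑ m ∈ Finset.range p, X * X ^ m = ∑ m ∈ Finset.range p, X ^ (m + 1) :=
      Finset.sum_congr rfl fun m _ => (pow_succ' X m).symm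
    rw [h1]
    have h2 := Finset.sum_range_succ (fun m => X ^ m) p
    have h3 := Finset.sum_range_succ' (fun m => X ^ m) p
    rw [h2, pow_zero, hXp] at h3
    exact (add_right_cancel h3).symm
  have hNX : N * X = N := by
    conv_lhs => rw [hN, Finset.sum_mul]
    have h1 : ∑ m ∈ Finset.range p, X ^ m * X = ∑ m ∈ Finset.range p, X ^ (m + 1) :=
      Finset.sum_congr rfl fun m _ => (pow_succ X m).symm
    rw [h1]
    have h2 := Finset.sum_range_succ (fun m => X ^ m) p
    have h3 := Finset.sum_range_succ' (fun m => X ^ m) p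
    rw [h2, pow_zero, hXp] at h3
    exact (add_right_cancel h3).symm
  have hXmN : ∀ m, X ^ m * N = N := by
    intro m
    induction m with
    | zero => rw [pow_zero, one_mul]
    | succ m ih => rw [pow_succ, mul_assoc, hXN, ih]
  have hNN : N * N = (p : F) • N := by
    conv_lhs => rw [hN, Finset.sum_mul]
    rw [Finset.sum_congr rfl (fun m _ => hXmN m), Finset.sum_const, Finset.card_range]
    rw [← Nat.cast_smul_eq_nsmul F]
  set b : F := (ζ - 1) / p with hb
  set b' : F := (ζ⁻¹ - 1) / p with hb'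
  have hb0 : b ≠ 0 := div_ne_zero (sub_ne_zero.2 hζ1) hpF
  have hbb : b + b' + b * b' * p = 0 := by
    rw [hb, hb']
    field_simp
    ring
  have hbb' : b' + b + b' * b * p = 0 := by
    rw [← hbb]
    ring
  have hinv : ∀ u v : F, u + v + u * v * p = 0 → (1 + u • N) * (1 + v • N) = 1 := by
    intro u v h
    rw [add_mul, mul_add, mul_add, one_mul, one_mul, mul_one, Matrix.smul_mul, Matrix.mul_smul,
      hNN, smul_smul, smul_smul, add_assoc, ← add_assoc (v • N), ← add_smul, ← add_smul]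
    rw [show v + u + u * v * p = u + v + u * v * p by ring, h, zero_smul, add_zero]
  have hNent : ∀ t, t < p → N (t • k) 0 ≠ 0 := by
    intro t ht
    rw [hN, Matrix.sum_apply, Finset.sum_eq_single t]
    · obtain ⟨e, he, h⟩ := mon_pow (k := k) hd t
      rw [hX, h, mon_apply, zero_add, if_pos rfl]
      exact he 0
    · intro m hm hmt
      obtain ⟨e, he, h⟩ := mon_pow (k := k) hd m
      rw [hX, h, mon_apply, zero_add, if_neg]
      intro h1
      rw [nsmul_eq_nsmul_iff_modEq, addOrder hk] at h1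
      exact hmt (Nat.ModEq.eq_of_lt_of_lt h1 ht (Finset.mem_range.1 hm)).symm
    · intro h
      exact absurd (Finset.mem_range.2 ht) h
  have hp3 : 2 < p := lt_of_le_of_ne hpp.two_le (Ne.symm hp)
  have h2k : k + k ≠ 0 := by
    intro h
    have h1 : 2 • k = 0 • k := by rw [two_nsmul, h, zero_nsmul]
    rw [nsmul_eq_nsmul_iff_modEq, addOrder hk] at h1
    exact absurd (Nat.ModEq.eq_of_lt_of_lt h1 hp3 hpp.pos) (by norm_num)
  let g : GL (Fin p) F := ⟨1 + b • N, 1 + b' • N, hinv b b' hbb, hinv b' b hbb'⟩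
  have hg : (g : Matrix (Fin p) (Fin p) F) = 1 + b • N := rfl
  refine ⟨g, ?_, 0, k, k + k, ?_, ?_, ?_⟩
  · have : x * g = g * x := by
      apply Units.ext
      rw [Units.val_mul, Units.val_mul, hx, hg, mul_add, add_mul, mul_one, one_mul,
        Matrix.mul_smul, Matrix.smul_mul, hXN, hNX]
    rw [mul_assoc, this, inv_mul_cancel_left]
  · intro h
    exact hk (left_eq_add.1 h)
  · rw [hg, Matrix.add_apply, Matrix.one_apply_ne hk, zero_add, Matrix.smul_apply, smul_eq_mul]
    have := hNent 1 hpp.one_lt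
    rw [one_nsmul] at this
    exact mul_ne_zero hb0 this
  · rw [hg, Matrix.add_apply, Matrix.one_apply_ne h2k, zero_add, Matrix.smul_apply, smul_eq_mul]
    have := hNent 2 hp3
    rw [two_nsmul] at this
    exact mul_ne_zero hb0 this

/-- non-diagonal elements of order `p²` -/
theorem case_C2 (hp : p ≠ 2) {x : GL (Fin p) F}
    {d : Fin p → F} {k : Fin p} (hd : ∀ j, d j ^ p = 1)
    (hx : (x : Matrix (Fin p) (Fin p) F) = mon d k) (hk : k ≠ 0) (hxp : x ^ p ≠ 1) :
    ∃ g : GL (Fin p) F, g⁻¹ * x * g = x ∧ ∃ i l l' : Fin p, l ≠ l' ∧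
      (g : Matrix (Fin p) (Fin p) F) l i ≠ 0 ∧ (g : Matrix (Fin p) (Fin p) F) l' i ≠ 0 := by
  classical
  have hpp := hpf.out
  have hodd : Odd p := hpp.odd_of_ne_two hp
  have hd0 : ∀ j, d j ≠ 0 := fun j => ne_zero_of_pow (hd j)
  set X : Matrix (Fin p) (Fin p) F := mon d k with hX
  obtain ⟨e, l, he, hel⟩ := (Q0 F p).pow_mem (x := x) ⟨d, k, hd, hx⟩ p
  have he0 : ∀ j, e j ≠ 0 := fun j => ne_zero_of_pow (he j)
  have hl : l = 0 := by
    obtain ⟨e', he', h'⟩ := mon_pow (k := k) hd0 p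
    rw [nsmul_p] at h'
    rw [Units.val_pow_eq_pow_val, hx, h'] at hel
    exact (mon_inj he' hel).2.symm
  subst hl
  have hXp : X ^ p = mon e 0 := by rw [← hx, ← Units.val_pow_eq_pow_val, hel]
  have hconst : ∀ j, e (j + k) = e j := by
    have h1 : mon e 0 * X = X * mon e 0 := by rw [← hXp, ← pow_succ, ← pow_succ']
    rw [hX, mon_mul_mon, mon_mul_mon] at h1
    have h2 := (mon_inj (fun j => mul_ne_zero (he0 _) (hd0 _)) h1).1
    intro j
    have h3 := congrFun h2 j
    rw [add_zero, mul_comm (d j)] at h3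
    exact mul_right_cancel₀ (hd0 j) h3
  have hconst' : ∀ (m : ℕ) (j : Fin p), e (j + m • k) = e j := by
    intro m j
    induction m with
    | zero => rw [zero_nsmul, add_zero]
    | succ m ih => rw [succ_nsmul, ← add_assoc, hconst, ih]
  have hall : ∀ i j, e i = e j := by
    intro i j
    have h1 : i - j ∈ AddSubmonoid.multiples k :=
      mem_multiples_of_prime_card (G := Fin p) (p := p) (by simp) hk
    obtain ⟨m, hm⟩ := (AddSubmonoid.mem_multiples_iff _ _).1 h1
    rw [← hconst' m j, hm, add_sub_cancel]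
  have hne : ∀ j, 1 + e j ≠ 0 := by
    intro j hj
    have h1 : e j = -1 := by
      rw [add_comm] at hj
      exact eq_neg_of_add_eq_zero_left hj
    have h2 : (-1 : F) = 1 := by
      have := he j
      rwa [h1, hodd.neg_one_pow] at this
    apply hxp
    apply Units.ext
    rw [hel, Units.val_one, ← mon_one]
    congr 1
    funext i
    rw [hall i j, h1, h2]
  have hdet : (1 + X).det ≠ 0 := by
    intro h0
    have h1 : (1 + X) * ∑ m ∈ Finset.range p, (-X) ^ m = 1 + mon e 0 := by
      have := mul_neg_geom_sum (-X) p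
      rw [sub_neg_eq_add, hodd.neg_pow, sub_neg_eq_add, hXp] at this
      exact this
    have h2 : (1 + mon e 0 : Matrix (Fin p) (Fin p) F) = Matrix.diagonal (fun j => 1 + e j) := by
      ext a c
      rw [Matrix.add_apply, mon_apply, add_zero, Matrix.diagonal_apply, Matrix.one_apply]
      by_cases hac : a = c
      · rw [if_pos hac, if_pos hac, if_pos hac, hac]
      · rw [if_neg hac, if_neg hac, if_neg hac, add_zero]
    have h3 := congrArg Matrix.det h1
    rw [Matrix.det_mul, h0, zero_mul, h2, Matrix.det_diagonal] at h3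
    exact (Finset.prod_ne_zero_iff.2 fun j _ => hne j) h3.symm
  let g : GL (Fin p) F := Matrix.GeneralLinearGroup.mkOfDetNeZero (1 + X) hdet
  have hg : (g : Matrix (Fin p) (Fin p) F) = 1 + X := rfl
  refine ⟨g, ?_, 0, 0, k, fun h => hk h.symm, ?_, ?_⟩
  · have : x * g = g * x := by
      apply Units.ext
      rw [Units.val_mul, Units.val_mul, hx, hg, mul_add, add_mul, mul_one, one_mul]
    rw [mul_assoc, this, inv_mul_cancel_left]
  · rw [hg, Matrix.add_apply, Matrix.one_apply_eq, hX, mon_apply, zero_add,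
      if_neg (fun h => hk h.symm), add_zero]
    exact one_ne_zero
  · rw [hg, Matrix.add_apply, Matrix.one_apply_ne hk, hX, mon_apply, zero_add, zero_add,
      if_pos rfl]
    exact hd0 0

/-- diagonal elements with a repeated eigenvalue -/
theorem case_B {x : GL (Fin p) F} {d : Fin p → F}
    (hx : (x : Matrix (Fin p) (Fin p) F) = mon d 0) {i j : Fin p} (hij : i ≠ j) (hdd : d i = d j) :
    ∃ g : GL (Fin p) F, g⁻¹ * x * g = x ∧ ∃ i l l' : Fin p, l ≠ l' ∧
      (g : Matrix (Fin p) (Fin p) F) l i ≠ 0 ∧ (g : Matrix (Fin p) (Fin p) F) l' i ≠ 0 := by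
  classical
  let g : GL (Fin p) F := Matrix.GeneralLinearGroup.mkOfDetNeZero (Matrix.transvection i j 1)
    (by rw [Matrix.det_transvection_of_ne _ _ hij]; exact one_ne_zero)
  have hg : (g : Matrix (Fin p) (Fin p) F) = 1 + Matrix.single i j 1 := rfl
  refine ⟨g, ?_, j, i, j, hij, ?_, ?_⟩
  · have : x * g = g * x := by
      apply Units.ext
      rw [Units.val_mul, Units.val_mul, hx, hg, mul_add, add_mul, mul_one, one_mul]
      congr 1
      ext a c
      rw [mon_mul_apply, mul_mon_apply, sub_zero, add_zero]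
      by_cases h : i = a ∧ j = c
      · obtain ⟨rfl, rfl⟩ := h
        rw [hdd, mul_comm]
      · rw [Matrix.single_apply, if_neg h, mul_zero, zero_mul]
    rw [mul_assoc, this, inv_mul_cancel_left]
  · rw [hg, Matrix.add_apply, Matrix.one_apply_ne hij, zero_add, Matrix.single_apply_same]
    exact one_ne_zero
  · rw [hg, Matrix.add_apply, Matrix.one_apply_eq, Matrix.single_apply,
      if_neg (fun h => hij h.1), add_zero]
    exact one_ne_zero

/-- diagonal elements with distinct eigenvalues -/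
theorem case_A {x : GL (Fin p) F} {d : Fin p → F} (hd : ∀ j, d j ^ p = 1)
    (hx : (x : Matrix (Fin p) (Fin p) F) = mon d 0) (hinj : Function.Injective d) :
    ∃ g : GL (Fin p) F, g⁻¹ * x * g ∈ Q0 F p ∧ ∃ i l l' : Fin p, l ≠ l' ∧
      (g : Matrix (Fin p) (Fin p) F) l i ≠ 0 ∧ (g : Matrix (Fin p) (Fin p) F) l' i ≠ 0 := by
  classical
  have hpp := hpf.out
  let g : GL (Fin p) F := Matrix.GeneralLinearGroup.mkOfDetNeZero (Matrix.vandermonde d)
    (Matrix.det_vandermonde_ne_zero_iff.2 hinj)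
  have hg : (g : Matrix (Fin p) (Fin p) F) = Matrix.vandermonde d := rfl
  let s : GL (Fin p) F := gl (fun _ => 1) 1 (fun _ => one_ne_zero)
  have hs : (s : Matrix (Fin p) (Fin p) F) = mon (fun _ => 1) 1 := rfl
  have hd0 : ∀ j, d j ≠ 0 := fun j => ne_zero_of_pow (hd j)
  have h1v : ((1 : Fin p) : ℕ) = 1 := by
    rw [Fin.val_one']
    exact Nat.mod_eq_of_lt hpp.one_lt
  have h0v : ((0 : Fin p) : ℕ) = 0 := Fin.val_zero _
  refine ⟨g, ?_, 0, 0, 1, ?_, ?_, ?_⟩
  · have : x * g = g * s := by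
      apply Units.ext
      rw [Units.val_mul, Units.val_mul, hx, hg, hs]
      ext a c
      rw [mon_mul_apply, mul_mon_apply, sub_zero, mul_one, Matrix.vandermonde_apply,
        Matrix.vandermonde_apply, ← pow_succ', Fin.val_add, h1v]
      exact pow_eq_pow_mod _ (hd a)
    rw [mul_assoc, this, inv_mul_cancel_left]
    exact ⟨fun _ => 1, 1, fun _ => one_pow _, rfl⟩
  · intro h
    have := congrArg Fin.val h
    rw [h1v, h0v] at this
    exact zero_ne_one this
  · rw [hg, Matrix.vandermonde_apply]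
    exact pow_ne_zero _ (hd0 _)
  · rw [hg, Matrix.vandermonde_apply]
    exact pow_ne_zero _ (hd0 _)

/-- every element of `Q0` is in another conjugate -/
theorem exists_other (hp : p ≠ 2) {ζ : F} (hζ1 : ζ ≠ 1) (hζ0 : ζ ≠ 0) (hpF : (p : F) ≠ 0)
    {x : GL (Fin p) F} (hx : x ∈ Q0 F p) :
    ∃ g : GL (Fin p) F, g⁻¹ * x * g ∈ Q0 F p ∧ ∃ i l l' : Fin p, l ≠ l' ∧
      (g : Matrix (Fin p) (Fin p) F) l i ≠ 0 ∧ (g : Matrix (Fin p) (Fin p) F) l' i ≠ 0 := by
  obtain ⟨d, k, hd, hdk⟩ := hx
  have hx' : x ∈ Q0 F p := ⟨d, k, hd, hdk⟩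
  have hd0 : ∀ j, d j ≠ 0 := fun j => ne_zero_of_pow (hd j)
  by_cases hk : k = 0
  · subst hk
    by_cases hinj : Function.Injective d
    · exact case_A hd hdk hinj
    · rw [Function.Injective] at hinj
      push Not at hinj
      obtain ⟨i, j, hij, hne⟩ := hinj
      obtain ⟨g, hg, h⟩ := case_B hdk hne hij
      exact ⟨g, by rw [hg]; exact hx', h⟩
  · by_cases hxp : x ^ p = 1
    · obtain ⟨g, hg, h⟩ := case_C1 hp hζ1 hζ0 hpF hd0 hdk hk hxp
      exact ⟨g, by rw [hg]; exact hx', h⟩
    · obtain ⟨g, hg, h⟩ := case_C2 hp hd hdk hk hxp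
      exact ⟨g, by rw [hg]; exact hx', h⟩

end Cfsg.Agent.H25.RedSyl
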