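import Cfsg.Agent.H2.Regular

/-!
# Regular p-groups: powers
-/

set_option autoImplicit false
set_option linter.style.haveILetI false
set_option linter.unusedVariables false

namespace Cfsg.Agent.H25.RegP

open Cfsg
open scoped commutatorElement

variable {G : Type*} [Group G] [Finite G] {p : ℕ} [hp : Fact p.Prime]

theorem pow_mul_of (hG : Cfsg.IsRegularPGroup p G) {a b : G} {k : ℕ}
    (h : ∀ d ∈ ⁅Subgroup.closure ({a, b} : Set G), Subgroup.closure ({a, b} : Set G)⁆, d ^ p ^ k = 1) :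
    (a * b) ^ p ^ k = a ^ p ^ k * b ^ p ^ k := by
  obtain ⟨c, hc, h1⟩ := hG.2 a b k
  have h2 : powerClosure p k ⁅Subgroup.closure ({a, b} : Set G), Subgroup.closure ({a, b} : Set G)⁆ ≤ ⊥ := by
    unfold powerClosure
    rw [Subgroup.closure_le]
    rintro y ⟨x, hx, rfl⟩
    simpa using h x hx
  have h3 : c = 1 := by simpa using h2 hc
  rw [h1, h3, mul_one]

theorem exp_comm {a b : G} {k : ℕ} (M : Subgroup G)
    (hDM : ⁅Subgroup.closure ({a, b} : Set G), Subgroup.closure ({a, b} : Set G)⁆ ≤ M)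
    (haM : a ∈ Subgroup.normalizer (M : Set G)) (hbM : b ∈ Subgroup.normalizer (M : Set G))
    (hC : ∀ x ∈ M, ∀ y ∈ M, x ^ p ^ k = 1 → y ^ p ^ k = 1 → (x * y) ^ p ^ k = 1)
    (hab : ⁅a, b⁆ ^ p ^ k = 1) :
    ∀ d ∈ ⁅Subgroup.closure ({a, b} : Set G), Subgroup.closure ({a, b} : Set G)⁆, d ^ p ^ k = 1 := by
  let E : Subgroup G :=
    { carrier := {x | x ∈ M ∧ x ^ p ^ k = 1}
      one_mem' := ⟨one_mem _, one_pow _⟩
      mul_mem' := by
        rintro x y ⟨hx, hx'⟩ ⟨hy, hy'⟩
        exact ⟨mul_mem hx hy, hC x hx y hy hx' hy'⟩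
      inv_mem' := by
        rintro x ⟨hx, hx'⟩
        exact ⟨inv_mem hx, by rw [inv_pow, hx', inv_one]⟩ }
  have hE : ∀ x, x ∈ E ↔ x ∈ M ∧ x ^ p ^ k = 1 := fun x => Iff.rfl
  have hn : ∀ g ∈ Subgroup.normalizer (M : Set G), g ∈ Subgroup.normalizer (E : Set G) := by
    intro g hg
    rw [Subgroup.mem_normalizer_iff] at hg ⊢
    intro x
    rw [hE, hE, ← hg x, conj_pow]
    constructor
    · rintro ⟨h1, h2⟩; exact ⟨h1, by rw [h2]; group⟩
    · rintro ⟨h1, h2⟩
      refine ⟨h1, ?_⟩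
      have h3 : x ^ p ^ k = g⁻¹ * (g * x ^ p ^ k * g⁻¹) * g := by group
      rw [h3, h2]; group
  have habM : ⁅a, b⁆ ∈ M := hDM (Subgroup.commutator_mem_commutator
    (Subgroup.subset_closure (by simp)) (Subgroup.subset_closure (by simp)))
  have hle : ⁅Subgroup.closure ({a, b} : Set G), Subgroup.closure ({a, b} : Set G)⁆ ≤ E := by
    apply H2.commutator_closure_le
    · rintro x (rfl | hx)
      · exact hn _ haM
      · rw [Set.mem_singleton_iff] at hx; rw [hx]; exact hn _ hbM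
    · rintro x (rfl | hx)
      · exact hn _ haM
      · rw [Set.mem_singleton_iff] at hx; rw [hx]; exact hn _ hbM
    · have h1 : ⁅a, b⁆ ∈ E := ⟨habM, hab⟩
      have h2 : ∀ x : G, ⁅x, x⁆ ∈ E := by
        intro x
        have : ⁅x, x⁆ = 1 := by rw [commutatorElement_def]; group
        rw [this]; exact one_mem _
      rintro x (rfl | hx) y (rfl | hy)
      · exact h2 _
      · rw [Set.mem_singleton_iff] at hy; rw [hy]; exact h1
      · rw [Set.mem_singleton_iff] at hx; rw [hx]; exact H2.comm_swap_mem h1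
      · rw [Set.mem_singleton_iff] at hx hy; rw [hx, hy]; exact h2 _
  intro d hd
  exact (hle hd).2

theorem closure_pair_inv {a b : G} : Subgroup.closure ({a, b⁻¹} : Set G) = Subgroup.closure ({a, b} : Set G) := by
  apply le_antisymm
  · rw [Subgroup.closure_le]
    rintro x (rfl | hx)
    · exact Subgroup.subset_closure (by simp)
    · rw [Set.mem_singleton_iff] at hx; rw [hx]
      exact inv_mem (Subgroup.subset_closure (by simp))
  · rw [Subgroup.closure_le]
    rintro x (rfl | hx)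
    · exact Subgroup.subset_closure (by simp)
    · rw [Set.mem_singleton_iff] at hx; rw [hx]
      have : b⁻¹ ∈ Subgroup.closure ({a, b⁻¹} : Set G) := Subgroup.subset_closure (by simp)
      simpa using inv_mem this

theorem comm_eq' (a b : G) : a * (b * a * b⁻¹)⁻¹ = ⁅a, b⁆ := by
  rw [commutatorElement_def]; group

theorem powA (hG : Cfsg.IsRegularPGroup p G) (k N : ℕ) : ∀ a b : G,
    Nat.card (Subgroup.closure ({a, b} : Set G)) ≤ N →
    a ^ p ^ k = b ^ p ^ k → (a * b⁻¹) ^ p ^ k = 1 := by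
  have hpp : p.Prime := Fact.out
  induction N with
  | zero =>
    intro a b hN
    have : 0 < Nat.card (Subgroup.closure ({a, b} : Set G)) := Nat.card_pos
    omega
  | succ N ih =>
    intro a b hN hab
    set D := Subgroup.closure ({a, b} : Set G) with hD
    have haD : a ∈ D := Subgroup.subset_closure (by simp)
    have hbD : b ∈ D := Subgroup.subset_closure (by simp)
    by_cases htop : Subgroup.zpowers (⟨a, haD⟩ : D) = ⊤
    · have h1 : ∀ x ∈ D, ∃ k : ℤ, x = a ^ k := by
        intro x hx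
        have : (⟨x, hx⟩ : D) ∈ Subgroup.zpowers (⟨a, haD⟩ : D) := by
          rw [htop]; exact Subgroup.mem_top _
        obtain ⟨k, hk⟩ := this
        exact ⟨k, (congrArg Subtype.val hk).symm⟩
      obtain ⟨j, hj⟩ := h1 b hbD
      have h2 : Commute a b⁻¹ := by
        rw [hj]
        exact ((Commute.refl a).zpow_right j).inv_right
      rw [h2.mul_pow, inv_pow, hab, mul_inv_cancel]
    obtain ⟨M, hM, habM⟩ := (eq_top_or_exists_le_coatom _).resolve_left htop
    obtain ⟨hMi, hMn⟩ := Cfsg.Agent.H2.index_eq_of_isCoatom (hG.1.to_subgroup D) hM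
    have hcM : commutator D ≤ M := Cfsg.Agent.H2.commutator_le_of_index_prime hMi
    have hcard : Nat.card (M.map D.subtype) ≤ N := by
      rw [Subgroup.card_map_of_injective D.subtype_injective]
      have h3 := Subgroup.card_mul_index M
      rw [hMi] at h3
      have h4 : 0 < Nat.card M := Nat.card_pos
      have h5 := hpp.one_lt
      nlinarith
    have hDM : ⁅D, D⁆ ≤ M.map D.subtype := by
      have h1 : (commutator D).map D.subtype = ⁅D, D⁆ := by
        rw [commutator_def, Subgroup.map_commutator, ← MonoidHom.range_eq_map, Subgroup.range_subtype]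
      rw [← h1]
      exact Subgroup.map_mono hcM
    have ih' : ∀ x ∈ M.map D.subtype, ∀ y ∈ M.map D.subtype,
        x ^ p ^ k = y ^ p ^ k → (x * y⁻¹) ^ p ^ k = 1 := by
      intro x hx y hy
      apply ih
      refine (Subgroup.card_le_of_le ?_).trans hcard
      rw [Subgroup.closure_le]
      rintro z (rfl | hz)
      · exact hx
      · rw [Set.mem_singleton_iff] at hz; rw [hz]; exact hy
    have hDn : D ≤ Subgroup.normalizer ((M.map D.subtype : Subgroup G) : Set G) := by
      intro g hg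
      rw [Subgroup.mem_normalizer_iff]
      intro x
      constructor
      · rintro ⟨y, hy, rfl⟩
        exact ⟨⟨g, hg⟩ * y * ⟨g, hg⟩⁻¹, hMn.conj_mem y hy ⟨g, hg⟩, rfl⟩
      · rintro ⟨y, hy, hyx⟩
        refine ⟨⟨g, hg⟩⁻¹ * y * ⟨g, hg⟩, by simpa using hMn.conj_mem y hy ⟨g, hg⟩⁻¹, ?_⟩
        have h1 : ((y : D) : G) = g * x * g⁻¹ := hyx
        show g⁻¹ * (y : G) * g = x
        rw [h1]; group
    have haM : a ∈ M.map D.subtype := ⟨⟨a, haD⟩, habM (Subgroup.mem_zpowers _), rfl⟩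
    have hbaM : b * a * b⁻¹ ∈ M.map D.subtype := H2.conj_mem_of_norm (hDn hbD) haM
    have h1 : ⁅a, b⁆ ^ p ^ k = 1 := by
      rw [← comm_eq']
      apply ih' a haM _ hbaM
      rw [conj_pow, hab]; group
    have h2 := exp_comm (M.map D.subtype) hDM (hDn haD) (hDn hbD) (by
      intro x hx y hy hx1 hy1
      have := ih' x hx y⁻¹ (inv_mem hy) (by rw [inv_pow, hx1, hy1, inv_one])
      rwa [inv_inv] at this) h1
    rw [pow_mul_of hG (by rw [closure_pair_inv]; exact h2), inv_pow, hab, mul_inv_cancel]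

theorem pow_eq_imp (hG : Cfsg.IsRegularPGroup p G) {a b : G} {k : ℕ} (h : a ^ p ^ k = b ^ p ^ k) :
    (a * b⁻¹) ^ p ^ k = 1 := powA hG k _ a b le_rfl h

theorem pow_mul_one (hG : Cfsg.IsRegularPGroup p G) {a b : G} {k : ℕ} (ha : a ^ p ^ k = 1) (hb : b ^ p ^ k = 1) :
    (a * b) ^ p ^ k = 1 := by
  have := pow_eq_imp hG (a := a) (b := b⁻¹) (k := k) (by rw [inv_pow, ha, hb, inv_one])
  rwa [inv_inv] at this

theorem pow_eq_iff (hG : Cfsg.IsRegularPGroup p G) {a b : G} {k : ℕ} : a ^ p ^ k = b ^ p ^ k ↔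
    (a * b⁻¹) ^ p ^ k = 1 := by
  refine ⟨pow_eq_imp hG, ?_⟩
  intro h
  obtain ⟨c, hc⟩ : ∃ c, c = a * b⁻¹ := ⟨_, rfl⟩
  have ha : a = c * b := by rw [hc]; group
  rw [← hc] at h
  have h1 : ⁅c, b⁆ ^ p ^ k = 1 := by
    rw [← comm_eq']
    apply pow_eq_imp hG
    rw [conj_pow, h]; group
  have h2 := exp_comm (⊤ : Subgroup G) (a := c) (b := b) le_top
    (by rw [Subgroup.mem_normalizer_iff]; simp) (by rw [Subgroup.mem_normalizer_iff]; simp)
    (fun x _ y _ hx hy => pow_mul_one hG hx hy) h1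
  rw [ha, pow_mul_of hG h2, h, one_mul]

end Cfsg.Agent.H25.RegP
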