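import Mathlib

set_option autoImplicit false

namespace Cfsg.Agent.H25

universe u

open scoped Pointwise

section basic

variable {G : Type*} [Group G] {p : ℕ} [Fact p.Prime]

/-- A normal subgroup containing all Sylow `p`-subgroups has the same number of them. -/
theorem card_sylow_of_le (N : Subgroup G) (hN : ∀ P : Sylow p G, (P : Subgroup G) ≤ N) :
    Nat.card (Sylow p N) = Nat.card (Sylow p G) := by
  symm
  apply Nat.card_congr
  refine Equiv.ofBijective (fun P : Sylow p G => (P.subtype (hN P) : Sylow p N)) ⟨?_, ?_⟩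
  · intro P Q hPQ
    have h1 : (P : Subgroup G).subgroupOf N = (Q : Subgroup G).subgroupOf N := by
      have := congrArg (fun S : Sylow p N => (S : Subgroup N)) hPQ
      simpa using this
    apply Sylow.ext
    have h2 := congrArg (Subgroup.map N.subtype) h1
    rw [Subgroup.subgroupOf_map_subtype, Subgroup.subgroupOf_map_subtype,
      inf_eq_left.2 (hN P), inf_eq_left.2 (hN Q)] at h2
    exact h2
  · intro S
    obtain ⟨P, hP⟩ := (S.isPGroup'.map N.subtype).exists_le_sylow
    refine ⟨P, ?_⟩
    apply Sylow.ext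
    apply S.is_maximal' (P.subtype (hN P)).isPGroup'
    intro x hx
    exact hP ⟨x, hx, rfl⟩

theorem eq_of_le_normalizer [Finite G] {P Q : Sylow p G}
    (h : (Q : Subgroup G) ≤ Subgroup.normalizer (P : Set G)) : Q = P := by
  have h1 : (Q : Subgroup G) ≤ P := by
    have := Q.isPGroup'.inf_normalizer_sylow P
    rw [inf_eq_left.2 h] at this
    rw [this]
    exact inf_le_right
  exact Sylow.ext (Q.is_maximal' P.isPGroup' h1).symm

/-- Dividing by a normal subgroup normalizing all Sylow `p`-subgroups does not change their number. -/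
theorem card_sylow_quotient [Finite G] (K : Subgroup G) [K.Normal]
    (hK : ∀ P : Sylow p G, K ≤ Subgroup.normalizer (P : Set G)) :
    Nat.card (Sylow p (G ⧸ K)) = Nat.card (Sylow p G) := by
  symm
  apply Nat.card_congr
  refine Equiv.ofBijective (Sylow.mapSurjective (QuotientGroup.mk'_surjective K)) ⟨?_, ?_⟩
  · intro P Q hPQ
    have h1 : (P : Subgroup G).map (QuotientGroup.mk' K) = (Q : Subgroup G).map (QuotientGroup.mk' K) := by
      have := congrArg (fun S : Sylow p (G ⧸ K) => (S : Subgroup (G ⧸ K))) hPQ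
      simpa using this
    apply eq_of_le_normalizer
    have h2 := congrArg (Subgroup.comap (QuotientGroup.mk' K)) h1
    rw [QuotientGroup.comap_map_mk', QuotientGroup.comap_map_mk'] at h2
    calc (P : Subgroup G) ≤ K ⊔ P := le_sup_right
      _ = K ⊔ Q := h2
      _ ≤ Subgroup.normalizer (Q : Set G) := sup_le (hK Q) Subgroup.le_normalizer
  · exact Sylow.mapSurjective_surjective _ p

/-- Minimal counterexample principle for the number of Sylow subgroups. -/
theorem card_sylow_ne_of_min (p : ℕ) [Fact p.Prime] (n : ℕ)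
    (h : ∀ (G : Type u) [Group G] [Finite G], Nat.card (Sylow p G) = n →
      (∀ g : G, (∀ P : Sylow p G, g • P = P) → g = 1) →
      (∀ N : Subgroup G, N.Normal → (∀ P : Sylow p G, (P : Subgroup G) ≤ N) → N = ⊤) → False) :
    ∀ (G : Type u) [Group G] [Finite G], Nat.card (Sylow p G) ≠ n := by
  have key : ∀ m : ℕ, ∀ (G : Type u) [Group G] [Finite G], Nat.card G = m →
      Nat.card (Sylow p G) ≠ n := by
    intro m
    induction m using Nat.strong_induction_on with
    | _ m ih =>
      intro G _ _ hm hn
      refine h G hn ?_ ?_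
      · intro g hg
        by_contra hg1
        let K : Subgroup G := (MulAction.toPermHom G (Sylow p G)).ker
        have hKmem : ∀ x : G, x ∈ K ↔ ∀ P : Sylow p G, x • P = P := by
          intro x
          rw [MonoidHom.mem_ker, Equiv.ext_iff]
          rfl
        have hKP : ∀ P : Sylow p G, K ≤ Subgroup.normalizer (P : Set G) := by
          intro P x hx
          exact Sylow.smul_eq_iff_mem_normalizer.1 ((hKmem x).1 hx P)
        have hKb : K ≠ ⊥ := by
          intro hb
          have : g ∈ K := (hKmem g).2 hg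
          rw [hb, Subgroup.mem_bot] at this
          exact hg1 this
        have h1 : Nat.card (G ⧸ K) < m := by
          rw [← hm, ← Subgroup.index_eq_card]
          have h3 : 1 < Nat.card K := by
            rw [Subgroup.one_lt_card_iff_ne_bot]; exact hKb
          have h4 := K.card_mul_index
          have h5 : 0 < K.index := Nat.pos_of_ne_zero Subgroup.FiniteIndex.index_ne_zero
          rw [← h4]
          nlinarith
        exact ih _ h1 (G ⧸ K) rfl ((card_sylow_quotient K hKP).trans hn)
      · intro N _ hN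
        by_contra hNt
        have h1 : Nat.card N < m := by
          rw [← hm]
          exact lt_of_le_of_ne (Subgroup.card_le_card_group N)
            (fun h => hNt (Subgroup.eq_top_of_card_eq N h))
        exact ih _ h1 N rfl ((card_sylow_of_le N hN).trans hn)
  intro G _ _
  exact key _ G rfl

/-- All Sylow `p`-subgroups lie in a normal subgroup of index prime to `p`. -/
theorem sylow_le_of_coprime_index [Finite G] (N : Subgroup G) [N.Normal] (hN : ¬ p ∣ N.index)
    (P : Sylow p G) : (P : Subgroup G) ≤ N := by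
  intro x hx
  rw [← QuotientGroup.eq_one_iff, ← orderOf_eq_one_iff]
  obtain ⟨k, hk⟩ := IsPGroup.iff_orderOf.1 P.isPGroup' ⟨x, hx⟩
  apply Nat.eq_one_of_dvd_coprimes (a := p ^ k) (b := N.index)
  · exact Nat.Coprime.pow_left _ (((Fact.out : p.Prime).coprime_iff_not_dvd).2 hN)
  · rw [← hk, Subgroup.orderOf_mk]
    exact orderOf_map_dvd (QuotientGroup.mk' N) x
  · rw [Subgroup.index_eq_card]
    exact orderOf_dvd_natCard _

/-- The number of Sylow `p`-subgroups containing a given `p`-subgroup. -/
theorem card_containing_modEq [Finite G] {Q : Subgroup G} (hQ : IsPGroup p Q) :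
    Nat.card {P : Sylow p G // Q ≤ P} ≡ Nat.card (Sylow p G) [MOD p] := by
  have h1 := hQ.card_modEq_card_fixedPoints (Sylow p G)
  refine (h1.trans ?_).symm
  have : Nat.card (MulAction.fixedPoints Q (Sylow p G)) = Nat.card {P : Sylow p G // Q ≤ P} :=
    Nat.card_congr (Equiv.subtypeEquivRight fun P => hQ.sylow_mem_fixedPoints_iff)
  rw [this]

/-- If there are at most `p²` Sylow `p`-subgroups, two of them meet in a subgroup of index `p`. -/
theorem relIndex_inf_eq [Finite G] {P Q : Sylow p G} (hPQ : P ≠ Q)
    (hn : Nat.card (Sylow p G) ≤ p ^ 2) :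
    ((P : Subgroup G) ⊓ Q).relIndex P = p := by
  have h1 : MulAction.stabilizer (P : Subgroup G) Q = ((P : Subgroup G) ⊓ Q).subgroupOf P := by
    ext x
    rw [MulAction.mem_stabilizer_iff, Subgroup.mem_subgroupOf]
    have h2 : x • Q = (x : G) • Q := rfl
    rw [h2, Sylow.smul_eq_iff_mem_normalizer, ← P.isPGroup'.inf_normalizer_sylow Q]
    exact ⟨fun h => ⟨x.2, h⟩, fun h => h.2⟩
  have h2 : ((P : Subgroup G) ⊓ Q).relIndex P = Nat.card (MulAction.orbit (P : Subgroup G) Q) := by
    rw [Subgroup.relIndex, ← h1, MulAction.index_stabilizer, Nat.card_coe_set_eq]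
  obtain ⟨k, hk⟩ := IsPGroup.iff_card.1 P.isPGroup'
  have h3 : ((P : Subgroup G) ⊓ Q).relIndex P ∣ p ^ k := by
    rw [← hk]; exact Subgroup.relIndex_dvd_card _ _
  obtain ⟨j, -, hj⟩ := (Nat.dvd_prime_pow (Fact.out : p.Prime)).1 h3
  have hp1 : 1 < p := (Fact.out : p.Prime).one_lt
  have h4 : Nat.card (MulAction.orbit (P : Subgroup G) Q) < Nat.card (Sylow p G) := by
    have hnot : P ∉ MulAction.orbit (P : Subgroup G) Q := by
      rintro ⟨x, hx⟩
      have h6 : x⁻¹ • P = P := by
        have h7 : (x⁻¹ : (P : Subgroup G)) • P = ((x⁻¹ : (P : Subgroup G)) : G) • P := rfl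
        rw [h7]
        exact Sylow.smul_eq_iff_mem_normalizer.2 (Subgroup.le_normalizer (x⁻¹).2)
      have h8 : x • Q = P := hx
      have h9 : Q = x⁻¹ • P := eq_inv_smul_iff.2 h8
      exact hPQ (h9.trans h6).symm
    rw [Nat.card_coe_set_eq, ← Set.ncard_univ]
    apply Set.ncard_lt_ncard _ (Set.toFinite _)
    exact ⟨Set.subset_univ _, fun h => hnot (h (Set.mem_univ P))⟩
  have h5 : j ≠ 0 := by
    rintro rfl
    rw [pow_zero, Subgroup.relIndex_eq_one] at hj
    exact hPQ (Sylow.ext (P.is_maximal' Q.isPGroup' (hj.trans inf_le_right))).symm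
  have h6 : j < 2 := by
    by_contra hj2
    have : p ^ 2 ≤ p ^ j := Nat.pow_le_pow_right hp1.le (by omega)
    omega
  have h7 : j = 1 := by omega
  rw [hj, h7, pow_one]

end basic

end Cfsg.Agent.H25
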