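import Mathlib

set_option autoImplicit false
set_option linter.unusedSectionVars false

namespace Cfsg.Agent.H25.Uniq2

open Equiv

variable {α : Type*} [DecidableEq α] [Fintype α]

/-- permutations supported in `A` -/
def Sp (A : Finset α) : Subgroup (Perm α) where
  carrier := {g | ∀ a, a ∉ A → g a = a}
  one_mem' := fun _ _ => rfl
  mul_mem' := by
    intro g h hg hh a ha
    rw [Perm.mul_apply, hh a ha, hg a ha]
  inv_mem' := by
    intro g hg a ha
    rw [Perm.inv_eq_iff_eq, hg a ha]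

theorem mem_Sp {A : Finset α} {g : Perm α} : g ∈ Sp A ↔ ∀ a, a ∉ A → g a = a := Iff.rfl

/-- setwise stabilizer -/
def St (E : Finset α) : Subgroup (Perm α) where
  carrier := {g | ∀ a, g a ∈ E ↔ a ∈ E}
  one_mem' := fun _ => Iff.rfl
  mul_mem' := by
    intro g h hg hh a
    rw [Perm.mul_apply, hg, hh]
  inv_mem' := by
    intro g hg a
    have : g (g⁻¹ a) = a := by rw [← Perm.mul_apply, mul_inv_cancel, Perm.one_apply]
    rw [← hg, this]

theorem mem_St {E : Finset α} {g : Perm α} : g ∈ St E ↔ ∀ a, g a ∈ E ↔ a ∈ E := Iff.rfl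

theorem Sp_le_St {A : Finset α} {g : Perm α} (hg : g ∈ Sp A) : g ∈ St A := by
  intro a
  by_cases ha : a ∈ A
  · simp only [ha, iff_true]
    by_contra h
    have h1 := hg _ h
    exact h (by rw [g.injective h1]; exact ha)
  · rw [hg a ha]

/-- restriction -/
noncomputable def res (E : Finset α) (g : Perm α) : Perm α :=
  open scoped Classical in
  if h : ∀ a, g a ∈ E ↔ a ∈ E then Perm.ofSubtype (g.subtypePerm h) else 1

theorem res_apply {E : Finset α} {g : Perm α} (hg : g ∈ St E) (a : α) :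
    res E g a = if a ∈ E then g a else a := by
  have h : ∀ a, g a ∈ E ↔ a ∈ E := hg
  unfold res
  rw [dif_pos h]
  by_cases ha : a ∈ E
  · rw [if_pos ha, Perm.ofSubtype_apply_of_mem _ ha]
    rfl
  · rw [if_neg ha, Perm.ofSubtype_apply_of_not_mem _ ha]

theorem res_mul {E : Finset α} {g h : Perm α} (hg : g ∈ St E) (hh : h ∈ St E) :
    res E (g * h) = res E g * res E h := by
  ext a
  rw [Perm.mul_apply, res_apply (mul_mem hg hh), res_apply hg, res_apply hh]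
  by_cases ha : a ∈ E
  · rw [if_pos ha, if_pos ha, if_pos ((hh a).2 ha)]
    rfl
  · rw [if_neg ha, if_neg ha, if_neg ha]

theorem res_one (E : Finset α) : res E (1 : Perm α) = 1 := by
  ext a
  rw [res_apply (St E).one_mem]
  split_ifs <;> rfl

theorem res_inv {E : Finset α} {g : Perm α} (hg : g ∈ St E) : res E g⁻¹ = (res E g)⁻¹ := by
  rw [eq_inv_iff_mul_eq_one, ← res_mul (inv_mem hg) hg, inv_mul_cancel, res_one]

theorem res_pow {E : Finset α} {g : Perm α} (hg : g ∈ St E) (n : ℕ) :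
    res E (g ^ n) = (res E g) ^ n := by
  induction n with
  | zero => rw [pow_zero, pow_zero, res_one]
  | succ n ih => rw [pow_succ, pow_succ, res_mul (pow_mem hg n) hg, ih]

theorem res_mem {E : Finset α} {g : Perm α} (hg : g ∈ St E) : res E g ∈ Sp E := by
  intro a ha
  rw [res_apply hg, if_neg ha]

theorem res_of_Sp {E : Finset α} {g : Perm α} (hg : g ∈ Sp E) : res E g = g := by
  ext a
  rw [res_apply (Sp_le_St hg)]
  by_cases ha : a ∈ E
  · rw [if_pos ha]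
  · rw [if_neg ha, hg a ha]

theorem St_of_Sp_disj {E E' : Finset α} (hd : Disjoint E E') {g : Perm α} (hg : g ∈ Sp E) :
    g ∈ St E' := by
  intro a
  by_cases ha : a ∈ E
  · have h1 : g a ∈ E := (Sp_le_St hg a).2 ha
    exact ⟨fun h => absurd h (Finset.disjoint_left.1 hd h1),
      fun h => absurd h (Finset.disjoint_left.1 hd ha)⟩
  · rw [hg a ha]

theorem res_of_Sp_disj {E E' : Finset α} (hd : Disjoint E E') {g : Perm α} (hg : g ∈ Sp E) :
    res E' g = 1 := by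
  ext a
  rw [res_apply (St_of_Sp_disj hd hg)]
  by_cases ha : a ∈ E'
  · rw [if_pos ha, hg a (fun h => Finset.disjoint_left.1 hd h ha)]
    rfl
  · rw [if_neg ha]
    rfl

section split

variable {A E E' : Finset α} (hA : A = E ∪ E') (hd : Disjoint E E')

include hA hd

theorem St_iff {g : Perm α} (hg : g ∈ Sp A) : g ∈ St E ↔ g ∈ St E' := by
  have key : ∀ {E E' : Finset α}, A = E ∪ E' → Disjoint E E' → g ∈ St E → g ∈ St E' := by
    intro E E' hA hd h a
    have h1 := h a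
    have h2 := Sp_le_St hg a
    rw [hA, Finset.mem_union, Finset.mem_union] at h2
    constructor
    · intro h3
      rcases h2.1 (Or.inr h3) with h4 | h4
      · exact absurd h3 (Finset.disjoint_left.1 hd (h1.2 h4))
      · exact h4
    · intro h3
      rcases h2.2 (Or.inr h3) with h4 | h4
      · exact absurd h3 (Finset.disjoint_left.1 hd (h1.1 h4))
      · exact h4
  exact ⟨key hA hd, key (by rw [hA, Finset.union_comm]) hd.symm⟩

theorem split {g : Perm α} (hg : g ∈ Sp A) (hE : g ∈ St E) : g = res E g * res E' g := by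
  have hE' := (St_iff hA hd hg).1 hE
  ext a
  rw [Perm.mul_apply, res_apply hE']
  by_cases ha' : a ∈ E'
  · rw [if_pos ha', res_apply hE, if_neg]
    exact fun h => Finset.disjoint_left.1 hd h ((hE' a).2 ha')
  · rw [if_neg ha', res_apply hE]
    by_cases ha : a ∈ E
    · rw [if_pos ha]
    · rw [if_neg ha, hg a]
      rw [hA, Finset.mem_union]
      tauto

end split

/-- `P` is the largest `2`-subgroup of `Sp A` containing `x`, and is self-normalizing -/
structure MX (A : Finset α) (x : Perm α) (P : Subgroup (Perm α)) : Prop where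
  pg : IsPGroup 2 P
  le : P ≤ Sp A
  mem : x ∈ P
  max : ∀ R : Subgroup (Perm α), R ≤ Sp A → IsPGroup 2 R → x ∈ R → R ≤ P
  norm : ∀ g ∈ Sp A, (∀ y ∈ P, g * y * g⁻¹ ∈ P) → g ∈ P

section comb

variable {A E E' : Finset α} {x₁ x₂ : Perm α} {P₁ P₂ : Subgroup (Perm α)}

/-- the product -/
noncomputable def P0 (A E E' : Finset α) (P₁ P₂ : Subgroup (Perm α)) : Subgroup (Perm α) where
  carrier := {g | g ∈ Sp A ∧ g ∈ St E ∧ g ∈ St E' ∧ res E g ∈ P₁ ∧ res E' g ∈ P₂}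
  one_mem' := ⟨one_mem _, one_mem _, one_mem _, by rw [res_one]; exact one_mem _,
    by rw [res_one]; exact one_mem _⟩
  mul_mem' := by
    rintro g h ⟨a1, a2, a3, a4, a5⟩ ⟨b1, b2, b3, b4, b5⟩
    refine ⟨mul_mem a1 b1, mul_mem a2 b2, mul_mem a3 b3, ?_, ?_⟩
    · rw [res_mul a2 b2]; exact mul_mem a4 b4
    · rw [res_mul a3 b3]; exact mul_mem a5 b5
  inv_mem' := by
    rintro g ⟨a1, a2, a3, a4, a5⟩
    refine ⟨inv_mem a1, inv_mem a2, inv_mem a3, ?_, ?_⟩
    · rw [res_inv a2]; exact inv_mem a4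
    · rw [res_inv a3]; exact inv_mem a5

theorem mem_P0 {g : Perm α} : g ∈ P0 A E E' P₁ P₂ ↔
    g ∈ Sp A ∧ g ∈ St E ∧ g ∈ St E' ∧ res E g ∈ P₁ ∧ res E' g ∈ P₂ := Iff.rfl

variable (hA : A = E ∪ E') (hd : Disjoint E E') (h₁ : MX E x₁ P₁) (h₂ : MX E' x₂ P₂)

include hA hd h₁ h₂

theorem P0_pg : IsPGroup 2 (P0 A E E' P₁ P₂) := by
  rintro ⟨g, a1, a2, a3, a4, a5⟩
  obtain ⟨k, hk⟩ := h₁.pg ⟨_, a4⟩
  obtain ⟨l, hl⟩ := h₂.pg ⟨_, a5⟩
  have hk' : res E g ^ 2 ^ k = 1 := congrArg Subtype.val hk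
  have hl' : res E' g ^ 2 ^ l = 1 := congrArg Subtype.val hl
  refine ⟨k + l, ?_⟩
  apply Subtype.ext
  change g ^ 2 ^ (k + l) = 1
  rw [split hA hd (pow_mem a1 _) (pow_mem a2 _), res_pow a2, res_pow a3]
  rw [pow_add, pow_mul, hk', one_pow, one_mul, mul_comm (2 ^ k), pow_mul, hl', one_pow]

theorem P0_of {R : Subgroup (Perm α)} (hR : R ≤ Sp A) (hRp : IsPGroup 2 R) (hRE : R ≤ St E)
    {r₁ r₂ : Perm α} (e1 : r₁ ∈ R) (e2 : r₂ ∈ R) (f1 : res E r₁ = x₁) (f2 : res E' r₂ = x₂) :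
    R ≤ P0 A E E' P₁ P₂ := by
  have hRE' : R ≤ St E' := fun r hr => (St_iff hA hd (hR hr)).1 (hRE hr)
  have key : ∀ (D : Finset α), R ≤ St D → ∃ S : Subgroup (Perm α), S ≤ Sp D ∧ IsPGroup 2 S ∧
      ∀ r ∈ R, res D r ∈ S := by
    intro D hD
    refine ⟨{ carrier := {y | ∃ r ∈ R, res D r = y}
              one_mem' := ⟨1, one_mem _, res_one D⟩
              mul_mem' := ?_
              inv_mem' := ?_ }, ?_, ?_, ?_⟩
    · rintro _ _ ⟨r, hr, rfl⟩ ⟨s, hs, rfl⟩
      exact ⟨r * s, mul_mem hr hs, res_mul (hD hr) (hD hs)⟩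
    · rintro _ ⟨r, hr, rfl⟩
      exact ⟨r⁻¹, inv_mem hr, res_inv (hD hr)⟩
    · rintro _ ⟨r, hr, rfl⟩
      exact res_mem (hD hr)
    · rintro ⟨_, r, hr, rfl⟩
      obtain ⟨k, hk⟩ := hRp ⟨r, hr⟩
      have hk' : r ^ 2 ^ k = 1 := congrArg Subtype.val hk
      refine ⟨k, Subtype.ext ?_⟩
      change (res D r) ^ 2 ^ k = 1
      rw [← res_pow (hD hr), hk', res_one]
    · exact fun r hr => ⟨r, hr, rfl⟩
  obtain ⟨S₁, s1, s2, s3⟩ := key E hRE
  obtain ⟨S₂, t1, t2, t3⟩ := key E' hRE'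
  have u1 := h₁.max S₁ s1 s2 (f1 ▸ s3 _ e1)
  have u2 := h₂.max S₂ t1 t2 (f2 ▸ t3 _ e2)
  intro r hr
  exact ⟨hR hr, hRE hr, hRE' hr, u1 (s3 r hr), u2 (t3 r hr)⟩

theorem P0_norm {g : Perm α} (hg : g ∈ Sp A) (hgE : g ∈ St E)
    (hn : ∀ y ∈ P0 A E E' P₁ P₂, g * y * g⁻¹ ∈ P0 A E E' P₁ P₂) : g ∈ P0 A E E' P₁ P₂ := by
  have hgE' := (St_iff hA hd hg).1 hgE
  refine ⟨hg, hgE, hgE', ?_, ?_⟩
  · apply h₁.norm _ (res_mem hgE)
    intro y hy
    have hyE := h₁.le hy
    have h3 : y ∈ P0 A E E' P₁ P₂ := by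
      refine ⟨fun a ha => hyE a fun h => ha ?_, Sp_le_St hyE, St_of_Sp_disj hd hyE, ?_, ?_⟩
      · rw [hA, Finset.mem_union]; exact Or.inl h
      · rw [res_of_Sp hyE]; exact hy
      · rw [res_of_Sp_disj hd hyE]; exact one_mem _
    have h4 := (hn y h3).2.2.2.1
    rwa [res_mul (mul_mem hgE (Sp_le_St hyE)) (inv_mem hgE), res_mul hgE (Sp_le_St hyE),
      res_inv hgE, res_of_Sp hyE] at h4
  · apply h₂.norm _ (res_mem hgE')
    intro y hy
    have hyE := h₂.le hy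
    have h3 : y ∈ P0 A E E' P₁ P₂ := by
      refine ⟨fun a ha => hyE a fun h => ha ?_, St_of_Sp_disj hd.symm hyE, Sp_le_St hyE, ?_, ?_⟩
      · rw [hA, Finset.mem_union]; exact Or.inr h
      · rw [res_of_Sp_disj hd.symm hyE]; exact one_mem _
      · rw [res_of_Sp hyE]; exact hy
    have h4 := (hn y h3).2.2.2.2
    rwa [res_mul (mul_mem hgE' (Sp_le_St hyE)) (inv_mem hgE'), res_mul hgE' (Sp_le_St hyE),
      res_inv hgE', res_of_Sp hyE] at h4

end comb

end Cfsg.Agent.H25.Uniq2
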