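import Cfsg.Agent.H25.Uniq2A

set_option autoImplicit false
set_option linter.unusedSectionVars false

namespace Cfsg.Agent.H25.Uniq2

open Equiv

variable {α : Type*} [DecidableEq α] [Fintype α]

/-- setwise stabilizer of the pair `{E, E'}` -/
def St2 (E E' : Finset α) : Subgroup (Perm α) where
  carrier := {g | (∀ a, (g a ∈ E ↔ a ∈ E) ∧ (g a ∈ E' ↔ a ∈ E')) ∨
    (∀ a, (g a ∈ E' ↔ a ∈ E) ∧ (g a ∈ E ↔ a ∈ E'))}
  one_mem' := Or.inl fun _ => ⟨Iff.rfl, Iff.rfl⟩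
  mul_mem' := by
    rintro g h (hg | hg) (hh | hh)
    · left
      intro a
      rw [Perm.mul_apply, (hg _).1, (hg _).2, (hh _).1, (hh _).2]
      exact ⟨Iff.rfl, Iff.rfl⟩
    · right
      intro a
      rw [Perm.mul_apply, (hg _).1, (hg _).2, (hh _).1, (hh _).2]
      exact ⟨Iff.rfl, Iff.rfl⟩
    · right
      intro a
      rw [Perm.mul_apply, (hg _).1, (hg _).2, (hh _).1, (hh _).2]
      exact ⟨Iff.rfl, Iff.rfl⟩
    · left
      intro a
      rw [Perm.mul_apply, (hg _).1, (hg _).2, (hh _).1, (hh _).2]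
      exact ⟨Iff.rfl, Iff.rfl⟩
  inv_mem' := by
    rintro g (hg | hg)
    · left
      intro a
      have : g (g⁻¹ a) = a := by rw [← Perm.mul_apply, mul_inv_cancel, Perm.one_apply]
      rw [← (hg (g⁻¹ a)).1, ← (hg (g⁻¹ a)).2, this]
      exact ⟨Iff.rfl, Iff.rfl⟩
    · right
      intro a
      have : g (g⁻¹ a) = a := by rw [← Perm.mul_apply, mul_inv_cancel, Perm.one_apply]
      rw [← (hg (g⁻¹ a)).1, ← (hg (g⁻¹ a)).2, this]
      exact ⟨Iff.rfl, Iff.rfl⟩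

theorem mem_St2 {E E' : Finset α} {g : Perm α} : g ∈ St2 E E' ↔
    (∀ a, (g a ∈ E ↔ a ∈ E) ∧ (g a ∈ E' ↔ a ∈ E')) ∨
    (∀ a, (g a ∈ E' ↔ a ∈ E) ∧ (g a ∈ E ↔ a ∈ E')) := Iff.rfl

theorem conj_St {E E' : Finset α} {g y : Perm α} (hg : g ∈ St2 E E') (hy : y ∈ St E)
    (hy' : y ∈ St E') : g * y * g⁻¹ ∈ St E := by
  have key : ∀ h ∈ St2 E E', ∀ y, y ∈ St E → y ∈ St E' → ∀ a, (h * y * h⁻¹) a ∈ E ↔ a ∈ E := by
    intro h hh y hy hy' a
    have e1 : h (h⁻¹ a) = a := by rw [← Perm.mul_apply, mul_inv_cancel, Perm.one_apply]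
    rw [Perm.mul_apply, Perm.mul_apply]
    rcases hh with hh | hh
    · rw [(hh _).1, hy, ← (hh _).1, e1]
    · rw [(hh _).2, hy', ← (hh _).2, e1]
  exact key g hg y hy hy'

theorem norm_inv {H : Subgroup (Perm α)} {g : Perm α} (h : ∀ y ∈ H, g * y * g⁻¹ ∈ H) :
    ∀ y ∈ H, g⁻¹ * y * g ∈ H := by
  have key : ∀ k : ℕ, ∀ y ∈ H, g ^ k * y * (g ^ k)⁻¹ ∈ H := by
    intro k
    induction k with
    | zero => intro y hy; simpa using hy
    | succ k ih =>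
      intro y hy
      have := h _ (ih y hy)
      rw [pow_succ']
      convert this using 1
      group
  intro y hy
  have h1 := key (orderOf g - 1) y hy
  have h2 : g ^ (orderOf g - 1) = g⁻¹ := by
    rw [eq_inv_iff_mul_eq_one, ← pow_succ, Nat.sub_add_cancel (orderOf_pos g), pow_orderOf_eq_one]
  rwa [h2, inv_inv] at h1

section wr

variable {A E E' : Finset α} {x₁ x₂ : Perm α} {P₁ P₂ : Subgroup (Perm α)}

/-- the wreath type group -/
noncomputable def W (A E E' : Finset α) (P₁ P₂ : Subgroup (Perm α)) : Subgroup (Perm α) where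
  carrier := {g | g ∈ Sp A ∧ g ∈ St2 E E' ∧ (∀ y ∈ P0 A E E' P₁ P₂, g * y * g⁻¹ ∈ P0 A E E' P₁ P₂)}
  one_mem' := ⟨one_mem _, one_mem _, fun y hy => by simpa using hy⟩
  mul_mem' := by
    rintro g h ⟨a1, a2, a3⟩ ⟨b1, b2, b3⟩
    refine ⟨mul_mem a1 b1, mul_mem a2 b2, fun y hy => ?_⟩
    have := a3 _ (b3 y hy)
    convert this using 1
    group
  inv_mem' := by
    rintro g ⟨a1, a2, a3⟩
    refine ⟨inv_mem a1, inv_mem a2, fun y hy => ?_⟩
    rw [inv_inv]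
    exact norm_inv a3 y hy

theorem Wr (hA : A = E ∪ E') (hd : Disjoint E E') (h₁ : MX E x₁ P₁) (h₂ : MX E' x₂ P₂)
    {x z : Perm α} (hx : x ∈ Sp A) (hx2 : ∃ k, x ^ 2 ^ k = 1)
    (f1 : res E z = x₁) (f2 : res E' z = x₂)
    (ha : ∀ R : Subgroup (Perm α), R ≤ Sp A → IsPGroup 2 R → x ∈ R →
      ∃ M : Subgroup (Perm α), M ≤ R ∧ (∀ r ∈ R, ∀ m ∈ M, r * m * r⁻¹ ∈ M) ∧ z ∈ M ∧ M ≤ St E ∧
        R ≤ St2 E E')
    (hb : ∀ g ∈ Sp A, g * x * g⁻¹ ∈ St2 E E' → g ∈ St2 E E') : MX A x (W A E E' P₁ P₂) := by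
  have hP0St : ∀ w ∈ W A E E' P₁ P₂, w ∈ St E → w ∈ P0 A E E' P₁ P₂ := fun w hw hwE =>
    P0_norm hA hd h₁ h₂ hw.1 hwE hw.2.2
  have hmax : ∀ R : Subgroup (Perm α), R ≤ Sp A → IsPGroup 2 R → x ∈ R →
      R ≤ W A E E' P₁ P₂ := by
    intro R hR hRp hxR
    obtain ⟨M, m1, m2, m3, m4, m5⟩ := ha R hR hRp hxR
    have hMp : IsPGroup 2 M := hRp.to_le m1
    have hM : M ≤ P0 A E E' P₁ P₂ :=
      P0_of hA hd h₁ h₂ (m1.trans hR) hMp m4 m3 m3 f1 f2
    intro r hr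
    refine ⟨hR hr, m5 hr, ?_⟩
    have h3 : (P0 A E E' P₁ P₂).map (MulAut.conj r).toMonoidHom ≤ P0 A E E' P₁ P₂ := by
      have hz : z ∈ (P0 A E E' P₁ P₂).map (MulAut.conj r).toMonoidHom := by
        refine ⟨r⁻¹ * z * r, hM ?_, ?_⟩
        · have := m2 r⁻¹ (inv_mem hr) z m3
          rwa [inv_inv] at this
        · change r * (r⁻¹ * z * r) * r⁻¹ = z
          group
      refine P0_of hA hd h₁ h₂ ?_ ((P0_pg hA hd h₁ h₂).map _) ?_ hz hz f1 f2
      · rintro _ ⟨y, hy, rfl⟩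
        exact mul_mem (mul_mem (hR hr) hy.1) (inv_mem (hR hr))
      · rintro _ ⟨y, hy, rfl⟩
        exact conj_St (m5 hr) hy.2.1 hy.2.2.1
    intro y hy
    exact h3 ⟨y, hy, rfl⟩
  refine ⟨?_, fun g hg => hg.1, ?_, hmax, ?_⟩
  · rintro ⟨g, hg⟩
    have hg2 : g ^ 2 ∈ P0 A E E' P₁ P₂ := by
      refine hP0St _ (pow_mem hg 2) ?_
      intro a
      rw [pow_two, Perm.mul_apply]
      rcases hg.2.1 with h | h
      · rw [(h _).1, (h _).1]
      · rw [(h _).2, (h _).1]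
    obtain ⟨k, hk⟩ := P0_pg hA hd h₁ h₂ ⟨_, hg2⟩
    have hk' : (g ^ 2) ^ 2 ^ k = 1 := congrArg Subtype.val hk
    refine ⟨k + 1, Subtype.ext ?_⟩
    change g ^ 2 ^ (k + 1) = 1
    rw [pow_succ', pow_mul, hk']
  · obtain ⟨k, hk⟩ := hx2
    refine hmax (Subgroup.zpowers x) ?_ ?_ (Subgroup.mem_zpowers x) (Subgroup.mem_zpowers x)
    · rw [Subgroup.zpowers_le]; exact hx
    · rintro ⟨y, i, rfl⟩
      refine ⟨k, Subtype.ext ?_⟩
      change (x ^ i) ^ 2 ^ k = 1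
      rw [← zpow_natCast, ← zpow_mul, mul_comm, zpow_mul, zpow_natCast, hk, one_zpow]
  · intro g hg hn
    have hxW : x ∈ W A E E' P₁ P₂ := by
      obtain ⟨k, hk⟩ := hx2
      refine hmax (Subgroup.zpowers x) ?_ ?_ (Subgroup.mem_zpowers x) (Subgroup.mem_zpowers x)
      · rw [Subgroup.zpowers_le]; exact hx
      · rintro ⟨y, i, rfl⟩
        refine ⟨k, Subtype.ext ?_⟩
        change (x ^ i) ^ 2 ^ k = 1
        rw [← zpow_natCast, ← zpow_mul, mul_comm, zpow_mul, zpow_natCast, hk, one_zpow]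
    have hg2 : g ∈ St2 E E' := hb g hg (hn x hxW).2.1
    refine ⟨hg, hg2, fun y hy => ?_⟩
    have hyW : y ∈ W A E E' P₁ P₂ :=
      ⟨hy.1, Or.inl fun a => ⟨hy.2.1 a, hy.2.2.1 a⟩, fun w hw => mul_mem (mul_mem hy hw) (inv_mem hy)⟩
    exact hP0St _ (hn y hyW) (conj_St hg2 hy.2.1 hy.2.2.1)

end wr

/-- point stabilizer -/
def Fx (a : α) : Subgroup (Perm α) where
  carrier := {g | g a = a}
  one_mem' := rfl
  mul_mem' := by
    intro g h hg hh
    change (g * h) a = a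
    rw [Perm.mul_apply, hh, hg]
  inv_mem' := by
    intro g hg
    change g⁻¹ a = a
    rw [Perm.inv_eq_iff_eq]
    exact (show g a = a from hg).symm

/-- orbits -/
noncomputable def orb (R : Subgroup (Perm α)) (a : α) : Finset α :=
  open scoped Classical in Finset.univ.filter fun b => ∃ r ∈ R, r a = b

theorem mem_orb {R : Subgroup (Perm α)} {a b : α} : b ∈ orb R a ↔ ∃ r ∈ R, r a = b := by
  classical
  unfold orb
  rw [Finset.mem_filter]
  simp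

theorem self_mem_orb (R : Subgroup (Perm α)) (a : α) : a ∈ orb R a :=
  mem_orb.2 ⟨1, one_mem _, rfl⟩

theorem orb_inv {R : Subgroup (Perm α)} {a : α} : R ≤ St (orb R a) := by
  intro r hr b
  rw [mem_orb, mem_orb]
  constructor
  · rintro ⟨s, hs, h⟩
    refine ⟨r⁻¹ * s, mul_mem (inv_mem hr) hs, ?_⟩
    rw [Perm.mul_apply, h, ← Perm.mul_apply, inv_mul_cancel, Perm.one_apply]
  · rintro ⟨s, hs, rfl⟩
    exact ⟨r * s, mul_mem hr hs, rfl⟩

theorem orb_subset {R : Subgroup (Perm α)} {a : α} {D : Finset α} (hR : R ≤ St D) (ha : a ∈ D) :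
    orb R a ⊆ D := by
  intro b hb
  obtain ⟨r, hr, rfl⟩ := mem_orb.1 hb
  exact (hR hr a).2 ha

theorem orb_mono {R S : Subgroup (Perm α)} (h : R ≤ S) (a : α) : orb R a ⊆ orb S a := by
  intro b hb
  obtain ⟨r, hr, rfl⟩ := mem_orb.1 hb
  exact mem_orb.2 ⟨r, h hr, rfl⟩

theorem card_orb (R : Subgroup (Perm α)) (a : α) : (orb R a).card = (Fx a).relIndex R := by
  classical
  have h1 : (orb R a : Set α) = MulAction.orbit R a := by
    ext b
    rw [Finset.mem_coe, mem_orb, MulAction.mem_orbit_iff]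
    constructor
    · rintro ⟨r, hr, h⟩
      exact ⟨⟨r, hr⟩, h⟩
    · rintro ⟨⟨r, hr⟩, h⟩
      exact ⟨r, hr, h⟩
  have h2 : (orb R a).card = Nat.card (MulAction.orbit R a) := by
    rw [← h1]
    simp
  have h3 : MulAction.stabilizer R a = (Fx a).subgroupOf R := by
    ext ⟨r, hr⟩
    rfl
  have h4 := MulAction.index_stabilizer (↥R) a
  rw [h3] at h4
  rw [h2, Nat.card_coe_set_eq, ← h4]
  rfl

theorem card_orb_pow {R : Subgroup (Perm α)} (hR : IsPGroup 2 R) (a : α) :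
    ∃ k, (orb R a).card = 2 ^ k := by
  obtain ⟨n, hn⟩ := IsPGroup.iff_card.1 hR
  have h1 : (orb R a).card ∣ 2 ^ n := by
    rw [card_orb, ← hn]
    exact Subgroup.index_dvd_card _
  obtain ⟨k, _, hk⟩ := (Nat.dvd_prime_pow Nat.prime_two).1 h1
  exact ⟨k, hk⟩

/-- an index two subgroup above a point stabilizer -/
theorem index_two {R : Subgroup (Perm α)} (hR : IsPGroup 2 R) (a : α) {k : ℕ}
    (hk : (orb R a).card = 2 ^ (k + 1)) :
    ∃ M : Subgroup (Perm α), M ≤ R ∧ (∀ r ∈ R, ∀ m ∈ M, r * m * r⁻¹ ∈ M) ∧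
      (∀ r ∈ R, r a = a → r ∈ M) ∧ (∀ r ∈ R, ∀ s ∈ R, r ∉ M → s ∉ M → r * s ∈ M) ∧
      (orb M a).card = 2 ^ k := by
  classical
  obtain ⟨n, hn⟩ := IsPGroup.iff_card.1 hR
  set S : Subgroup R := (Fx a).subgroupOf R with hS
  have hSi : S.index = 2 ^ (k + 1) := by
    rw [← hk, card_orb]
    rfl
  have hSc := S.card_mul_index
  rw [hSi, hn] at hSc
  have hSd : Nat.card S ∣ 2 ^ n := ⟨_, hSc.symm⟩
  obtain ⟨m, _, hm⟩ := (Nat.dvd_prime_pow Nat.prime_two).1 hSd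
  have hmn : m + (k + 1) = n := by
    rw [hm, ← pow_add] at hSc
    exact Nat.pow_right_injective le_rfl hSc
  obtain ⟨T, hT1, hT2⟩ := Sylow.exists_subgroup_card_pow_prime_le 2
    (show 2 ^ (m + k) ∣ Nat.card R by rw [hn]; exact pow_dvd_pow 2 (by omega)) S hm (by omega)
  have hTi : T.index = 2 := by
    have h1 := T.card_mul_index
    rw [hT1, hn, ← hmn, ← add_assoc, pow_succ] at h1
    exact Nat.eq_of_mul_eq_mul_left (pow_pos (by norm_num) _) h1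
  haveI hTn : T.Normal := Subgroup.normal_of_index_eq_two hTi
  have hle : T.map R.subtype ≤ R := by
    rintro _ ⟨t, _, rfl⟩
    exact t.2
  have hmem : ∀ r (hr : r ∈ R), r ∈ T.map R.subtype ↔ (⟨r, hr⟩ : R) ∈ T := by
    intro r hr
    constructor
    · rintro ⟨t, ht, rfl⟩
      exact ht
    · intro h
      exact ⟨_, h, rfl⟩
  refine ⟨T.map R.subtype, hle, ?_, ?_, ?_, ?_⟩
  · rintro r hr _ ⟨t, ht, rfl⟩
    exact ⟨⟨r, hr⟩ * t * ⟨r, hr⟩⁻¹, hTn.conj_mem t ht _, rfl⟩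
  · intro r hr ha
    rw [hmem r hr]
    exact hT2 ha
  · intro r hr s hs h1 h2
    rw [hmem r hr] at h1
    rw [hmem s hs] at h2
    rw [hmem _ (mul_mem hr hs)]
    exact (Subgroup.mul_mem_iff_of_index_two hTi (a := ⟨r, hr⟩) (b := ⟨s, hs⟩)).2
      ⟨fun h => absurd h h1, fun h => absurd h h2⟩
  · have h1 : (Fx a ⊓ R).relIndex (T.map R.subtype) * (T.map R.subtype).relIndex R =
        (Fx a ⊓ R).relIndex R := by
      apply Subgroup.relIndex_mul_relIndex _ _ _ _ hle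
      rintro r ⟨hr1, hr2⟩
      rw [hmem r hr2]
      exact hT2 hr1
    rw [Subgroup.inf_relIndex_right, ← card_orb, hk] at h1
    have h2 : (T.map R.subtype).relIndex R = 2 := by
      change ((T.map R.subtype).comap R.subtype).index = 2
      rw [Subgroup.comap_map_eq_self_of_injective R.subtype_injective, hTi]
    have h3 : (Fx a ⊓ R).relIndex (T.map R.subtype) = (Fx a).relIndex (T.map R.subtype) := by
      rw [← Subgroup.inf_relIndex_right (Fx a ⊓ R), inf_assoc, inf_eq_right.2 hle,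
        Subgroup.inf_relIndex_right]
    rw [h2, h3, ← card_orb, pow_succ] at h1
    exact Nat.eq_of_mul_eq_mul_right (by norm_num) h1

end Cfsg.Agent.H25.Uniq2
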