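import Cfsg.Agent.H25.Uniq2B

set_option autoImplicit false
set_option linter.unusedSectionVars false

namespace Cfsg.Agent.H25.Uniq2

open Equiv

variable {α : Type*} [DecidableEq α] [Fintype α]

theorem eqSt {g : Perm α} {D E : Finset α} (h : ∀ b ∈ E, g b ∈ D) (hc : D.card ≤ E.card) :
    ∀ b, g b ∈ D ↔ b ∈ E := by
  have h1 : E.image g ⊆ D := by
    intro d hd
    obtain ⟨b, hb, rfl⟩ := Finset.mem_image.1 hd
    exact h b hb
  have h2 : E.image g = D := Finset.eq_of_subset_of_card_le h1 (by
    rw [Finset.card_image_of_injective _ g.injective]; exact hc)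
  intro b
  constructor
  · intro hb
    rw [← h2] at hb
    obtain ⟨c, hc, hcb⟩ := Finset.mem_image.1 hb
    rwa [← g.injective hcb]
  · exact h b

theorem pow_mem_of_St {y : Perm α} {D : Finset α} (hy : y ∈ St D) {b : α} (hb : b ∈ D) (i : ℕ) :
    (y ^ i) b ∈ D := (pow_mem hy i b).2 hb

/-- moving an orbit of `x` by `g` -/
theorem cover {g x : Perm α} {D E : Finset α} {a : α}
    (hT : ∀ b ∈ E, ∃ i : ℕ, (x ^ i) a = b) (ha : g a ∈ D) (hy : g * x * g⁻¹ ∈ St D) :
    ∀ b ∈ E, g b ∈ D := by
  intro b hb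
  obtain ⟨i, rfl⟩ := hT b hb
  have h1 := pow_mem_of_St hy ha i
  have h2 : ((g * x * g⁻¹) ^ i) (g a) = g ((x ^ i) a) := by
    rw [conj_pow, Perm.mul_apply, Perm.mul_apply, ← Perm.mul_apply g⁻¹ g, inv_mul_cancel,
      Perm.one_apply]
  rwa [h2] at h1

section

variable {A E E' : Finset α} (hA : A = E ∪ E') (hd : Disjoint E E')

include hA hd

theorem sub_left : E ⊆ A := by rw [hA]; exact Finset.subset_union_left

theorem sub_right : E' ⊆ A := by rw [hA]; exact Finset.subset_union_right

theorem St2_of_left {g : Perm α} (hg : g ∈ Sp A) (h : g ∈ St E) : g ∈ St2 E E' :=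
  Or.inl fun a => ⟨h a, (St_iff hA hd hg).1 h a⟩

theorem St2_of_swap {g : Perm α} (hg : g ∈ Sp A) (h : ∀ b, g b ∈ E' ↔ b ∈ E) : g ∈ St2 E E' := by
  refine Or.inr fun a => ⟨h a, ?_⟩
  have h2 := Sp_le_St hg a
  rw [hA, Finset.mem_union, Finset.mem_union] at h2
  constructor
  · intro h3
    rcases h2.1 (Or.inl h3) with h4 | h4
    · exact absurd ((h a).2 h4) (Finset.disjoint_left.1 hd h3)
    · exact h4
  · intro h3
    rcases h2.2 (Or.inr h3) with h4 | h4
    · exact h4
    · exact absurd h3 (Finset.disjoint_left.1 hd ((h a).1 h4))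

end

/-- Case G2: a big cycle -/
theorem caseG2 {A E E' : Finset α} {x₁ x₂ : Perm α} {P₁ P₂ : Subgroup (Perm α)}
    (hA : A = E ∪ E') (hd : Disjoint E E') (h₁ : MX E x₁ P₁) (h₂ : MX E' x₂ P₂)
    {x : Perm α} (hx : x ∈ Sp A) (hxE : x ∈ St E)
    (f1 : res E x = x₁) (f2 : res E' x = x₂) {m : ℕ} (hm : E.card = 2 ^ m)
    (hlt : E'.card < E.card)
    (hT : ∀ a ∈ E, ∀ b ∈ E, ∃ i : ℕ, (x ^ i) a = b) : MX A x (P0 A E E' P₁ P₂) := by
  have hcard : A.card = E.card + E'.card := by rw [hA, Finset.card_union_of_disjoint hd]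
  have hxE' := (St_iff hA hd hx).1 hxE
  have hxP : x ∈ P0 A E E' P₁ P₂ :=
    ⟨hx, hxE, hxE', by rw [f1]; exact h₁.mem, by rw [f2]; exact h₂.mem⟩
  refine ⟨P0_pg hA hd h₁ h₂, fun g hg => hg.1, hxP, ?_, ?_⟩
  · intro R hR hRp hxR
    have hRE : R ≤ St E := by
      intro r hr
      refine eqSt (fun b hb => ?_) le_rfl
      have h1 : E ⊆ orb R b := by
        intro c hc
        obtain ⟨i, hi⟩ := hT b hb c hc
        exact mem_orb.2 ⟨x ^ i, pow_mem hxR i, hi⟩
      have h2 : orb R b ⊆ A := orb_subset (fun r hr => Sp_le_St (hR hr)) (sub_left hA hd hb)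
      obtain ⟨k, hk⟩ := card_orb_pow hRp b
      have h3 := Finset.card_le_card h1
      have h4 := Finset.card_le_card h2
      rw [hk] at h3 h4
      rw [hm] at h3
      have h5 : k < m + 1 := by
        rw [← Nat.pow_lt_pow_iff_right (show 1 < 2 by norm_num), pow_succ, ← hm]
        omega
      have h6 : m ≤ k := (Nat.pow_le_pow_iff_right (by norm_num)).1 h3
      have h7 : k = m := by omega
      have h8 : orb R b = E := (Finset.eq_of_subset_of_card_le h1 (by rw [hk, hm, h7])).symm
      rw [← h8]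
      exact mem_orb.2 ⟨r, hr, rfl⟩
    exact P0_of hA hd h₁ h₂ hR hRp hRE hxR hxR f1 f2
  · intro g hg hn
    refine P0_norm hA hd h₁ h₂ hg ?_ hn
    have hy := (hn x hxP).2.1
    -- an element of `E` mapped into `E`
    obtain ⟨a, ha, hga⟩ : ∃ a ∈ E, g a ∈ E := by
      by_contra hcon
      push Not at hcon
      have h1 : E.image g ⊆ E' := by
        intro c hc
        obtain ⟨b, hb, rfl⟩ := Finset.mem_image.1 hc
        have h2 := (Sp_le_St hg b).2 (sub_left hA hd hb)
        rw [hA, Finset.mem_union] at h2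
        rcases h2 with h2 | h2
        · exact absurd h2 (hcon b hb)
        · exact h2
      have h3 := Finset.card_le_card h1
      rw [Finset.card_image_of_injective _ g.injective] at h3
      omega
    exact eqSt (cover (fun b hb => hT a ha b hb) hga hy) le_rfl

/-- Case G3: a cycle covering half of the set, and a fixed point -/
theorem caseG3 {A E E' : Finset α} {x₁ x₂ : Perm α} {P₁ P₂ : Subgroup (Perm α)}
    (hA : A = E ∪ E') (hd : Disjoint E E') (h₁ : MX E x₁ P₁) (h₂ : MX E' x₂ P₂)
    {x : Perm α} (hx : x ∈ Sp A) (hx2 : ∃ k, x ^ 2 ^ k = 1) (hxE : x ∈ St E)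
    (f1 : res E x = x₁) (f2 : res E' x = x₂) {m : ℕ} (hm : E.card = 2 ^ m)
    (hm' : E'.card = 2 ^ m) {a₀ b₀ : α} (ha₀ : a₀ ∈ E) (hb₀ : b₀ ∈ E') (hxb : x b₀ = b₀)
    (hT : ∀ a ∈ E, ∀ b ∈ E, ∃ i : ℕ, (x ^ i) a = b) : MX A x (W A E E' P₁ P₂) := by
  have hcard : A.card = 2 ^ (m + 1) := by
    rw [hA, Finset.card_union_of_disjoint hd, hm, hm', pow_succ]
    ring
  have hxE' := (St_iff hA hd hx).1 hxE
  refine Wr hA hd h₁ h₂ hx hx2 f1 f2 ?_ ?_
  · intro R hR hRp hxR
    by_cases hRE : R ≤ St E
    · exact ⟨R, le_rfl, fun r hr m hm => mul_mem (mul_mem hr hm) (inv_mem hr), hxR, hRE,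
        fun r hr => St2_of_left hA hd (hR hr) (hRE hr)⟩
    · -- `R` is transitive on `A`
      have hRA : R ≤ St A := fun r hr => Sp_le_St (hR hr)
      have horb : ∀ b ∈ E, orb R b = A := by
        obtain ⟨r, hr, hrE⟩ : ∃ r ∈ R, r ∉ St E := by
          by_contra hcon
          push Not at hcon
          exact hRE hcon
        intro b hb
        have h1 : E ⊆ orb R b := by
          intro c hc
          obtain ⟨i, hi⟩ := hT b hb c hc
          exact mem_orb.2 ⟨x ^ i, pow_mem hxR i, hi⟩
        have h2 : orb R b ⊆ A := orb_subset hRA (sub_left hA hd hb)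
        obtain ⟨k, hk⟩ := card_orb_pow hRp b
        have h3 := Finset.card_le_card h1
        have h4 := Finset.card_le_card h2
        rw [hk] at h3 h4
        rw [hm] at h3
        rw [hcard] at h4
        have h5 : k ≤ m + 1 := (Nat.pow_le_pow_iff_right (by norm_num)).1 h4
        have h6 : m ≤ k := (Nat.pow_le_pow_iff_right (by norm_num)).1 h3
        have h7 : k ≠ m := by
          rintro rfl
          have h8 : orb R b = E := (Finset.eq_of_subset_of_card_le h1 (by rw [hk, hm])).symm
          apply hrE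
          rw [← h8]
          exact orb_inv hr
        have h9 : k = m + 1 := by omega
        exact Finset.eq_of_subset_of_card_le h2 (by rw [hk, hcard, h9])
      have horb' : orb R b₀ = A := by
        have h1 : b₀ ∈ orb R a₀ := by rw [horb a₀ ha₀]; exact sub_right hA hd hb₀
        obtain ⟨s, hs, hsb⟩ := mem_orb.1 h1
        apply Finset.Subset.antisymm (orb_subset hRA (sub_right hA hd hb₀))
        intro c hc
        rw [← horb a₀ ha₀] at hc
        obtain ⟨t, ht, rfl⟩ := mem_orb.1 hc
        refine mem_orb.2 ⟨t * s⁻¹, mul_mem ht (inv_mem hs), ?_⟩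
        rw [Perm.mul_apply, ← hsb, ← Perm.mul_apply s⁻¹ s, inv_mul_cancel, Perm.one_apply]
      obtain ⟨M, m1, m2, m3, m4, m5⟩ := index_two hRp b₀ (k := m) (by rw [horb', hcard])
      have hxM : x ∈ M := m3 x hxR hxb
      have hME : orb M b₀ = E' := by
        have h1 : ∀ a ∈ E, a ∉ orb M b₀ := by
          intro a ha hcon
          have h2 : insert b₀ E ⊆ orb M b₀ := by
            intro c hc
            rcases Finset.mem_insert.1 hc with rfl | hc
            · exact self_mem_orb M c
            · obtain ⟨i, rfl⟩ := hT a ha c hc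
              exact (orb_inv (pow_mem hxM i) a).2 hcon
          have h3 := Finset.card_le_card h2
          rw [Finset.card_insert_of_notMem (fun h => Finset.disjoint_left.1 hd h hb₀), m5, hm] at h3
          omega
        have h4 : orb M b₀ ⊆ E' := by
          intro c hc
          have h5 := orb_subset (m1.trans hRA) (sub_right hA hd hb₀) hc
          rw [hA, Finset.mem_union] at h5
          rcases h5 with h5 | h5
          · exact absurd hc (h1 c h5)
          · exact h5
        exact Finset.eq_of_subset_of_card_le h4 (by rw [m5, hm'])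
      have hMSt' : M ≤ St E' := by rw [← hME]; exact orb_inv
      have hMSt : M ≤ St E := fun r hr => (St_iff hA hd (hR (m1 hr))).2 (hMSt' hr)
      refine ⟨M, m1, m2, hxM, hMSt, ?_⟩
      intro r hr
      by_cases hrM : r ∈ M
      · exact St2_of_left hA hd (hR hr) (hMSt hrM)
      · have hrb : r b₀ ∈ E := by
          have h5 := (hRA hr b₀).2 (sub_right hA hd hb₀)
          rw [hA, Finset.mem_union] at h5
          rcases h5 with h5 | h5
          · exact h5
          · exfalso
            rw [← hME] at h5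
            obtain ⟨s, hs, hsb⟩ := mem_orb.1 h5
            have h6 : s⁻¹ * r ∈ M := by
              apply m3 _ (mul_mem (inv_mem (m1 hs)) hr)
              rw [Perm.mul_apply, ← hsb, ← Perm.mul_apply s⁻¹ s, inv_mul_cancel, Perm.one_apply]
            apply hrM
            have := mul_mem hs h6
            rwa [mul_inv_cancel_left] at this
        have h7 : ∀ c ∈ E', r c ∈ E := by
          intro c hc
          rw [← hME] at hc
          obtain ⟨s, hs, rfl⟩ := mem_orb.1 hc
          have h8 := m2 r hr s hs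
          have h9 : r (s b₀) = (r * s * r⁻¹) (r b₀) := by
            rw [Perm.mul_apply, Perm.mul_apply, ← Perm.mul_apply r⁻¹ r, inv_mul_cancel,
              Perm.one_apply]
          rw [h9]
          exact (hMSt h8 _).2 hrb
        have h10 := eqSt h7 (by rw [hm, hm'])
        have h11 := St2_of_swap (A := A) (E := E') (E' := E) (by rw [hA, Finset.union_comm])
          hd.symm (hR hr) h10
        rcases h11 with h11 | h11
        · exact Or.inl fun a => ⟨(h11 a).2, (h11 a).1⟩
        · exact Or.inr fun a => ⟨(h11 a).2, (h11 a).1⟩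
  · intro g hg hy
    have hgb : g b₀ ∈ A := (Sp_le_St hg b₀).2 (sub_right hA hd hb₀)
    have hyfix : (g * x * g⁻¹) (g b₀) = g b₀ := by
      rw [Perm.mul_apply, Perm.mul_apply, ← Perm.mul_apply g⁻¹ g, inv_mul_cancel,
        Perm.one_apply, hxb]
    rcases hy with hy | hy
    · have hga : g a₀ ∈ A := (Sp_le_St hg a₀).2 (sub_left hA hd ha₀)
      rw [hA, Finset.mem_union] at hga
      rcases hga with hga | hga
      · exact St2_of_left hA hd hg
          (eqSt (cover (fun b hb => hT a₀ ha₀ b hb) hga fun a => (hy a).1) le_rfl)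
      · exact St2_of_swap hA hd hg
          (eqSt (cover (fun b hb => hT a₀ ha₀ b hb) hga fun a => (hy a).2) (by rw [hm, hm']))
    · exfalso
      have h1 := hy (g b₀)
      rw [hyfix] at h1
      rw [hA, Finset.mem_union] at hgb
      rcases hgb with h2 | h2
      · exact Finset.disjoint_left.1 hd h2 (h1.1.2 h2)
      · exact Finset.disjoint_left.1 hd (h1.2.2 h2) h2

end Cfsg.Agent.H25.Uniq2
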