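import Cfsg.Agent.H25.Uniq2C

set_option autoImplicit false
set_option linter.unusedSectionVars false

namespace Cfsg.Agent.H25.Uniq2

open Equiv

variable {α : Type*} [DecidableEq α] [Fintype α]

theorem pg_zpowers {x : Perm α} (hx2 : ∃ k, x ^ 2 ^ k = 1) : IsPGroup 2 (Subgroup.zpowers x) := by
  obtain ⟨k, hk⟩ := hx2
  rintro ⟨y, i, rfl⟩
  refine ⟨k, Subtype.ext ?_⟩
  change (x ^ i) ^ 2 ^ k = 1
  rw [← zpow_natCast, ← zpow_mul, mul_comm, zpow_mul, zpow_natCast, hk, one_zpow]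

/-- Case G1: a cycle -/
theorem caseG1 : ∀ (k : ℕ) (A : Finset α), A.card = 2 ^ k → ∀ x : Perm α, x ∈ Sp A →
    (∃ n, x ^ 2 ^ n = 1) → (∀ a ∈ A, ∀ b ∈ A, ∃ i : ℕ, (x ^ i) a = b) → ∃ P, MX A x P := by
  intro k
  induction k with
  | zero =>
    intro A hA x hx _ _
    rw [pow_zero, Finset.card_eq_one] at hA
    obtain ⟨a, rfl⟩ := hA
    have hbot : Sp ({a} : Finset α) = ⊥ := by
      rw [eq_bot_iff]
      intro g hg
      rw [Subgroup.mem_bot]
      ext b
      by_cases hb : b ∈ ({a} : Finset α)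
      · have h1 := (Sp_le_St hg b).2 hb
        rw [Finset.mem_singleton] at h1 hb
        rw [h1, hb]
        rfl
      · rw [hg b hb]
        rfl
    refine ⟨⊥, IsPGroup.of_bot, bot_le, ?_, ?_, ?_⟩
    · rw [← hbot]; exact hx
    · intro R hR _ _
      rw [← hbot]; exact hR
    · intro g hg _
      rw [← hbot]; exact hg
  | succ k ih =>
    intro A hA x hx hx2 hT
    obtain ⟨a₀, ha₀⟩ : A.Nonempty := by
      rw [← Finset.card_pos, hA]
      exact pow_pos (by norm_num) _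
    have hlt : 2 ^ k < A.card := by rw [hA]; exact Nat.pow_lt_pow_right (by norm_num) (by omega)
    have horb : ∀ R : Subgroup (Perm α), R ≤ Sp A → x ∈ R → orb R a₀ = A := by
      intro R hR hxR
      apply Finset.Subset.antisymm (orb_subset (fun r hr => Sp_le_St (hR hr)) ha₀)
      intro b hb
      obtain ⟨i, hi⟩ := hT a₀ ha₀ b hb
      exact mem_orb.2 ⟨x ^ i, pow_mem hxR i, hi⟩
    set Z := Subgroup.zpowers (x ^ 2) with hZ
    set E := orb Z a₀ with hE
    -- for any `R`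
    have hR : ∀ R : Subgroup (Perm α), R ≤ Sp A → IsPGroup 2 R → x ∈ R →
        ∃ M : Subgroup (Perm α), M ≤ R ∧ (∀ r ∈ R, ∀ m ∈ M, r * m * r⁻¹ ∈ M) ∧
          (∀ r ∈ R, r a₀ = a₀ → r ∈ M) ∧ (∀ r ∈ R, ∀ s ∈ R, r ∉ M → s ∉ M → r * s ∈ M) ∧
          (orb M a₀).card = 2 ^ k ∧ x ∉ M ∧ x ^ 2 ∈ M := by
      intro R hRA hRp hxR
      obtain ⟨M, m1, m2, m3, m4, m5⟩ := index_two hRp a₀ (k := k) (by rw [horb R hRA hxR, hA])
      have hxM : x ∉ M := by
        intro h
        have := horb M (m1.trans hRA) h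
        rw [this] at m5
        omega
      refine ⟨M, m1, m2, m3, m4, m5, hxM, ?_⟩
      rw [pow_two]
      exact m4 x hxR x hxR hxM hxM
    have hzx : Subgroup.zpowers x ≤ Sp A := by rw [Subgroup.zpowers_le]; exact hx
    obtain ⟨M₀, m1, m2, m3, m4, m5, m6, m7⟩ := hR _ hzx (pg_zpowers hx2) (Subgroup.mem_zpowers x)
    have hZM : Z ≤ M₀ := by rw [hZ, Subgroup.zpowers_le]; exact m7
    have hMZ : M₀ ≤ Z := by
      intro m hm
      obtain ⟨i, rfl⟩ := Subgroup.mem_zpowers_iff.1 (m1 hm)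
      rcases Int.even_or_odd' i with ⟨j, rfl | rfl⟩
      · refine Subgroup.mem_zpowers_iff.2 ⟨j, ?_⟩
        rw [← zpow_natCast, ← zpow_mul]
        rfl
      · exfalso
        apply m6
        have h1 : (x ^ 2) ^ (-j) ∈ M₀ := zpow_mem m7 _
        have h2 := mul_mem hm h1
        have h3 : x ^ (2 * j + 1) * (x ^ 2) ^ (-j) = x := by
          rw [← zpow_natCast, ← zpow_mul, ← zpow_add]
          have : 2 * j + 1 + ((2 : ℕ) : ℤ) * -j = 1 := by push_cast; ring
          rw [this, zpow_one]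
        rwa [h3] at h2
    have hMZ' : M₀ = Z := le_antisymm hMZ hZM
    have hEcard : E.card = 2 ^ k := by rw [hE, ← hMZ', m5]
    have hEA : E ⊆ A := orb_subset (fun r hr => by
      rw [hZ] at hr
      exact Sp_le_St ((Subgroup.zpowers_le.2 (pow_mem hx 2) : _ ≤ Sp A) hr)) ha₀
    set E' := A \ E with hE'
    have hAE : A = E ∪ E' := by rw [hE', Finset.union_sdiff_of_subset hEA]
    have hd : Disjoint E E' := Finset.disjoint_sdiff
    have hE'card : E'.card = 2 ^ k := by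
      rw [hE', Finset.card_sdiff_of_subset hEA, hA, hEcard, pow_succ]
      omega
    have hxa₀ : x a₀ ∉ E := by
      intro h
      rw [hE, ← hMZ'] at h
      obtain ⟨m, hm, hma⟩ := mem_orb.1 h
      have h1 : m⁻¹ * x ∈ M₀ := by
        apply m3 _ (mul_mem (inv_mem (m1 hm)) (Subgroup.mem_zpowers x))
        rw [Perm.mul_apply, ← hma, ← Perm.mul_apply m⁻¹ m, inv_mul_cancel, Perm.one_apply]
      have h2 := mul_mem hm h1
      rw [mul_inv_cancel_left] at h2
      exact m6 h2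
    have hswap : ∀ b ∈ E, x b ∈ E' := by
      intro b hb
      rw [hE', Finset.mem_sdiff]
      refine ⟨(Sp_le_St hx b).2 (hEA hb), fun h => hxa₀ ?_⟩
      obtain ⟨m, hm, rfl⟩ := mem_orb.1 hb
      have hcomm : x * m = m * x := by
        obtain ⟨i, rfl⟩ := Subgroup.mem_zpowers_iff.1 hm
        exact ((Commute.refl x).pow_right 2).zpow_right i
      have h1 : x (m a₀) = m (x a₀) := by rw [← Perm.mul_apply, hcomm, Perm.mul_apply]
      rw [h1] at h
      exact (orb_inv hm _).1 h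
    have hsw := eqSt hswap (by rw [hEcard, hE'card])
    have hxSt2 : x ∈ St2 E E' := St2_of_swap hAE hd hx hsw
    have hsw' : ∀ b, x b ∈ E ↔ b ∈ E' := by
      rcases hxSt2 with h | h
      · exact absurd ((h a₀).1.2 (self_mem_orb Z a₀)) hxa₀
      · exact fun b => (h b).2
    have hzA : x ^ 2 ∈ Sp A := pow_mem hx 2
    have hzE : x ^ 2 ∈ St E := orb_inv (Subgroup.mem_zpowers _)
    have hzE' : x ^ 2 ∈ St E' := (St_iff hAE hd hzA).1 hzE
    have hz2 : ∃ n, (x ^ 2) ^ 2 ^ n = 1 := by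
      obtain ⟨n, hn⟩ := hx2
      exact ⟨n, by rw [← pow_mul, mul_comm, pow_mul, hn, one_pow]⟩
    have hTE : ∀ a ∈ E, ∀ b ∈ E, ∃ i : ℕ, ((x ^ 2) ^ i) a = b := by
      intro a ha b hb
      obtain ⟨m, hm, rfl⟩ := mem_orb.1 ha
      obtain ⟨m', hm', rfl⟩ := mem_orb.1 hb
      have h1 : m' * m⁻¹ ∈ Subgroup.zpowers (x ^ 2) := mul_mem hm' (inv_mem hm)
      obtain ⟨i, hi⟩ := (mem_powers_iff_mem_zpowers.2 h1)
      refine ⟨i, ?_⟩
      have hi' : (x ^ 2) ^ i = m' * m⁻¹ := hi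
      rw [hi', Perm.mul_apply, ← Perm.mul_apply m⁻¹ m, inv_mul_cancel, Perm.one_apply]
    have hTE' : ∀ a ∈ E', ∀ b ∈ E', ∃ i : ℕ, ((x ^ 2) ^ i) a = b := by
      intro a ha b hb
      obtain ⟨i, hi⟩ := hTE (x a) ((hsw' a).2 ha) (x b) ((hsw' b).2 hb)
      refine ⟨i, x.injective ?_⟩
      rw [← hi, ← Perm.mul_apply, ← Perm.mul_apply, ← pow_mul, ← pow_succ, ← pow_succ']
    have hsub : ∀ (D : Finset α), x ^ 2 ∈ St D → (∀ a ∈ D, ∀ b ∈ D, ∃ i : ℕ, ((x ^ 2) ^ i) a = b) →
        D.card = 2 ^ k → ∃ P, MX D (res D (x ^ 2)) P := by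
      intro D hD hTD hDc
      refine ih D hDc _ (res_mem hD) ?_ ?_
      · obtain ⟨n, hn⟩ := hz2
        exact ⟨n, by rw [← res_pow hD, hn, res_one]⟩
      · intro a ha b hb
        obtain ⟨i, hi⟩ := hTD a ha b hb
        refine ⟨i, ?_⟩
        rw [← res_pow hD, res_apply (pow_mem hD i), if_pos ha, hi]
    obtain ⟨P₁, h₁⟩ := hsub E hzE hTE hEcard
    obtain ⟨P₂, h₂⟩ := hsub E' hzE' hTE' hE'card
    refine ⟨_, Wr hAE hd h₁ h₂ hx hx2 rfl rfl ?_ ?_⟩
    · intro R hRA hRp hxR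
      obtain ⟨M, n1, n2, n3, n4, n5, n6, n7⟩ := hR R hRA hRp hxR
      have hME : orb M a₀ = E := by
        symm
        apply Finset.eq_of_subset_of_card_le
        · exact orb_mono (by rw [hZ, Subgroup.zpowers_le]; exact n7) a₀
        · rw [n5, hEcard]
      have hMSt : M ≤ St E := by rw [← hME]; exact orb_inv
      refine ⟨M, n1, n2, n7, hMSt, ?_⟩
      intro r hr
      by_cases hrM : r ∈ M
      · exact St2_of_left hAE hd (hRA hr) (hMSt hrM)
      · have h1 : r * x ∈ M := n4 r hr x hxR hrM n6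
        have h2 : r * x ∈ St2 E E' := St2_of_left hAE hd (hRA (n1 h1)) (hMSt h1)
        have h3 := mul_mem h2 (inv_mem hxSt2)
        rwa [mul_inv_cancel_right] at h3
    · intro g hg hy
      have hga : g a₀ ∈ A := (Sp_le_St hg a₀).2 ha₀
      rw [hAE, Finset.mem_union] at hga
      have hcon : ∀ D : Finset α, D.card = 2 ^ k → g * x * g⁻¹ ∈ St D → g a₀ ∈ D → False := by
        intro D hDc hD h
        have h1 := cover (fun b hb => hT a₀ ha₀ b hb) h hD
        have h2 : A.image g ⊆ D := by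
          intro c hc
          obtain ⟨b, hb, rfl⟩ := Finset.mem_image.1 hc
          exact h1 b hb
        have h3 := Finset.card_le_card h2
        rw [Finset.card_image_of_injective _ g.injective] at h3
        omega
      rcases hy with hy | hy
      · exfalso
        rcases hga with hga | hga
        · exact hcon E hEcard (fun a => (hy a).1) hga
        · exact hcon E' hE'card (fun a => (hy a).2) hga
      · have hy2 : ∀ a, ((g * x ^ 2 * g⁻¹) a ∈ E ↔ a ∈ E) ∧ ((g * x ^ 2 * g⁻¹) a ∈ E' ↔ a ∈ E') := by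
          intro a
          have : g * x ^ 2 * g⁻¹ = (g * x * g⁻¹) * (g * x * g⁻¹) := by rw [pow_two]; group
          rw [this, Perm.mul_apply, (hy _).1, (hy _).2, (hy _).1, (hy _).2]
          exact ⟨Iff.rfl, Iff.rfl⟩
        rcases hga with hga | hga
        · exact St2_of_left hAE hd hg
            (eqSt (cover (fun b hb => hTE a₀ (self_mem_orb Z a₀) b hb) hga fun a => (hy2 a).1) le_rfl)
        · exact St2_of_swap hAE hd hg
            (eqSt (cover (fun b hb => hTE a₀ (self_mem_orb Z a₀) b hb) hga fun a => (hy2 a).2)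
              (by rw [hEcard, hE'card]))

end Cfsg.Agent.H25.Uniq2
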