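import Cfsg.Agent.H25.Uniq2D

set_option autoImplicit false
set_option linter.unusedSectionVars false

namespace Cfsg.Agent.H25.Uniq2

open Equiv

variable {α : Type*} [DecidableEq α] [Fintype α]

theorem sum_pow_two (i : ℕ) (hi : 1 ≤ i) : ∑ j ∈ Finset.Ico 1 i, 2 ^ j + 2 = 2 ^ i := by
  induction i, hi using Nat.le_induction with
  | base => simp
  | succ i hi ih =>
    rw [Finset.sum_Ico_succ_top hi, pow_succ]
    omega

theorem sum_bound (s : Multiset ℕ) (hs : s.Nodup) (i : ℕ) (hi : 1 ≤ i)
    (h : ∀ k ∈ s, ∃ j, 1 ≤ j ∧ j < i ∧ k = 2 ^ j) : s.sum + 2 ≤ 2 ^ i := by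
  classical
  have h1 : s.sum = ∑ k ∈ s.toFinset, k := by
    rw [Finset.sum_multiset_count]
    refine Finset.sum_congr rfl fun k hk => ?_
    rw [Multiset.count_eq_one_of_mem hs (Multiset.mem_toFinset.1 hk), one_smul]
  have h2 : s.toFinset ⊆ (Finset.Ico 1 i).image (fun j => 2 ^ j) := by
    intro k hk
    obtain ⟨j, h1, h2, h3⟩ := h k (Multiset.mem_toFinset.1 hk)
    exact Finset.mem_image.2 ⟨j, Finset.mem_Ico.2 ⟨h1, h2⟩, h3.symm⟩
  have h3 := Finset.sum_le_sum_of_subset (f := fun k : ℕ => k) h2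
  rw [Finset.sum_image (fun a _ b _ hab => Nat.pow_right_injective le_rfl hab)] at h3
  have h4 := sum_pow_two i hi
  rw [h1]
  omega

theorem mem_Sp_iff {A : Finset α} {g : Perm α} : g ∈ Sp A ↔ g.support ⊆ A := by
  rw [mem_Sp]
  constructor
  · intro h a ha
    by_contra hcon
    exact (Perm.mem_support.1 ha) (h a hcon)
  · intro h a ha
    by_contra hcon
    exact ha (h (Perm.mem_support.2 hcon))

theorem res_cycle {x c : Perm α} (hc : c ∈ x.cycleFactorsFinset) :
    x ∈ St c.support ∧ res c.support x = c := by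
  have h1 : x ∈ St c.support := fun a => Perm.mem_cycleFactorsFinset_support hc a
  refine ⟨h1, ?_⟩
  ext a
  rw [res_apply h1]
  by_cases ha : a ∈ c.support
  · rw [if_pos ha, (Perm.mem_cycleFactorsFinset_iff.1 hc).2 a ha]
  · rw [if_neg ha, Perm.notMem_support.1 ha]

theorem trans_cycle {x c : Perm α} (hc : c ∈ x.cycleFactorsFinset) :
    ∀ a ∈ c.support, ∀ b ∈ c.support, ∃ i : ℕ, (x ^ i) a = b := by
  intro a ha b hb
  obtain ⟨h1, h2⟩ := res_cycle hc
  obtain ⟨i, hi⟩ := (Perm.mem_cycleFactorsFinset_iff.1 hc).1.exists_pow_eq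
    (Perm.mem_support.1 ha) (Perm.mem_support.1 hb)
  refine ⟨i, ?_⟩
  rw [← hi]
  conv_rhs => rw [← h2, ← res_pow h1, res_apply (pow_mem h1 i), if_pos ha]

theorem main : ∀ (N : ℕ) (A : Finset α) (x : Perm α), x.support.card = N → x ∈ Sp A →
    (∃ k, x ^ 2 ^ k = 1) → x.cycleType.Nodup → (∀ k ∈ x.cycleType, ∃ i, k = 2 ^ i) →
    A.card ≤ x.support.card + 2 → ∃ P, MX A x P := by
  classical
  intro N
  induction N using Nat.strong_induction_on with
  | _ N ih =>
  intro A x hN hx hx2 hnd hpow hcard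
  by_cases hx1 : x = 1
  · -- at most two points
    subst hx1
    rw [Perm.support_one, Finset.card_empty, zero_add] at hcard
    refine ⟨Sp A, ?_, le_rfl, one_mem _, fun R hR _ _ => hR, fun g hg _ => hg⟩
    rintro ⟨g, hg⟩
    refine ⟨1, Subtype.ext ?_⟩
    change g ^ 2 ^ 1 = 1
    rw [pow_one, pow_two]
    ext a
    rw [Perm.mul_apply, Perm.one_apply]
    by_contra hcon
    have h1 : g a ≠ a := by
      intro h
      rw [h, h] at hcon
      exact hcon rfl
    have ha : a ∈ A := by
      by_contra h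
      exact h1 (hg a h)
    have hga : g a ∈ A := (Sp_le_St hg a).2 ha
    have hgga : g (g a) ∈ A := (Sp_le_St hg _).2 hga
    have h2 : g (g a) ≠ g a := fun h => h1 (g.injective h)
    have h3 : ({a, g a, g (g a)} : Finset α) ⊆ A := by
      intro b hb
      simp only [Finset.mem_insert, Finset.mem_singleton] at hb
      rcases hb with rfl | rfl | rfl <;> assumption
    have h4 := Finset.card_le_card h3
    rw [Finset.card_insert_of_notMem (by
      simp only [Finset.mem_insert, Finset.mem_singleton, not_or]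
      exact ⟨fun h => h1 h.symm, fun h => hcon h.symm⟩),
      Finset.card_insert_of_notMem (by
        rw [Finset.mem_singleton]
        exact fun h => h2 h.symm), Finset.card_singleton] at h4
    omega
  · have hne : x.cycleFactorsFinset.Nonempty := by
      rw [Finset.nonempty_iff_ne_empty]
      intro h
      exact hx1 (Perm.cycleFactorsFinset_eq_empty_iff.1 h)
    obtain ⟨c, hc, hcmax⟩ := Finset.exists_max_image x.cycleFactorsFinset
      (fun c => c.support.card) hne
    have hcc : c.IsCycle := (Perm.mem_cycleFactorsFinset_iff.1 hc).1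
    set E := c.support with hE
    have hcT : E.card ∈ x.cycleType := by
      rw [Perm.cycleType_def]
      exact Multiset.mem_map.2 ⟨c, hc, rfl⟩
    obtain ⟨m, hm⟩ := hpow _ hcT
    have hE2 : 2 ≤ E.card := hcc.two_le_card_support
    have hm1 : 1 ≤ m := by
      rcases Nat.eq_zero_or_pos m with rfl | h
      · rw [pow_zero] at hm; omega
      · exact h
    obtain ⟨hxE, hresE⟩ := res_cycle hc
    have hEx : E ⊆ x.support := by
      intro a ha
      rw [Perm.mem_support, ← (Perm.mem_cycleFactorsFinset_iff.1 hc).2 a ha]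
      exact Perm.mem_support.1 ha
    have hEA : E ⊆ A := hEx.trans (mem_Sp_iff.1 hx)
    set E' := A \ E with hE'
    have hAE : A = E ∪ E' := by rw [hE', Finset.union_sdiff_of_subset hEA]
    have hd : Disjoint E E' := Finset.disjoint_sdiff
    have hxE' := (St_iff hAE hd hx).1 hxE
    set x' := x * c⁻¹ with hx'
    have hdis : x'.Disjoint c := Perm.disjoint_mul_inv_of_mem_cycleFactorsFinset hc
    have hxx : x = x' * c := by rw [hx', inv_mul_cancel_right]
    have hct : x.cycleType = x'.cycleType + {E.card} := by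
      conv_lhs => rw [hxx]
      rw [hdis.cycleType_mul, hcc.cycleType]
    have hsupp : x.support.card = x'.support.card + E.card := by
      conv_lhs => rw [hxx]
      exact hdis.card_support_mul
    have hresE' : res E' x = x' := by
      have h1 := split hAE hd hx hxE
      rw [hresE] at h1
      have hcomm : c * res E' x = res E' x * c := by
        have h2 := split (E := E') (E' := E) (by rw [hAE, Finset.union_comm]) hd.symm hx hxE'
        rw [hresE] at h2
        exact h1.symm.trans h2
      rw [hx']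
      conv_rhs => rw [h1]
      rw [hcomm, mul_inv_cancel_right]
    have hx'E' : x' ∈ Sp E' := by rw [← hresE']; exact res_mem hxE'
    have hndx' : x'.cycleType.Nodup := (Multiset.nodup_add.1 (hct ▸ hnd)).1
    have hx'2 : ∃ k, x' ^ 2 ^ k = 1 := by
      obtain ⟨k, hk⟩ := hx2
      exact ⟨k, by rw [← hresE', ← res_pow hxE', hk, res_one]⟩
    have hpow' : ∀ k ∈ x'.cycleType, ∃ i, k = 2 ^ i := by
      intro k hk
      apply hpow
      rw [hct]
      exact Multiset.mem_add.2 (Or.inl hk)
    have hcardA : A.card = E.card + E'.card := by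
      conv_lhs => rw [hAE]
      rw [Finset.card_union_of_disjoint hd]
    have hcard' : E'.card ≤ x'.support.card + 2 := by omega
    have hbound : x'.support.card + 2 ≤ 2 ^ m := by
      rw [← Perm.sum_cycleType]
      refine sum_bound _ hndx' m hm1 fun k hk => ?_
      obtain ⟨j, rfl⟩ := hpow' k hk
      have hk2 : 2 ≤ 2 ^ j := Perm.two_le_of_mem_cycleType hk
      refine ⟨j, ?_, ?_, rfl⟩
      · rcases Nat.eq_zero_or_pos j with rfl | h
        · rw [pow_zero] at hk2; omega
        · exact h
      · have h1 : 2 ^ j ≤ E.card := by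
          have h2 : 2 ^ j ∈ x.cycleType := by
            rw [hct]
            exact Multiset.mem_add.2 (Or.inl hk)
          rw [Perm.cycleType_def] at h2
          obtain ⟨e, he, hek⟩ := Multiset.mem_map.1 h2
          rw [← hek]
          exact hcmax e he
        have h2 : 2 ^ j ≠ E.card := by
          intro h3
          have h4 := (Multiset.nodup_add.1 (hct ▸ hnd)).2.2
          exact (Multiset.disjoint_left.1 h4 hk) (by rw [h3]; exact Multiset.mem_singleton_self _)
        rw [hm] at h1 h2
        have h3 := (Nat.pow_le_pow_iff_right (by norm_num)).1 h1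
        have h4 : j ≠ m := fun h => h2 (by rw [h])
        omega
    obtain ⟨P₂, h₂⟩ := ih x'.support.card (by omega) E' x' rfl hx'E' hx'2 hndx' hpow' hcard'
    have hc2 : ∃ k, c ^ 2 ^ k = 1 := by
      obtain ⟨k, hk⟩ := hx2
      exact ⟨k, by rw [← hresE, ← res_pow hxE, hk, res_one]⟩
    have hcE : c ∈ Sp E := mem_Sp_iff.2 subset_rfl
    obtain ⟨P₁, h₁⟩ := caseG1 m E hm c hcE hc2 (by
      intro a ha b hb
      exact hcc.exists_pow_eq (Perm.mem_support.1 ha) (Perm.mem_support.1 hb))
    have hT := trans_cycle hc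
    by_cases hlt : E'.card < E.card
    · exact ⟨_, caseG2 hAE hd h₁ h₂ hx hxE hresE hresE' hm hlt hT⟩
    · have hE'card : E'.card = 2 ^ m := by omega
      obtain ⟨a₀, ha₀⟩ : E.Nonempty := by
        rw [← Finset.card_pos]; omega
      obtain ⟨b₀, hb₀, hb₀'⟩ : ∃ b ∈ E', b ∉ x'.support := by
        by_contra hcon
        push Not at hcon
        have := Finset.card_le_card (show E' ⊆ x'.support from hcon)
        omega
      have hxb : x b₀ = b₀ := by
        have h1 : x' b₀ = b₀ := Perm.notMem_support.1 hb₀'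
        rw [← hresE', res_apply hxE', if_pos hb₀] at h1
        exact h1
      exact ⟨_, caseG3 hAE hd h₁ h₂ hx hx2 hxE hresE hresE' hm hE'card ha₀ hb₀ hxb hT⟩

/-- commuting elements -/
theorem pg_comm {x s : Perm α} (hx : IsPGroup 2 (Subgroup.zpowers x))
    (hs : IsPGroup 2 (Subgroup.zpowers s)) (h : x * s = s * x) :
    IsPGroup 2 (Subgroup.zpowers x ⊔ Subgroup.zpowers s : Subgroup (Perm α)) := by
  refine hx.to_sup_of_normal_right' hs ?_
  rw [Subgroup.zpowers_le, Subgroup.mem_normalizer_iff]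
  have key : ∀ i : ℤ, x * s ^ i * x⁻¹ = s ^ i := by
    intro i
    have : Commute x (s ^ i) := (show Commute x s from h).zpow_right i
    rw [this.eq, mul_inv_cancel_right]
  intro y
  constructor
  · rintro ⟨i, rfl⟩
    change x * s ^ i * x⁻¹ ∈ Subgroup.zpowers s
    rw [key]
    exact zpow_mem (Subgroup.mem_zpowers s) i
  · rintro ⟨i, hi⟩
    have h1 : x * y * x⁻¹ = s ^ i := hi.symm
    have h2 : y = x⁻¹ * s ^ i * x := by rw [← h1]; group
    have h3 : x⁻¹ * s ^ i * x = s ^ i := by
      rw [mul_assoc, ← (show Commute x (s ^ i) from (show Commute x s from h).zpow_right i).eq,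
        inv_mul_cancel_left]
    change y ∈ Subgroup.zpowers s
    rw [h2, h3]
    exact zpow_mem (Subgroup.mem_zpowers s) i

theorem no_three {P : Subgroup (Perm α)} (hP : IsPGroup 2 P) {t : Perm α} (ht : t ∈ P)
    (h3 : orderOf t = 3) : False := by
  obtain ⟨k, hk⟩ := hP ⟨t, ht⟩
  have hk' : t ^ 2 ^ k = 1 := congrArg Subtype.val hk
  have h1 := orderOf_dvd_of_pow_eq_one hk'
  rw [h3] at h1
  have h2 := Nat.Prime.dvd_of_dvd_pow Nat.prime_three h1
  omega

theorem pow_cycle {x c : Perm α} (hc : c ∈ x.cycleFactorsFinset) {u : α} (hu : u ∈ c.support)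
    (k : ℕ) : (x ^ k) u = u ↔ c.support.card ∣ k := by
  obtain ⟨h1, h2⟩ := res_cycle hc
  have hcc : c.IsCycle := (Perm.mem_cycleFactorsFinset_iff.1 hc).1
  have h3 : (x ^ k) u = (c ^ k) u := by
    conv_rhs => rw [← h2, ← res_pow h1, res_apply (pow_mem h1 k), if_pos hu]
  rw [h3, ← hcc.orderOf, orderOf_dvd_iff_pow_eq_one]
  constructor
  · intro h
    by_contra hcon
    exact hcon ((hcc.pow_eq_one_iff' (Perm.mem_support.1 hu)).2 h)
  · intro h
    rw [h]
    rfl

/-- two cycles of the same length give a transposition -/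
theorem swap_mem {x c₁ c₂ : Perm α} (hx : IsPGroup 2 (Subgroup.zpowers x))
    (hc₁ : c₁ ∈ x.cycleFactorsFinset)
    (hc₂ : c₂ ∈ x.cycleFactorsFinset) (hne : c₁ ≠ c₂) (hcard : c₁.support.card = c₂.support.card)
    {u v : α} (hu : u ∈ c₁.support) (hv : v ∈ c₂.support) :
    ∃ K : Subgroup (Perm α), IsPGroup 2 K ∧ x ∈ K ∧ swap u v ∈ K := by
  have hd : Disjoint c₁.support c₂.support :=
    Perm.disjoint_iff_disjoint_support.1 (Perm.cycleFactorsFinset_pairwise_disjoint x hc₁ hc₂ hne)
  have hui : ∀ i : ℕ, (x ^ i) u ∈ c₁.support := fun i =>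
    pow_mem_of_St (res_cycle hc₁).1 hu i
  have hvi : ∀ i : ℕ, (x ^ i) v ∈ c₂.support := fun i =>
    pow_mem_of_St (res_cycle hc₂).1 hv i
  have huv : ∀ i j : ℕ, (x ^ i) u ≠ (x ^ j) v := fun i j h =>
    Finset.disjoint_left.1 hd (hui i) (h ▸ hvi j)
  have hiff : ∀ i j : ℕ, (x ^ i) u = (x ^ j) u ↔ (x ^ i) v = (x ^ j) v := by
    have key : ∀ i j : ℕ, i ≤ j → ((x ^ i) u = (x ^ j) u ↔ (x ^ i) v = (x ^ j) v) := by
      intro i j hij
      obtain ⟨k, rfl⟩ := Nat.exists_eq_add_of_le hij
      rw [pow_add, Perm.mul_apply, Perm.mul_apply, (x ^ i).injective.eq_iff,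
        (x ^ i).injective.eq_iff, eq_comm, pow_cycle hc₁ hu, eq_comm, pow_cycle hc₂ hv, hcard]
    intro i j
    rcases le_total i j with h | h
    · exact key i j h
    · rw [eq_comm, key j i h, eq_comm]
  set T : Set (Perm α) := {s | ∃ i : ℕ, s = swap ((x ^ i) u) ((x ^ i) v)} with hT
  have hTcomm : ∀ s ∈ T, ∀ t ∈ T, s * t = t * s := by
    rintro _ ⟨i, rfl⟩ _ ⟨j, rfl⟩
    by_cases h : (x ^ i) u = (x ^ j) u
    · rw [h, (hiff i j).1 h]
    · have h' : (x ^ i) v ≠ (x ^ j) v := fun h2 => h ((hiff i j).2 h2)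
      refine (Perm.Disjoint.commute ?_).eq
      apply Perm.disjoint_swap_swap
      simp only [List.nodup_cons, List.mem_cons, List.not_mem_nil, or_false, not_or,
        List.nodup_nil, and_true, not_false_eq_true]
      exact ⟨⟨huv i i, h, huv i j⟩, ⟨fun h3 => huv j i h3.symm, h'⟩, huv j j⟩
  set W' := Subgroup.closure T with hW'
  have hcent : W' ≤ Subgroup.centralizer (W' : Set (Perm α)) := by
    have h1 : W' ≤ Subgroup.centralizer T := by
      rw [hW', Subgroup.closure_le]
      intro s hs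
      rw [SetLike.mem_coe, Subgroup.mem_centralizer_iff]
      intro t ht
      exact hTcomm t ht s hs
    rw [hW', Subgroup.closure_le]
    intro s hs
    rw [SetLike.mem_coe, Subgroup.mem_centralizer_iff]
    intro t ht
    exact ((Subgroup.mem_centralizer_iff.1 (h1 ht)) s hs).symm
  have hsq : ∀ w ∈ W', w * w = 1 := by
    intro w hw
    induction hw using Subgroup.closure_induction with
    | mem s hs =>
      obtain ⟨i, rfl⟩ := hs
      exact swap_mul_self _ _
    | one => exact one_mul _
    | mul a b ha hb iha ihb =>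
      have h1 : b * a = a * b := (Subgroup.mem_centralizer_iff.1 (hcent ha)) b hb
      calc a * b * (a * b) = a * (b * a) * b := by group
        _ = (a * a) * (b * b) := by rw [h1]; group
        _ = 1 := by rw [iha, ihb, one_mul]
    | inv a _ iha => rw [← mul_inv_rev, iha, inv_one]
  have hpgW : IsPGroup 2 W' := by
    rintro ⟨w, hw⟩
    exact ⟨1, Subtype.ext (by
      change w ^ 2 ^ 1 = 1
      rw [pow_one, pow_two]
      exact hsq w hw)⟩
  have hconj : ∀ w ∈ W', x * w * x⁻¹ ∈ W' := by
    intro w hw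
    induction hw using Subgroup.closure_induction with
    | mem s hs =>
      obtain ⟨i, rfl⟩ := hs
      apply Subgroup.subset_closure
      refine ⟨i + 1, ?_⟩
      rw [mul_swap_eq_swap_mul, mul_inv_cancel_right, pow_succ', Perm.mul_apply, Perm.mul_apply]
    | one => rw [mul_one, mul_inv_cancel]; exact one_mem _
    | mul a b ha hb iha ihb =>
      have : x * (a * b) * x⁻¹ = (x * a * x⁻¹) * (x * b * x⁻¹) := by group
      rw [this]
      exact mul_mem iha ihb
    | inv a _ iha =>
      have : x * a⁻¹ * x⁻¹ = (x * a * x⁻¹)⁻¹ := by group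
      rw [this]
      exact inv_mem iha
  refine ⟨Subgroup.zpowers x ⊔ W', ?_, ?_, ?_⟩
  · refine hx.to_sup_of_normal_right' hpgW ?_
    rw [Subgroup.zpowers_le, Subgroup.mem_normalizer_iff]
    intro y
    refine ⟨hconj y, fun h => ?_⟩
    have h1 := norm_inv hconj _ h
    have h2 : x⁻¹ * (x * y * x⁻¹) * x = y := by group
    rwa [h2] at h1
  · exact (le_sup_left : Subgroup.zpowers x ≤ _) (Subgroup.mem_zpowers x)
  · refine (le_sup_right : W' ≤ _) (Subgroup.subset_closure ⟨0, ?_⟩)
    rw [pow_zero]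
    rfl

end Cfsg.Agent.H25.Uniq2
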